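import Mathlib
/-!
Team project S1158 (helper45): the small Ree group `²G₂(q)`, `q = 3^(2m+1) ≥ 27`, has cyclic
subgroups of orders `(q-1)/2`, `(q+1)/4`, `q - r + 1`, `q + r + 1` (`r = 3^(m+1)`) whose
normalisers have orders `2(q-1)`, `6(q+1)`, `6(q-r+1)`, `6(q+r+1)`, and `N(A₀) = N(A)` for
`1 ≠ A₀ ≤ A`.

This file: exact statements (as `Prop`-valued definitions) of the pieces that need only Mathlib.
-/
set_option autoImplicit false

namespace Cfsg.Agent.H45.S8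

universe u v

/-- `q = 3^(2m+1)` -/
def qq (m : ℕ) : ℕ := 3 ^ (2 * m + 1)

/-- `r = 3^(m+1)` -/
def rr (m : ℕ) : ℕ := 3 ^ (m + 1)

/-- `M = q² - q + 1 = (q+r+1)(q-r+1)` -/
def MM (m : ℕ) : ℕ := qq m ^ 2 - qq m + 1

/-- `k = (q+1)/4` -/
def kk (m : ℕ) : ℕ := (qq m + 1) / 4

/-- `|²G₂(q)| = q³(q-1)(q³+1)` -/
def GG (m : ℕ) : ℕ := qq m ^ 3 * (qq m - 1) * (qq m ^ 3 + 1)

/-- three times the number of non-trivial elements of order dividing `M` -/
def TT (m : ℕ) : ℕ := qq m ^ 4 * (qq m - 1) * (qq m - 2) * (qq m + 1)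

/-! ### sets of elements -/

/-- non-trivial elements of order dividing `M` -/
def TorSet (G : Type u) [Group G] (M : ℕ) : Set G := {t | t ≠ 1 ∧ t ^ M = 1}

/-- elements `g` with `g^d ≠ 1` that are conjugate into `C` -/
def ConjSet {G : Type u} [Group G] (C : Subgroup G) (d : ℕ) : Set G :=
  {g | g ^ d ≠ 1 ∧ ∃ c : G, c * g * c⁻¹ ∈ C}

/-- involutions -/
def InvSet (G : Type u) [Group G] : Set G := {g | g ≠ 1 ∧ g * g = 1}

/-- fixed-point-free elements -/
def FpfSet (G : Type u) [Group G] (Ω : Type v) [MulAction G Ω] : Set G := {g | ∀ x : Ω, g • x ≠ x}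

/-- elements whose order is divisible by a prime divisor of `k` -/
def GamSet (G : Type u) [Group G] (k : ℕ) : Set G :=
  {g | ∃ s : ℕ, s.Prime ∧ s ∣ k ∧ s ∣ orderOf g}

/-! ### hypotheses on a group -/

/-- centralisers of elements of prime order dividing `M` are commutative -/
def HAb (G : Type u) [Group G] (M : ℕ) : Prop :=
  ∀ y : G, (orderOf y).Prime → orderOf y ∣ M →
    ∀ c₁ c₂ : G, c₁ * y = y * c₁ → c₂ * y = y * c₂ → c₁ * c₂ = c₂ * c₁

/-- centralisers of elements of prime order dividing `M` have order dividing `M` -/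
def HDvd (G : Type u) [Group G] (M : ℕ) : Prop :=
  ∀ y : G, (orderOf y).Prime → orderOf y ∣ M →
    Nat.card ↥(Subgroup.centralizer ({y} : Set G)) ∣ M

/-- an element normalising `⟨y⟩` (`y` of prime order dividing `M`) has its 6th power in `C(y)` -/
def HSix (G : Type u) [Group G] (M : ℕ) : Prop :=
  ∀ y g : G, (orderOf y).Prime → orderOf y ∣ M → g * y * g⁻¹ ∈ Subgroup.zpowers y →
    g ^ 6 * y = y * g ^ 6

/-- the Sylow `p`-subgroups are cyclic for the primes `p ∣ M` -/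
def HSyl (G : Type u) [Group G] (M : ℕ) : Prop :=
  ∀ (p : ℕ) [Fact p.Prime], p ∣ M → ∀ P : Sylow p G, IsCyclic ↥(P : Subgroup G)

/-- `A` is the centraliser of each of its non-trivial elements -/
def SelfC {G : Type u} [Group G] (A : Subgroup G) : Prop :=
  ∀ z ∈ A, z ≠ 1 → Subgroup.centralizer ({z} : Set G) = A

/-- the statement of S2359 for cyclic subgroups of order `(q-1)/2`, for an abstract group -/
def HSplit (G : Type u) [Group G] (m : ℕ) : Prop :=
  ∀ H : Subgroup G, IsCyclic H → Nat.card H = (qq m - 1) / 2 →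
    IsCyclic ↥(Subgroup.centralizer (H : Set G)) ∧
    Nat.card ↥(Subgroup.centralizer (H : Set G)) = qq m - 1 ∧
    ∀ A : Subgroup G, A ≤ H → A ≠ ⊥ →
      Subgroup.centralizer (A : Set G) = Subgroup.centralizer (H : Set G)

/-- the statement of S2359 for cyclic subgroups of order `(q+1)/4`, for an abstract group -/
def HQuarter (G : Type u) [Group G] (m : ℕ) : Prop :=
  ∀ H : Subgroup G, IsCyclic H → Nat.card H = kk m →
    (∀ x ∈ Subgroup.centralizer (H : Set G), ∀ y ∈ Subgroup.centralizer (H : Set G),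
      x * y = y * x) ∧
    Nat.card ↥(Subgroup.centralizer (H : Set G)) = qq m + 1 ∧
    (∀ x ∈ Subgroup.centralizer (H : Set G), orderOf x ≠ 4) ∧
    ∀ A : Subgroup G, A ≤ H → A ≠ ⊥ →
      Subgroup.centralizer (A : Set G) = Subgroup.centralizer (H : Set G)

/-! ### linear algebra -/

/-- (LA1) the commutant in `GL₇(q)` of an element of prime order `p`, `ord_p(q) = 6`, is
commutative -/
def StLA1 : Prop :=
  ∀ (n : Type u) [Fintype n] [DecidableEq n] (K : Type v) [Field K] [Fintype K] (p : ℕ),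
    p.Prime → Fintype.card n = 7 → (∀ d : ℕ, p ∣ Fintype.card K ^ d - 1 ↔ 6 ∣ d) →
    ∀ Y : GL n K, orderOf Y = p → ∀ X₁ X₂ : GL n K, X₁ * Y = Y * X₁ → X₂ * Y = Y * X₂ →
      X₁ * X₂ = X₂ * X₁

/-- (LA2) in `GL₇(q)`, an element normalising `⟨Y⟩` (`Y` of prime order `p`, `ord_p(q) = 6`)
has its 6th power commuting with `Y` -/
def StLA2 : Prop :=
  ∀ (n : Type u) [Fintype n] [DecidableEq n] (K : Type v) [Field K] [Fintype K] (p : ℕ),
    p.Prime → Fintype.card n = 7 → (∀ d : ℕ, p ∣ Fintype.card K ^ d - 1 ↔ 6 ∣ d) →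
    ∀ Y : GL n K, orderOf Y = p → ∀ (X : GL n K) (j : ℕ), X * Y * X⁻¹ = Y ^ j →
      X ^ 6 * Y = Y * X ^ 6

/-- (ORD6) the order of `q` modulo a prime `p ∣ q² - q + 1` is 6 -/
def StOrd6 : Prop :=
  ∀ m p : ℕ, p.Prime → p ∣ MM m → ∀ d : ℕ, p ∣ qq m ^ d - 1 ↔ 6 ∣ d

/-! ### normalisers from centralisers -/

/-- (NORMEQ) -/
def StNormEq : Prop :=
  ∀ (G : Type u) [Group G] [Finite G] (A C : Subgroup G), IsCyclic A → A ≤ C →
    (∀ x ∈ C, ∀ y ∈ C, x * y = y * x) → (Nat.card A).Coprime (Nat.card C / Nat.card A) →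
    (∀ A₀ : Subgroup G, A₀ ≤ A → A₀ ≠ ⊥ → Subgroup.centralizer (A₀ : Set G) = C) →
    ∀ A₀ : Subgroup G, A₀ ≤ A → A₀ ≠ ⊥ →
      Subgroup.normalizer (A₀ : Set G) = Subgroup.normalizer (C : Set G)

/-- (SUBC) a commutative self-centralising subgroup is the centraliser of each of its non-trivial
subgroups -/
def StSubC : Prop :=
  ∀ (G : Type u) [Group G] (A : Subgroup G), SelfC A → (∀ x ∈ A, ∀ y ∈ A, x * y = y * x) →
    ∀ A₀ : Subgroup G, A₀ ≤ A → A₀ ≠ ⊥ → Subgroup.centralizer (A₀ : Set G) = A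

/-- (CYCSUB) a cyclic subgroup has a (cyclic) subgroup of each order dividing its order -/
def StCycSub : Prop :=
  ∀ (G : Type u) [Group G] [Finite G] (H : Subgroup G), IsCyclic H → ∀ d : ℕ, d ∣ Nat.card H →
    ∃ A : Subgroup G, A ≤ H ∧ IsCyclic A ∧ Nat.card A = d

/-! ### the structure of the centralisers of `π(M)`-elements -/

/-- (TI1) `C(y)` is the centraliser of each of its non-trivial elements -/
def StTI1 : Prop :=
  ∀ (G : Type u) [Group G] [Finite G] (M : ℕ), HAb G M → HDvd G M →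
    ∀ y : G, (orderOf y).Prime → orderOf y ∣ M → SelfC (Subgroup.centralizer ({y} : Set G))

/-- (TI2) `C(y)` is cyclic -/
def StTI2 : Prop :=
  ∀ (G : Type u) [Group G] [Finite G] (M : ℕ), HAb G M → HDvd G M → HSyl G M →
    ∀ y : G, (orderOf y).Prime → orderOf y ∣ M →
      IsCyclic ↥(Subgroup.centralizer ({y} : Set G))

/-- (TI3) `|N(C(y)) : C(y)|` divides 6 -/
def StTI3 : Prop :=
  ∀ (G : Type u) [Group G] [Finite G] (M : ℕ), HAb G M → HDvd G M → HSyl G M → HSix G M →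
    StTI1.{u} → StTI2.{u} →
    ∀ y : G, (orderOf y).Prime → orderOf y ∣ M →
      Nat.card ↥(Subgroup.normalizer ((Subgroup.centralizer ({y} : Set G) : Subgroup G) : Set G)) ∣
        6 * Nat.card ↥(Subgroup.centralizer ({y} : Set G))

/-- (TI4) `C(y)` is a Hall subgroup -/
def StTI4 : Prop :=
  ∀ (G : Type u) [Group G] [Finite G] (M : ℕ), HAb G M → HDvd G M → HSyl G M → StTI1.{u} →
    ∀ y : G, (orderOf y).Prime → orderOf y ∣ M →
      (Nat.card ↥(Subgroup.centralizer ({y} : Set G))).Coprime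
        (Nat.card G / Nat.card ↥(Subgroup.centralizer ({y} : Set G)))

/-- (COP) two such centralisers have coprime orders unless the order of `y'` divides `|C(y)|` -/
def StCop : Prop :=
  ∀ (G : Type u) [Group G] [Finite G] (M : ℕ), HAb G M → HDvd G M → HSyl G M → StTI1.{u} →
    ∀ y y' : G, (orderOf y).Prime → orderOf y ∣ M → (orderOf y').Prime → orderOf y' ∣ M →
      ¬ orderOf y' ∣ Nat.card ↥(Subgroup.centralizer ({y} : Set G)) →
      (Nat.card ↥(Subgroup.centralizer ({y} : Set G))).Coprime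
        (Nat.card ↥(Subgroup.centralizer ({y'} : Set G)))

/-- (CLS) the number of elements conjugate into the "regular part" `{x ∈ C | x^d ≠ 1}` of a
subgroup `C` that is the centraliser of each element of its regular part -/
def StClassCount : Prop :=
  ∀ (G : Type u) [Group G] [Finite G] (C : Subgroup G) (d : ℕ),
    (∀ x ∈ C, x ^ d ≠ 1 → Subgroup.centralizer ({x} : Set G) = C) →
    (ConjSet C d).ncard * Nat.card ↥(Subgroup.normalizer (C : Set G)) =
      Nat.card G * Nat.card {x : G // x ∈ C ∧ x ^ d ≠ 1}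

/-- (PART) splitting off the elements conjugate into `C(y)` -/
def StPart : Prop :=
  ∀ (G : Type u) [Group G] [Finite G] (M : ℕ), HAb G M → HDvd G M → HSyl G M → StTI1.{u} →
    StTI4.{u} → M ∣ Nat.card G →
    ∀ y : G, (orderOf y).Prime → orderOf y ∣ M → ∀ M' : ℕ, M' ∣ M →
      Nat.card ↥(Subgroup.centralizer ({y} : Set G)) ∣ M' →
      (TorSet G M').ncard = (ConjSet (Subgroup.centralizer ({y} : Set G)) 1).ncard +
        (TorSet G (M' / Nat.card ↥(Subgroup.centralizer ({y} : Set G)))).ncard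

/-! ### arithmetic -/

/-- (AR1) a single class is impossible -/
def StArOne : Prop :=
  ∀ m n τ : ℕ, 1 ≤ m → MM m ∣ n → n ∣ 6 * MM m → τ * n = GG m * (MM m - 1) → 3 * τ = TT m →
    False

/-- (AR2) two classes: the orders are `q ∓ r + 1` and the normalisers have index 6 -/
def StArTwo : Prop :=
  ∀ m a₁ a₂ n₁ n₂ τ₁ τ₂ : ℕ, 1 ≤ m → a₁ * a₂ = MM m → 1 < a₁ → 1 < a₂ → a₁ ∣ n₁ → n₁ ∣ 6 * a₁ →
    a₂ ∣ n₂ → n₂ ∣ 6 * a₂ → τ₁ * n₁ = GG m * (a₁ - 1) → τ₂ * n₂ = GG m * (a₂ - 1) →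
    3 * (τ₁ + τ₂) = TT m →
    n₁ = 6 * a₁ ∧ n₂ = 6 * a₂ ∧
      ((a₁ = qq m - rr m + 1 ∧ a₂ = qq m + rr m + 1) ∨
        (a₁ = qq m + rr m + 1 ∧ a₂ = qq m - rr m + 1))

/-- (AR3) three classes are impossible -/
def StArThree : Prop :=
  ∀ m a₁ a₂ a₃ n₁ n₂ n₃ τ₁ τ₂ τ₃ N : ℕ, 1 ≤ m → a₁ ∣ MM m → a₂ ∣ MM m → a₃ ∣ MM m →
    1 < a₁ → 1 < a₂ → 1 < a₃ → a₁ ∣ n₁ → n₁ ∣ 6 * a₁ → a₂ ∣ n₂ → n₂ ∣ 6 * a₂ → a₃ ∣ n₃ →
    n₃ ∣ 6 * a₃ → τ₁ * n₁ = GG m * (a₁ - 1) → τ₂ * n₂ = GG m * (a₂ - 1) →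
    τ₃ * n₃ = GG m * (a₃ - 1) → τ₁ + τ₂ + τ₃ ≤ N → 3 * N = TT m → False

/-- (AR4) the count of the elements of order dividing `M` from the count of the fixed-point-free
elements -/
def StArT : Prop :=
  ∀ m n₀ t γ : ℕ, 1 ≤ m →
    2 * n₀ = qq m ^ 3 * (qq m - 1) * (qq m ^ 3 - 2 * qq m ^ 2 - 1) → n₀ = t + γ →
    6 * (qq m + 1) * γ = GG m * (qq m - 3) → 3 * t = TT m

/-- (AR5) coprimality facts -/
def StArCop : Prop :=
  ∀ m : ℕ, 1 ≤ m → MM m ∣ GG m ∧ (MM m).Coprime (GG m / MM m) ∧ 1 < MM m ∧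
    4 * kk m = qq m + 1 ∧ Odd (kk m) ∧ 1 < kk m ∧ (kk m).Coprime (MM m) ∧
    (kk m).Coprime (GG m / kk m) ∧ (MM m).Coprime (qq m * (qq m ^ 2 - 1)) ∧
    Odd ((qq m - 1) / 2) ∧ 2 * ((qq m - 1) / 2) = qq m - 1 ∧ 1 < (qq m - 1) / 2 ∧
    ((qq m - 1) / 2).Coprime (GG m / ((qq m - 1) / 2)) ∧
    (∀ p : ℕ, p.Prime → p ∣ MM m → 3 < p) ∧ (∀ p : ℕ, p.Prime → p ∣ kk m → 3 < p) ∧
    (∀ p : ℕ, p.Prime → p ∣ (qq m - 1) / 2 → 3 < p)

/-! ### the two classes of Hall subgroups -/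

/-- (DIO) the descent: there are exactly two classes of centralisers of `π(M)`-elements, of
orders `q ∓ r + 1`, with normalisers of index 6 -/
def StDio : Prop :=
  ∀ (G : Type u) [Group G] [Finite G] (m : ℕ), 1 ≤ m → Nat.card G = GG m →
    HAb G (MM m) → HDvd G (MM m) → HSyl G (MM m) → HSix G (MM m) →
    StTI1.{u} → StTI2.{u} → StTI3.{u} → StTI4.{u} → StCop.{u} → StClassCount.{u} → StPart.{u} →
    StArOne → StArTwo → StArThree → StArCop →
    3 * (TorSet G (MM m)).ncard = TT m →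
    ∃ A₁ A₂ : Subgroup G,
      (IsCyclic ↥A₁ ∧ Nat.card ↥A₁ = qq m - rr m + 1 ∧
        Nat.card ↥(Subgroup.normalizer (A₁ : Set G)) = 6 * (qq m - rr m + 1) ∧ SelfC A₁) ∧
      (IsCyclic ↥A₂ ∧ Nat.card ↥A₂ = qq m + rr m + 1 ∧
        Nat.card ↥(Subgroup.normalizer (A₂ : Set G)) = 6 * (qq m + rr m + 1) ∧ SelfC A₂)

/-! ### counting fixed points -/

/-- (BURN) Burnside's counts for a 2-transitive action -/
def StBurn : Prop :=
  ∀ (G : Type u) [Group G] [Fintype G] (Ω : Type v) [Fintype Ω] [MulAction G Ω],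
    2 ≤ Fintype.card Ω →
    (∀ x y x' y' : Ω, x ≠ y → x' ≠ y' → ∃ g : G, g • x = x' ∧ g • y = y') →
    (∑ g : G, Nat.card ↥(MulAction.fixedBy Ω g) = Fintype.card G) ∧
    (∑ g : G, Nat.card ↥(MulAction.fixedBy Ω g) ^ 2 = 2 * Fintype.card G)

/-- (FIXCNT) the number of fixed-point-free elements from Burnside's counts -/
def StFixCnt : Prop :=
  ∀ (G : Type u) [Group G] [Fintype G] (fix : G → ℕ) (m : ℕ), 1 ≤ m →
    ∑ g : G, fix g = Fintype.card G → ∑ g : G, fix g ^ 2 = 2 * Fintype.card G →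
    fix 1 = qq m ^ 3 + 1 → (∀ g : G, g ≠ 1 → g * g = 1 → fix g = qq m + 1) →
    (∀ g : G, g * g ≠ 1 → fix g ≤ 2) → (InvSet G).ncard = qq m ^ 2 * MM m →
    Fintype.card G = GG m →
    2 * Nat.card {g : G // fix g = 0} = qq m ^ 3 * (qq m - 1) * (qq m ^ 3 - 2 * qq m ^ 2 - 1)

/-- (INVCNT) the number of involutions when they are all conjugate -/
def StInvCnt : Prop :=
  ∀ (G : Type u) [Group G] [Finite G] (a : G), a ≠ 1 → a * a = 1 →
    (∀ z : G, z ≠ 1 → z * z = 1 → ∃ c : G, c * a * c⁻¹ = z) →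
    (InvSet G).ncard * Nat.card ↥(Subgroup.centralizer ({a} : Set G)) = Nat.card G

/-- (INVCONJ) all involutions are conjugate when a Sylow 2-subgroup `S` has order 8, `C(S) = S`
and `|N(S)| = 168` -/
def StInvConj : Prop :=
  ∀ (G : Type u) [Group G] [Finite G] (S : Sylow 2 G), Nat.card ↥(S : Subgroup G) = 8 →
    Subgroup.centralizer ((S : Subgroup G) : Set G) = (S : Subgroup G) →
    Nat.card ↥(Subgroup.normalizer ((S : Subgroup G) : Set G)) = 168 →
    ∀ z z' : G, z ≠ 1 → z * z = 1 → z' ≠ 1 → z' * z' = 1 → ∃ c : G, c * z * c⁻¹ = z'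

/-- (FPF) the fixed-point-free elements -/
def StFpf : Prop :=
  ∀ (G : Type u) [Group G] [Finite G] (Ω : Type v) [MulAction G Ω] [Nonempty Ω] (m : ℕ), 1 ≤ m →
    Nat.card G = GG m →
    (∀ (g : G) (x : Ω), g • x = x → g ^ (qq m ^ 3 * (qq m - 1)) = 1) →
    (∀ z g : G, (orderOf z).Prime → orderOf z ≠ 2 → orderOf z ∣ qq m * (qq m - 1) →
      g * z = z * g → ∃ x : Ω, g • x = x) →
    (∀ z : G, z ≠ 1 → z * z = 1 →
      (∃ x : Ω, z • x = x) ∧
        Nat.card ↥(Subgroup.centralizer ({z} : Set G)) = qq m * (qq m ^ 2 - 1)) →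
    (∀ g : G, g ^ 4 = 1 → g ^ 2 = 1) →
    FpfSet G Ω = TorSet G (MM m) ∪ GamSet G (kk m) ∧
      Disjoint (TorSet G (MM m)) (GamSet G (kk m))

/-- (GAMK) the number of elements whose order is divisible by a prime divisor of `k` -/
def StGamK : Prop :=
  ∀ (G : Type u) [Group G] [Finite G] (m : ℕ), 1 ≤ m → Nat.card G = GG m → HQuarter G m →
    HSyl G (kk m) → StClassCount.{u} →
    ∀ A₁ : Subgroup G, IsCyclic ↥A₁ → Nat.card ↥A₁ = kk m →
      Nat.card ↥(Subgroup.normalizer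
        ((Subgroup.centralizer (A₁ : Set G) : Subgroup G) : Set G)) = 6 * (qq m + 1) →
      6 * (qq m + 1) * (GamSet G (kk m)).ncard = GG m * (qq m - 3)

/-- (DVD) centralisers of elements of prime order dividing `M` have order dividing `M` -/
def StDvd : Prop :=
  ∀ (G : Type u) [Group G] [Finite G] (m : ℕ), 1 ≤ m → Nat.card G = GG m →
    (∀ z : G, z ≠ 1 → z * z = 1 →
      Nat.card ↥(Subgroup.centralizer ({z} : Set G)) = qq m * (qq m ^ 2 - 1)) →
    (∀ z g : G, (orderOf z).Prime → orderOf z ≠ 2 → orderOf z ∣ qq m * (qq m - 1) →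
      g * z = z * g → g ^ (qq m ^ 3 * (qq m - 1)) = 1) →
    (∀ z : G, (orderOf z).Prime → orderOf z ∣ kk m →
      Nat.card ↥(Subgroup.centralizer ({z} : Set G)) = qq m + 1) →
    HDvd G (MM m)

/-- (HFIX) an element commuting with an element of prime order dividing `(q-1)/2` is conjugate
into a given cyclic subgroup `Hd` of order `q - 1` -/
def StHConj : Prop :=
  ∀ (G : Type u) [Group G] [Finite G] (m : ℕ), 1 ≤ m → Nat.card G = GG m → HSplit G m →
    HSyl G ((qq m - 1) / 2) →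
    ∀ Hd : Subgroup G, IsCyclic ↥Hd → Nat.card ↥Hd = qq m - 1 →
      ∀ z g : G, (orderOf z).Prime → orderOf z ∣ (qq m - 1) / 2 → g * z = z * g →
        ∃ c : G, c * g * c⁻¹ ∈ Hd

/-! ### the subgroup of order `(q+1)/4` -/

/-- the subgroup `Φ⁻¹(1 × D)` of `G`, for `Φ : C_G(a) ≃* Z₂ × L` and `D ≤ L` -/
def liftSub {G : Type u} {L : Type v} [Group G] [Group L] (a : G)
    (Φ : ↥(Subgroup.centralizer ({a} : Set G)) ≃* Multiplicative (ZMod 2) × L)
    (D : Subgroup L) : Subgroup G :=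
  ((D.map (MonoidHom.inr (Multiplicative (ZMod 2)) L)).comap Φ.toMonoidHom).map
    (Subgroup.centralizer ({a} : Set G)).subtype

/-- (PSLD) a simple group `L` of order `q(q²-1)/2`, `q = 4k - 1`, `k` odd, with a maximal
subgroup dihedral of order `4k`: a cyclic subgroup `D` of order `k` with `|N_L(D)| = 4k`, and
all cyclic subgroups of order `k` are conjugate to `D` -/
def StPslD : Prop :=
  ∀ (L : Type u) [Group L] [Finite L] (k : ℕ), Odd k → 1 < k → IsSimpleGroup L →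
    2 * Nat.card L = (4 * k - 1) * ((4 * k - 1) ^ 2 - 1) →
    ∀ H : Subgroup L, IsCoatom H → Nonempty (↥H ≃* DihedralGroup (2 * k)) →
    ∃ D : Subgroup L, IsCyclic ↥D ∧ Nat.card ↥D = k ∧
      Nat.card ↥(Subgroup.normalizer (D : Set L)) = 4 * k ∧
      ∀ D' : Subgroup L, IsCyclic ↥D' → Nat.card ↥D' = k →
        ∃ c : L, D' = D.map (MulAut.conj c).toMonoidHom

/-- (C21) `Φ⁻¹(1 × D)` is cyclic of the same order as `D` and centralises `a` -/
def StC21 : Prop :=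
  ∀ (G : Type u) (L : Type v) [Group G] [Group L] [Finite G] [Finite L] (a : G)
    (Φ : ↥(Subgroup.centralizer ({a} : Set G)) ≃* Multiplicative (ZMod 2) × L)
    (D : Subgroup L), IsCyclic ↥D →
    IsCyclic ↥(liftSub a Φ D) ∧ Nat.card ↥(liftSub a Φ D) = Nat.card ↥D ∧
      a ∈ Subgroup.centralizer ((liftSub a Φ D : Subgroup G) : Set G)

/-- (C22) `|N_G(Φ⁻¹(1 × D)) ∩ C_G(a)| = 2 |N_L(D)|` -/
def StC22 : Prop :=
  ∀ (G : Type u) (L : Type v) [Group G] [Group L] [Finite G] [Finite L] (a : G)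
    (Φ : ↥(Subgroup.centralizer ({a} : Set G)) ≃* Multiplicative (ZMod 2) × L)
    (D : Subgroup L),
    Nat.card ↥(Subgroup.normalizer ((liftSub a Φ D : Subgroup G) : Set G) ⊓
        Subgroup.centralizer ({a} : Set G)) =
      2 * Nat.card ↥(Subgroup.normalizer (D : Set L))

/-- (C23) `N_G(Φ⁻¹(1 × D))` is transitive on the involutions of `C_G(Φ⁻¹(1 × D))` -/
def StC23 : Prop :=
  ∀ (G : Type u) (L : Type v) [Group G] [Group L] [Finite G] [Finite L] (a : G)
    (Φ : ↥(Subgroup.centralizer ({a} : Set G)) ≃* Multiplicative (ZMod 2) × L)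
    (D : Subgroup L) (k : ℕ), Odd k → IsCyclic ↥D → Nat.card ↥D = k → a ≠ 1 → a * a = 1 →
    (∀ D' : Subgroup L, IsCyclic ↥D' → Nat.card ↥D' = k →
      ∃ c : L, D' = D.map (MulAut.conj c).toMonoidHom) →
    (∀ z : G, z ≠ 1 → z * z = 1 → ∃ c : G, c * a * c⁻¹ = z) →
    ∀ z : G, z ≠ 1 → z * z = 1 →
      z ∈ Subgroup.centralizer ((liftSub a Φ D : Subgroup G) : Set G) →
      ∃ n : G, n ∈ Subgroup.normalizer ((liftSub a Φ D : Subgroup G) : Set G) ∧ n * a * n⁻¹ = z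

/-- (C24) orbit counting: `|N(A)| = 3 |N(A) ∩ C(a)|` when `C(A)` is commutative of order `4k`
(`k` odd) without elements of order 4 and `N(A)` is transitive on its involutions -/
def StC24 : Prop :=
  ∀ (G : Type u) [Group G] [Finite G] (A : Subgroup G) (a : G) (k : ℕ), Odd k → a ≠ 1 →
    a * a = 1 → a ∈ Subgroup.centralizer (A : Set G) →
    (∀ x ∈ Subgroup.centralizer (A : Set G), ∀ y ∈ Subgroup.centralizer (A : Set G),
      x * y = y * x) →
    Nat.card ↥(Subgroup.centralizer (A : Set G)) = 4 * k →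
    (∀ x ∈ Subgroup.centralizer (A : Set G), orderOf x ≠ 4) →
    (∀ z : G, z ≠ 1 → z * z = 1 → z ∈ Subgroup.centralizer (A : Set G) →
      ∃ n : G, n ∈ Subgroup.normalizer (A : Set G) ∧ n * a * n⁻¹ = z) →
    Nat.card ↥(Subgroup.normalizer (A : Set G)) =
      3 * Nat.card ↥(Subgroup.normalizer (A : Set G) ⊓ Subgroup.centralizer ({a} : Set G))

end Cfsg.Agent.H45.S8
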