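import Cfsg.Agent.H45.SLGen

/-!
# Generating `SL_{n+1}(K)` from one root subgroup and the cyclic monomial matrix (helper45)

`cycle_gen`: a subgroup of `SL_{n+1}(K)` containing the monomial matrix `w` of the `(n+1)`-cycle
(entries `1` at `(i, i+1)`, `(-1)^n` at `(n, 0)`) and the whole root subgroup `{1 + c E_01}` is
everything.
-/

set_option autoImplicit false

namespace Cfsg.Agent.H45

open Matrix

variable {K : Type*} [Field K]

/-- The sign attached to row `i` of the monomial matrix `w`. -/
def cycEps (n : ℕ) (i : Fin (n + 1)) : K := if i.val = n then (-1) ^ n else 1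

theorem cycEps_mul_self (n : ℕ) (i : Fin (n + 1)) : (cycEps n i : K) * cycEps n i = 1 := by
  unfold cycEps
  split_ifs
  · rw [← mul_pow]; simp
  · simp

theorem cycEps_ne_zero (n : ℕ) (i : Fin (n + 1)) : (cycEps n i : K) ≠ 0 := by
  intro h
  have := cycEps_mul_self (K := K) n i
  rw [h, mul_zero] at this
  exact zero_ne_one this

theorem cyc_entry (n : ℕ) (w : Matrix (Fin (n + 1)) (Fin (n + 1)) K)
    (hw : w = Matrix.of (fun i j : Fin (n + 1) =>
      if j.val = i.val + 1 then (1 : K) else if i.val = n ∧ j.val = 0 then (-1) ^ n else 0))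
    (a b : Fin (n + 1)) : w a b = if b = a + 1 then cycEps n a else 0 := by
  subst hw
  simp only [Matrix.of_apply]
  unfold cycEps
  by_cases ha : a.val = n
  · have ha' : a = Fin.last n := Fin.ext ha
    subst ha'
    have h1 : ¬ (b.val = (Fin.last n).val + 1) := by
      have := b.isLt
      simp only [Fin.val_last]
      omega
    rw [if_neg h1, Fin.last_add_one]
    have h2 : (b.val = 0) ↔ b = 0 := by
      constructor
      · intro h; exact Fin.ext h
      · intro h; rw [h]; rfl
    by_cases hb : b = 0
    · subst hb
      simp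
    · have : ¬ b.val = 0 := fun h => hb (h2.mp h)
      simp [hb, this]
  · have hlt : a < Fin.last n := by
      rw [Fin.lt_def, Fin.val_last]
      have := a.isLt
      omega
    have h1 : (a + 1).val = a.val + 1 := Fin.val_add_one_of_lt hlt
    have h2 : (b = a + 1) ↔ b.val = a.val + 1 := by
      rw [Fin.ext_iff, h1]
    by_cases hb : b = a + 1
    · rw [if_pos hb, if_pos (h2.mp hb), if_neg ha]
    · rw [if_neg hb, if_neg (fun h => hb (h2.mpr h)), if_neg (fun h => ha h.1)]

theorem cyc_conj_matrix (n : ℕ) (w : Matrix (Fin (n + 1)) (Fin (n + 1)) K)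
    (hw : ∀ a b : Fin (n + 1), w a b = if b = a + 1 then cycEps n a else 0)
    (i j : Fin (n + 1)) (c : K) :
    w * transvection (i + 1) (j + 1) (c * cycEps n j) = transvection i j (c * cycEps n i) * w := by
  unfold transvection
  rw [mul_add, add_mul, mul_one, one_mul]
  congr 1
  ext a b
  by_cases hb : b = j + 1
  · subst hb
    rw [mul_single_apply_same]
    by_cases ha : a = i
    · subst ha
      rw [single_mul_apply_same, hw, hw, if_pos rfl, if_pos rfl]
      ring
    · rw [single_mul_apply_of_ne _ _ _ _ _ ha, hw, if_neg (fun h => ha (add_right_cancel h).symm)]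
      ring
  · rw [mul_single_apply_of_ne _ _ _ _ _ hb]
    by_cases ha : a = i
    · subst ha
      rw [single_mul_apply_same, hw, if_neg hb]
      ring
    · rw [single_mul_apply_of_ne _ _ _ _ _ ha]

/-- `w * diag(D) = diag(D ∘ (· + 1)) * w` for the cyclic monomial matrix. -/
theorem cyc_mul_diagonal (n : ℕ) (w : Matrix (Fin (n + 1)) (Fin (n + 1)) K)
    (hw : ∀ a b : Fin (n + 1), w a b = if b = a + 1 then cycEps n a else 0)
    (D : Fin (n + 1) → K) :
    w * diagonal D = diagonal (fun i => D (i + 1)) * w := by
  ext a b
  rw [mul_diagonal, diagonal_mul, hw]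
  split_ifs with h
  · subst h; ring
  · ring

theorem zero_ne_one_fin (n : ℕ) (hn : 1 ≤ n) : (0 : Fin (n + 1)) ≠ 1 := by
  intro h
  have := congrArg Fin.val h
  rw [Fin.val_zero, Fin.val_one'] at this
  have : 1 % (n + 1) = 1 := Nat.mod_eq_of_lt (by omega)
  omega

/-- A subgroup of `SL_{n+1}(K)` containing the cyclic monomial matrix `w` and the root subgroup
`X_01` is the whole group. -/
theorem cycle_gen (n : ℕ) (H : Subgroup (SpecialLinearGroup (Fin (n + 1)) K))
    (w : SpecialLinearGroup (Fin (n + 1)) K) (hwH : w ∈ H)
    (hw : (w : Matrix (Fin (n + 1)) (Fin (n + 1)) K) =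
      Matrix.of (fun i j => if j.val = i.val + 1 then 1 else if i.val = n ∧ j.val = 0 then (-1) ^ n else 0))
    (h01 : (0 : Fin (n + 1)) ≠ 1)
    (R01 : ∀ c : K, SpecialLinearGroup.transvection h01 c ∈ H) : H = ⊤ := by
  let R : Fin (n + 1) → Fin (n + 1) → Prop := fun i j =>
    ∀ (hij : i ≠ j) (c : K), SpecialLinearGroup.transvection hij c ∈ H
  have R01' : R 0 1 := fun _ c => R01 c
  have hwe := cyc_entry n w.1 hw
  have shift : ∀ i j : Fin (n + 1), R (i + 1) (j + 1) → R i j := by
    intro i j hR hij c
    have hij' : i + 1 ≠ j + 1 := fun h => hij (add_right_cancel h)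
    have hm := cyc_conj_matrix n w.1 hwe i j (c * cycEps n i)
    have hce : c * cycEps n i * cycEps n i = c := by rw [mul_assoc, cycEps_mul_self, mul_one]
    rw [hce] at hm
    have hm2 : w * SpecialLinearGroup.transvection hij' (c * cycEps n i * cycEps n j) =
        SpecialLinearGroup.transvection hij c * w := Subtype.ext hm
    have : SpecialLinearGroup.transvection hij c =
        w * SpecialLinearGroup.transvection hij' (c * cycEps n i * cycEps n j) * w⁻¹ := by
      rw [hm2, mul_inv_cancel_right]
    rw [this]
    exact Subgroup.mul_mem _ (Subgroup.mul_mem _ hwH (hR hij' _)) (Subgroup.inv_mem _ hwH)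
  have shiftN : ∀ (k i j : Fin (n + 1)), R (i + k) (j + k) → R i j := by
    intro k
    induction k using Fin.induction with
    | zero => intro i j h; simpa using h
    | succ k ih =>
      intro i j h
      apply ih
      apply shift
      rw [← Fin.coeSucc_eq_succ] at h
      rw [add_assoc, add_assoc]
      exact h
  have Rsucc : ∀ i : Fin (n + 1), R i (i + 1) := by
    intro i
    apply shiftN (-i)
    have e1 : i + -i = 0 := add_neg_cancel i
    have e2 : i + 1 + -i = 1 := by rw [add_comm i 1, add_assoc, e1, add_zero]
    rw [e1, e2]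
    exact R01'
  have trans : ∀ i j k : Fin (n + 1), i ≠ j → j ≠ k → R i j → R j k → R i k := by
    intro i j k hij hjk h1 h2 hik c
    have := transvection_comm_rel hij hjk hik c (1 : K)
    rw [mul_one] at this
    rw [← this]
    exact Subgroup.mul_mem _ (Subgroup.mul_mem _ (Subgroup.mul_mem _ (h1 hij _) (h2 hjk _))
      (h1 hij _)) (h2 hjk _)
  have Rd : ∀ d : Fin (n + 1), d ≠ 0 → ∀ i : Fin (n + 1), R i (i + d) := by
    intro d
    induction d using Fin.induction with
    | zero => intro h; exact absurd rfl h
    | succ k ih =>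
      intro _ i
      rw [← Fin.coeSucc_eq_succ]
      by_cases hk : k.castSucc = 0
      · rw [hk, zero_add]
        exact Rsucc i
      · have hne1 : i ≠ i + k.castSucc := by
          intro h
          exact hk (by simpa using h.symm)
        have hne2 : i + k.castSucc ≠ i + (k.castSucc + 1) := by
          intro h
          have h' : k.castSucc = k.castSucc + 1 := add_left_cancel h
          have h'' : k.castSucc + 0 = k.castSucc + 1 := by rw [add_zero]; exact h'
          exact h01 (add_left_cancel h'')
        have h3 := Rsucc (i + k.castSucc)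
        rw [add_assoc] at h3
        exact trans i _ _ hne1 hne2 (ih hk i) h3
  have Rall : ∀ i j : Fin (n + 1), R i j := by
    intro i j hij
    have hd : j - i ≠ 0 := sub_ne_zero.mpr (Ne.symm hij)
    have := Rd (j - i) hd i
    rw [add_sub_cancel] at this
    exact this hij
  rw [eq_top_iff, ← elemSubgroup_eq_top, elemSubgroup, Subgroup.closure_le]
  rintro g ⟨i, j, hij, c, rfl⟩
  exact Rall i j hij c

/-- Conjugating an elementary transvection by a diagonal matrix. -/
theorem diagonal_mul_transvection {m : Type*} [Fintype m] [DecidableEq m] (D : m → K) (i j : m)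
    (t : K) (hDj : D j ≠ 0) :
    diagonal D * transvection i j t = transvection i j (D i * t / D j) * diagonal D := by
  unfold transvection
  rw [mul_add, add_mul, mul_one, one_mul]
  congr 1
  ext a b
  rw [diagonal_mul, mul_diagonal]
  simp only [single_apply]
  split_ifs with h
  · obtain ⟨rfl, rfl⟩ := h
    field_simp
  · simp

/-- Every element of a finite field is a sum of two squares. -/
theorem sum_two_squares [Fintype K] (c : K) : ∃ a b : K, a ^ 2 + b ^ 2 = c := by
  classical
  rcases Nat.mod_two_eq_zero_or_one (Fintype.card K) with h | h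
  · have h2 : ringChar K = 2 := FiniteField.even_card_iff_char_two.mpr h
    obtain ⟨a, ha⟩ := FiniteField.isSquare_of_char_two h2 c
    exact ⟨a, 0, by rw [ha]; ring⟩
  · open Polynomial in
    obtain ⟨a, b, hab⟩ := @FiniteField.exists_root_sum_quadratic K _ _ _ (X ^ 2 : K[X])
      (X ^ 2 - C c) (degree_X_pow 2) (degree_X_pow_sub_C (by decide) _) h
    refine ⟨a, b, ?_⟩
    simp only [eval_pow, eval_X, eval_sub, eval_C] at hab
    linear_combination hab

end Cfsg.Agent.H45
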