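import Mathlib
import Cfsg.Agent.H45.Singer
import Cfsg.Agent.H45.CycGen
import Cfsg.Agent.H17.SpPerfect
import Cfsg.Agent.H17.SympGen

set_option autoImplicit false

/-! Helper lemmas (helper45): Singer data for two-generation of symplectic groups. -/

namespace Cfsg.Agent.H45

open Matrix Polynomial

universe u

/-- In a finite field with at least five elements, an additive map twisted by inversion under a
generator of the unit group vanishes. -/
theorem singer_mu_zero {E : Type*} [Field E] [Fintype E] (hE : 5 ≤ Fintype.card E) (ζ : Eˣ)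
    (hζ : ∀ y : Eˣ, y ∈ Subgroup.zpowers ζ) (μ : E →+ E)
    (hμ : ∀ e : E, (ζ : E) * μ ((ζ : E) * e) = μ e) : ∀ e : E, μ e = 0 := by
  classical
  have h1 : ∀ k : ℕ, ∀ e : E, ((ζ : E)) ^ k * μ ((ζ : E) ^ k * e) = μ e := by
    intro k
    induction k with
    | zero => intro e; simp
    | succ k ih =>
      intro e
      have h2 := ih ((ζ : E) * e)
      have h3 := hμ e
      rw [pow_succ, mul_assoc ((ζ : E) ^ k) (ζ : E) e, mul_assoc, ← h3]
      have h4 : (ζ : E) ^ k * μ ((ζ : E) ^ k * ((ζ : E) * e)) = μ ((ζ : E) * e) := h2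
      rw [← h4]
      ring
  have h2 : ∀ y : E, y ≠ 0 → μ y = y⁻¹ * μ 1 := by
    intro y hy
    obtain ⟨k, hk⟩ := (mem_powers_iff_mem_zpowers.mpr (hζ (Units.mk0 y hy)))
    have hk' : (ζ : E) ^ k = y := by
      have := congrArg (Units.val) hk
      simpa using this
    have h3 := h1 k 1
    rw [hk', mul_one] at h3
    rw [← h3, ← mul_assoc, inv_mul_cancel₀ hy, one_mul]
  by_cases hc : μ 1 = 0
  · intro e
    by_cases he : e = 0
    · rw [he, map_zero]
    · rw [h2 e he, hc, mul_zero]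
  · exfalso
    have h3 : ∀ y : E, y ≠ 0 → y ≠ -1 → y ^ 2 + y + 1 = 0 := by
      intro y hy hy1
      have hy1' : y + 1 ≠ 0 := fun h => hy1 (eq_neg_of_add_eq_zero_left h)
      have h4 : μ (y + 1) = μ y + μ 1 := map_add μ y 1
      rw [h2 y hy, h2 (y + 1) hy1'] at h4
      have h5 : (y + 1)⁻¹ = y⁻¹ + 1 := by
        apply mul_right_cancel₀ hc
        rw [h4]; ring
      have h6 : y = (y + 1) + y * (y + 1) := by
        have h7 : (y + 1)⁻¹ * (y * (y + 1)) = (y⁻¹ + 1) * (y * (y + 1)) := by rw [h5]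
        have h8 : (y + 1)⁻¹ * (y * (y + 1)) = y := by
          field_simp
        have h9 : (y⁻¹ + 1) * (y * (y + 1)) = (y + 1) + y * (y + 1) := by
          field_simp
        rw [h8, h9] at h7
        exact h7
      linear_combination -h6
    have hP : (X ^ 2 + X + 1 : E[X]).natDegree = 2 := by
      compute_degree!
    have hP0 : (X ^ 2 + X + 1 : E[X]) ≠ 0 := by
      intro h
      rw [h] at hP
      simp at hP
    have hsub : ((Finset.univ : Finset E).erase 0).erase (-1) ⊆
        (X ^ 2 + X + 1 : E[X]).roots.toFinset := by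
      intro y hy
      rw [Finset.mem_erase, Finset.mem_erase] at hy
      rw [Multiset.mem_toFinset, mem_roots hP0]
      simp only [IsRoot, eval_add, eval_pow, eval_X, eval_one]
      exact h3 y hy.2.1 hy.1
    have hcard1 : Fintype.card E - 2 ≤ (((Finset.univ : Finset E).erase 0).erase (-1)).card := by
      have e1 := Finset.pred_card_le_card_erase (s := (Finset.univ : Finset E).erase 0) (a := -1)
      have e2 := Finset.pred_card_le_card_erase (s := (Finset.univ : Finset E)) (a := 0)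
      rw [Finset.card_univ] at e2
      omega
    have hcard2 : (X ^ 2 + X + 1 : E[X]).roots.toFinset.card ≤ 2 := by
      calc (X ^ 2 + X + 1 : E[X]).roots.toFinset.card
          ≤ Multiset.card (X ^ 2 + X + 1 : E[X]).roots := Multiset.toFinset_card_le _
        _ ≤ (X ^ 2 + X + 1 : E[X]).natDegree := card_roots' _
        _ = 2 := hP
    have := Finset.card_le_card hsub
    omega

variable {F : Type u} [Field F] [Fintype F]

/-- Singer data: a matrix `A` acting transitively on nonzero vectors, symmetrised by `G`, with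
`M ↦ A M Aᵀ - M` injective. -/
theorem singer_data (m : ℕ) (hm : 2 ≤ m) (hF : m = 2 → 2 < Fintype.card F) :
    ∃ A A' G G' : Matrix (Fin m) (Fin m) F, A * A' = 1 ∧ A' * A = 1 ∧ G * G' = 1 ∧ G' * G = 1 ∧
      Gᵀ = G ∧ G * A = Aᵀ * G ∧
      (∀ v w : Fin m → F, v ≠ 0 → w ≠ 0 → ∃ k : ℕ, (A ^ k) *ᵥ v = w) ∧
      (∀ M : Matrix (Fin m) (Fin m) F, A * M * Aᵀ = M → M = 0) := by
  classical
  obtain ⟨f, hfm, hf, hfd, -, -⟩ := exists_singer_poly (F := F) m (by omega)
  have : Fact (Irreducible f) := ⟨hf⟩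
  have hfin : Module.finrank F (AdjoinRoot f) = m := by
    rw [(AdjoinRoot.powerBasis hf.ne_zero).finrank, AdjoinRoot.powerBasis_dim, hfd]
  have : Module.Finite F (AdjoinRoot f) := (AdjoinRoot.powerBasis hf.ne_zero).finite
  have : Finite (AdjoinRoot f) := Module.finite_of_finite F
  let _ : Fintype (AdjoinRoot f) := Fintype.ofFinite _
  have hcard : Fintype.card (AdjoinRoot f) = Fintype.card F ^ m := by
    rw [Module.card_eq_pow_finrank (K := F), hfin]
  have hq2 : 2 ≤ Fintype.card F := Fintype.one_lt_card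
  have hE5 : 5 ≤ Fintype.card (AdjoinRoot f) := by
    rw [hcard]
    by_cases h2 : m = 2
    · have h3 := hF h2
      rw [h2]
      calc 5 ≤ 3 ^ 2 := by norm_num
        _ ≤ Fintype.card F ^ 2 := Nat.pow_le_pow_left h3 2
    · calc 5 ≤ 2 ^ 3 := by norm_num
        _ ≤ 2 ^ m := Nat.pow_le_pow_right (by norm_num) (by omega)
        _ ≤ Fintype.card F ^ m := Nat.pow_le_pow_left hq2 m
  obtain ⟨b⟩ : Nonempty (Module.Basis (Fin m) F (AdjoinRoot f)) :=
    ⟨Module.finBasisOfFinrankEq F (AdjoinRoot f) hfin⟩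
  obtain ⟨ζ, hζ⟩ := IsCyclic.exists_generator (α := (AdjoinRoot f)ˣ)
  have hGdet : (Algebra.traceMatrix F b).det ≠ 0 := by
    rw [Algebra.traceMatrix_of_basis]
    exact det_traceForm_ne_zero b
  have hGunit : IsUnit (Algebra.traceMatrix F b).det := isUnit_iff_ne_zero.mpr hGdet
  have hGA : Algebra.traceMatrix F b * Algebra.leftMulMatrix b (ζ : AdjoinRoot f) =
      (Algebra.leftMulMatrix b (ζ : AdjoinRoot f))ᵀ * Algebra.traceMatrix F b := by
    have key : ∀ (i : Fin m) (y : AdjoinRoot f),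
        ∑ k, Algebra.trace F (AdjoinRoot f) (b i * b k) * b.repr y k =
          Algebra.trace F (AdjoinRoot f) (b i * y) := by
      intro i y
      conv_rhs => rw [← b.sum_repr y]
      rw [Finset.mul_sum, map_sum]
      apply Finset.sum_congr rfl
      intro k _
      rw [mul_smul_comm, map_smul, smul_eq_mul, mul_comm]
    ext i j
    rw [Matrix.mul_apply, Matrix.mul_apply]
    have e1 : ∀ k, Algebra.traceMatrix F b i k * Algebra.leftMulMatrix b (ζ : AdjoinRoot f) k j =
        Algebra.trace F (AdjoinRoot f) (b i * b k) * b.repr ((ζ : AdjoinRoot f) * b j) k := by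
      intro k
      rw [Algebra.traceMatrix_apply, Algebra.traceForm_apply, Algebra.leftMulMatrix_eq_repr_mul]
    have e2 : ∀ k, (Algebra.leftMulMatrix b (ζ : AdjoinRoot f))ᵀ i k * Algebra.traceMatrix F b k j =
        Algebra.trace F (AdjoinRoot f) (b j * b k) * b.repr ((ζ : AdjoinRoot f) * b i) k := by
      intro k
      rw [Matrix.transpose_apply, Algebra.traceMatrix_apply, Algebra.traceForm_apply,
        Algebra.leftMulMatrix_eq_repr_mul, mul_comm (b k) (b j), mul_comm]
    rw [Finset.sum_congr rfl (fun k _ => e1 k), Finset.sum_congr rfl (fun k _ => e2 k), key, key]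
    congr 1
    ring
  have hAA' : Algebra.leftMulMatrix b (ζ : AdjoinRoot f) *
      Algebra.leftMulMatrix b ((ζ⁻¹ : (AdjoinRoot f)ˣ) : AdjoinRoot f) = 1 := by
    rw [← map_mul, Units.mul_inv, map_one]
  have hA'A : Algebra.leftMulMatrix b ((ζ⁻¹ : (AdjoinRoot f)ˣ) : AdjoinRoot f) *
      Algebra.leftMulMatrix b (ζ : AdjoinRoot f) = 1 := by
    rw [← map_mul, Units.inv_mul, map_one]
  have hGG' : Algebra.traceMatrix F b * (Algebra.traceMatrix F b)⁻¹ = 1 :=
    Matrix.mul_nonsing_inv _ hGunit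
  have hG'G : (Algebra.traceMatrix F b)⁻¹ * Algebra.traceMatrix F b = 1 :=
    Matrix.nonsing_inv_mul _ hGunit
  have hGsymm : (Algebra.traceMatrix F b)ᵀ = Algebra.traceMatrix F b := by
    ext i j
    rw [Matrix.transpose_apply, Algebra.traceMatrix_apply, Algebra.traceMatrix_apply,
      Algebra.traceForm_apply, Algebra.traceForm_apply, mul_comm]
  refine ⟨Algebra.leftMulMatrix b (ζ : AdjoinRoot f),
    Algebra.leftMulMatrix b ((ζ⁻¹ : (AdjoinRoot f)ˣ) : AdjoinRoot f),
    Algebra.traceMatrix F b, (Algebra.traceMatrix F b)⁻¹, hAA', hA'A, hGG', hG'G, hGsymm, hGA,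
    ?_, ?_⟩
  · intro v w hv hw
    obtain ⟨ev, hev'⟩ : ∃ ev : AdjoinRoot f, (b.repr ev : Fin m → F) = v :=
      ⟨b.equivFun.symm v, LinearEquiv.apply_symm_apply b.equivFun v⟩
    obtain ⟨ew, hew'⟩ : ∃ ew : AdjoinRoot f, (b.repr ew : Fin m → F) = w :=
      ⟨b.equivFun.symm w, LinearEquiv.apply_symm_apply b.equivFun w⟩
    have hev : ev ≠ 0 := by
      intro h
      apply hv
      rw [← hev', h, map_zero]
      rfl
    have hew : ew ≠ 0 := by
      intro h
      apply hw
      rw [← hew', h, map_zero]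
      rfl
    obtain ⟨k, hk⟩ := mem_powers_iff_mem_zpowers.mpr (hζ (Units.mk0 _ hew / Units.mk0 _ hev))
    have hk' : (ζ : AdjoinRoot f) ^ k = ew / ev := by
      have := congrArg (Units.val) hk
      simpa using this
    refine ⟨k, ?_⟩
    rw [← map_pow, hk', ← hev', Algebra.leftMulMatrix_mulVec_repr, div_mul_cancel₀ _ hev]
    exact hew'
  · intro M hM
    have hN : Algebra.leftMulMatrix b (ζ : AdjoinRoot f) * (M * Algebra.traceMatrix F b) *
        Algebra.leftMulMatrix b (ζ : AdjoinRoot f) = M * Algebra.traceMatrix F b := by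
      rw [Matrix.mul_assoc, Matrix.mul_assoc, hGA, ← Matrix.mul_assoc, ← Matrix.mul_assoc, hM]
    let μ : AdjoinRoot f →+ AdjoinRoot f :=
      ((b.equivFun.symm.toLinearMap ∘ₗ (M * Algebra.traceMatrix F b).mulVecLin) ∘ₗ
        b.equivFun.toLinearMap).toAddMonoidHom
    have hμdef : ∀ e : AdjoinRoot f,
        b.repr (μ e) = (M * Algebra.traceMatrix F b) *ᵥ (b.repr e) := by
      intro e
      have : b.equivFun (b.equivFun.symm ((M * Algebra.traceMatrix F b) *ᵥ (b.equivFun e))) =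
          (M * Algebra.traceMatrix F b) *ᵥ (b.equivFun e) := LinearEquiv.apply_symm_apply _ _
      exact this
    have hμ : ∀ e : AdjoinRoot f, (ζ : AdjoinRoot f) * μ ((ζ : AdjoinRoot f) * e) = μ e := by
      intro e
      apply b.repr.injective
      apply DFunLike.coe_injective
      rw [← Algebra.leftMulMatrix_mulVec_repr, hμdef, ← Algebra.leftMulMatrix_mulVec_repr, hμdef,
        Matrix.mulVec_mulVec, Matrix.mulVec_mulVec, hN]
    have h0 := singer_mu_zero hE5 ζ hζ μ hμ
    have hN0 : M * Algebra.traceMatrix F b = 0 := by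
      apply Matrix.toLin'.injective
      apply LinearMap.ext
      intro v
      have h1 := hμdef (b.equivFun.symm v)
      rw [h0, map_zero] at h1
      have hv' : v = b.repr (b.equivFun.symm v) := by
        have : b.equivFun (b.equivFun.symm v) = v := LinearEquiv.apply_symm_apply _ _
        exact this.symm
      rw [← hv'] at h1
      rw [Matrix.toLin'_apply, map_zero, LinearMap.zero_apply]
      exact h1.symm
    calc M = M * (Algebra.traceMatrix F b * (Algebra.traceMatrix F b)⁻¹) := by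
          rw [hGG', Matrix.mul_one]
      _ = 0 := by rw [← Matrix.mul_assoc, hN0, Matrix.zero_mul]


section SymClosure

variable {K : Type*} [Field K] [Fintype K] {n : ℕ}

theorem single_diag_mem_sq (i : Fin n) (c : K) :
    Matrix.single i i c ∈
      AddSubmonoid.closure (Set.range fun w : Fin n → K => vecMulVec w w) := by
  obtain ⟨a, b, hab⟩ := sum_two_squares c
  have h : Matrix.single i i c =
      vecMulVec (a • (Pi.single i 1 : Fin n → K)) (a • (Pi.single i 1 : Fin n → K)) +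
        vecMulVec (b • (Pi.single i 1 : Fin n → K)) (b • (Pi.single i 1 : Fin n → K)) := by
    ext k l
    simp only [Matrix.add_apply, vecMulVec_apply, Pi.smul_apply, Pi.single_apply, smul_eq_mul,
      Matrix.single_apply]
    by_cases hk : k = i
    · subst hk
      by_cases hl : l = k
      · subst hl
        simp only [and_self, if_true]
        rw [← hab]
        ring
      · simp [hl, Ne.symm hl]
    · simp [hk, Ne.symm hk]
  rw [h]
  exact add_mem (AddSubmonoid.subset_closure ⟨_, rfl⟩) (AddSubmonoid.subset_closure ⟨_, rfl⟩)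

theorem single_pair_mem_sq (i j : Fin n) (c : K) :
    Matrix.single i j c + Matrix.single j i c ∈
      AddSubmonoid.closure (Set.range fun w : Fin n → K => vecMulVec w w) := by
  have h : Matrix.single i j c + Matrix.single j i c =
      vecMulVec (c • (Pi.single i 1 : Fin n → K) + Pi.single j 1)
        (c • (Pi.single i 1 : Fin n → K) + Pi.single j 1) +
        (Matrix.single i i (-(c ^ 2)) + Matrix.single j j (-1)) := by
    ext k l
    simp only [Matrix.add_apply, vecMulVec_apply, Pi.add_apply, Pi.smul_apply, Pi.single_apply,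
      smul_eq_mul, Matrix.single_apply]
    by_cases hij : i = j
    · subst hij
      by_cases hk : k = i
      · subst hk
        by_cases hl : l = k
        · subst hl
          simp only [and_self, if_true]
          ring
        · simp [hl, Ne.symm hl]
      · simp [hk, Ne.symm hk]
    · by_cases hki : k = i
      · subst hki
        by_cases hli : l = k
        · subst hli
          simp [hij, Ne.symm hij]
          ring
        · by_cases hlj : l = j
          · subst hlj
            simp [hij, Ne.symm hij]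
          · simp [hij, Ne.symm hij, hli, hlj, Ne.symm hli, Ne.symm hlj]
      · by_cases hkj : k = j
        · subst hkj
          by_cases hli : l = i
          · subst hli
            simp [hij, Ne.symm hij]
          · by_cases hlj : l = k
            · subst hlj
              simp [hij, Ne.symm hij]
            · simp [hij, Ne.symm hij, hli, hlj, Ne.symm hli, Ne.symm hlj]
        · simp [hki, hkj, Ne.symm hki, Ne.symm hkj]
  rw [h]
  exact add_mem (AddSubmonoid.subset_closure ⟨_, rfl⟩)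
    (add_mem (single_diag_mem_sq i _) (single_diag_mem_sq j _))

theorem add_transpose_mem_sq (N : Matrix (Fin n) (Fin n) K) :
    N + Nᵀ ∈ AddSubmonoid.closure (Set.range fun w : Fin n → K => vecMulVec w w) := by
  have h : N + Nᵀ = ∑ i, ∑ j, (Matrix.single i j (N i j) + Matrix.single j i (N i j)) := by
    conv_lhs => rw [Matrix.matrix_eq_sum_single N]
    simp only [Matrix.transpose_sum, Matrix.transpose_single, ← Finset.sum_add_distrib]
  rw [h]
  exact sum_mem (fun i _ => sum_mem (fun j _ => single_pair_mem_sq i j _))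

/-- Over a finite field every symmetric matrix is a sum of matrices `w wᵀ`. -/
theorem sym_mem_closure_sq (M : Matrix (Fin n) (Fin n) K) (hM : Mᵀ = M) :
    M ∈ AddSubmonoid.closure (Set.range fun w : Fin n → K => vecMulVec w w) := by
  have h : M = Matrix.diagonal (fun i => M i i) +
      (Matrix.of (fun i j => if i < j then M i j else 0) +
        (Matrix.of (fun i j => if i < j then M i j else 0))ᵀ) := by
    ext k l
    simp only [Matrix.add_apply, Matrix.diagonal_apply, Matrix.of_apply, Matrix.transpose_apply]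
    rcases lt_trichotomy k l with h | h | h
    · simp [h, h.ne, not_lt.mpr h.le]
    · subst h
      simp
    · have e : M l k = M k l := by
        conv_rhs => rw [← hM]
        rfl
      simp [h, h.ne', not_lt.mpr h.le, e]
  rw [h]
  refine add_mem ?_ (add_transpose_mem_sq _)
  rw [← Matrix.sum_single_eq_diagonal]
  exact sum_mem (fun i _ => single_diag_mem_sq i _)

end SymClosure

section SpBlocks

variable {F : Type u} [Field F] {m : ℕ}

theorem upper_mem_sp (S : Matrix (Fin m) (Fin m) F) (hS : Sᵀ = S) :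
    (Matrix.fromBlocks 1 S 0 1 : Matrix (Fin m ⊕ Fin m) (Fin m ⊕ Fin m) F) ∈
      Matrix.symplecticGroup (Fin m) F := by
  rw [SymplecticGroup.mem_iff, Matrix.J, Matrix.fromBlocks_transpose, Matrix.fromBlocks_multiply,
    Matrix.fromBlocks_multiply]
  simp [hS]

theorem lower_mem_sp (R : Matrix (Fin m) (Fin m) F) (hR : Rᵀ = R) :
    (Matrix.fromBlocks 1 0 R 1 : Matrix (Fin m ⊕ Fin m) (Fin m ⊕ Fin m) F) ∈
      Matrix.symplecticGroup (Fin m) F := by
  rw [SymplecticGroup.mem_iff, Matrix.J, Matrix.fromBlocks_transpose, Matrix.fromBlocks_multiply,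
    Matrix.fromBlocks_multiply]
  simp [hR]

theorem diag_mem_sp (A A' : Matrix (Fin m) (Fin m) F) (hAA' : A * A' = 1) :
    (Matrix.fromBlocks A 0 0 A'ᵀ : Matrix (Fin m ⊕ Fin m) (Fin m ⊕ Fin m) F) ∈
      Matrix.symplecticGroup (Fin m) F := by
  have h2 : A'ᵀ * Aᵀ = 1 := by rw [← Matrix.transpose_mul, hAA', Matrix.transpose_one]
  rw [SymplecticGroup.mem_iff, Matrix.J, Matrix.fromBlocks_transpose, Matrix.fromBlocks_multiply,
    Matrix.fromBlocks_multiply]
  simp [hAA', h2]

theorem weyl_mem_sp (G G' : Matrix (Fin m) (Fin m) F) (hG'G : G' * G = 1)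
    (hG : Gᵀ = G) :
    (Matrix.fromBlocks 0 (-G') G 0 : Matrix (Fin m ⊕ Fin m) (Fin m ⊕ Fin m) F) ∈
      Matrix.symplecticGroup (Fin m) F := by
  have h1 : G * G'ᵀ = 1 := by
    have := congrArg Matrix.transpose hG'G
    rw [Matrix.transpose_mul, hG, Matrix.transpose_one] at this
    exact this
  rw [SymplecticGroup.mem_iff, Matrix.J, Matrix.fromBlocks_transpose, Matrix.fromBlocks_multiply,
    Matrix.fromBlocks_multiply]
  simp [hG, hG'G, h1]

theorem sympTransvection_blocks (x y : Fin m → F) (c : F) :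
    Cfsg.sympTransvection m (Sum.elim x y) c =
      Matrix.fromBlocks (1 - c • vecMulVec x y) (c • vecMulVec x x) (-(c • vecMulVec y y))
        (1 + c • vecMulVec y x) := by
  unfold Cfsg.sympTransvection
  rw [Matrix.J, Matrix.fromBlocks_mulVec]
  ext (i | i) (j | j) <;>
    simp [Matrix.add_apply, vecMulVec_apply, Matrix.one_apply, sub_eq_add_neg, Matrix.neg_mulVec]

theorem exists_symm_mulVec (x y : Fin m → F) (hx : x ≠ 0) :
    ∃ R : Matrix (Fin m) (Fin m) F, Rᵀ = R ∧ R *ᵥ x = y := by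
  classical
  obtain ⟨i, hi⟩ : ∃ i, x i ≠ 0 := by
    by_contra h
    exact hx (funext fun i => by_contra fun hi => h ⟨i, hi⟩)
  obtain ⟨z, hz⟩ : ∃ z : Fin m → F, z ⬝ᵥ x = 1 := by
    refine ⟨(x i)⁻¹ • Pi.single i 1, ?_⟩
    rw [smul_dotProduct, single_dotProduct, one_mul, smul_eq_mul, inv_mul_cancel₀ hi]
  refine ⟨vecMulVec y z + vecMulVec z y - (y ⬝ᵥ x) • vecMulVec z z, ?_, ?_⟩
  · rw [Matrix.transpose_sub, Matrix.transpose_add, Matrix.transpose_smul, transpose_vecMulVec,
      transpose_vecMulVec, transpose_vecMulVec, add_comm]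
  · rw [Matrix.sub_mulVec, Matrix.add_mulVec, Matrix.smul_mulVec, vecMulVec_mulVec,
      vecMulVec_mulVec, vecMulVec_mulVec, hz]
    ext k
    simp

/-- A subgroup of `Sp` containing both Siegel unipotent radicals is everything. -/
theorem sp_eq_top_of_upper_lower (K : Subgroup (Matrix.symplecticGroup (Fin m) F))
    (hU : ∀ S : Matrix (Fin m) (Fin m) F, Sᵀ = S →
      ∃ g ∈ K, (g : Matrix (Fin m ⊕ Fin m) (Fin m ⊕ Fin m) F) = Matrix.fromBlocks 1 S 0 1)
    (hL : ∀ R : Matrix (Fin m) (Fin m) F, Rᵀ = R →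
      ∃ g ∈ K, (g : Matrix (Fin m ⊕ Fin m) (Fin m ⊕ Fin m) F) = Matrix.fromBlocks 1 0 R 1) :
    K = ⊤ := by
  classical
  have key : ∀ (w : Fin m ⊕ Fin m → F) (c : F), Cfsg.Agent.H17.spTransv m w c ∈ K := by
    intro w c
    have hw : w = Sum.elim (w ∘ Sum.inl) (w ∘ Sum.inr) := (Sum.elim_comp_inl_inr w).symm
    by_cases hx : w ∘ Sum.inl = 0
    · obtain ⟨g, hg, hgm⟩ := hL (-(c • vecMulVec (w ∘ Sum.inr) (w ∘ Sum.inr)))
        (by rw [Matrix.transpose_neg, Matrix.transpose_smul, transpose_vecMulVec])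
      have e : Cfsg.Agent.H17.spTransv m w c = g := by
        apply Subtype.ext
        rw [hgm]
        show Cfsg.sympTransvection m w c = _
        rw [hw, sympTransvection_blocks, ← hw, hx]
        simp
      rw [e]
      exact hg
    · obtain ⟨R, hR, hRx⟩ := exists_symm_mulVec (w ∘ Sum.inl) (w ∘ Sum.inr) hx
      obtain ⟨l, hl, hlm⟩ := hL R hR
      obtain ⟨g, hg, hgm⟩ := hU (c • vecMulVec (w ∘ Sum.inl) (w ∘ Sum.inl))
        (by rw [Matrix.transpose_smul, transpose_vecMulVec])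
      have h1 : Cfsg.Agent.H17.spTransv m (Sum.elim (w ∘ Sum.inl) (0 : Fin m → F)) c = g := by
        apply Subtype.ext
        rw [hgm]
        show Cfsg.sympTransvection m (Sum.elim (w ∘ Sum.inl) (0 : Fin m → F)) c = _
        rw [sympTransvection_blocks]
        simp
      have h2 : (l : Matrix (Fin m ⊕ Fin m) (Fin m ⊕ Fin m) F) *ᵥ
          (Sum.elim (w ∘ Sum.inl) (0 : Fin m → F)) = w := by
        rw [hlm, Matrix.fromBlocks_mulVec]
        conv_rhs => rw [hw]
        simp [hRx]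
      have h3 := Cfsg.Agent.H17.spTransv_conj m l (Sum.elim (w ∘ Sum.inl) (0 : Fin m → F)) c
      rw [h2, h1] at h3
      rw [← h3]
      exact K.mul_mem (K.mul_mem hl hg) (K.inv_mem hl)
  rw [eq_top_iff, ← Cfsg.Agent.H17.closure_transvSet_top m, Subgroup.closure_le]
  rintro g ⟨w, -, c, hg⟩
  have e : g = Cfsg.Agent.H17.spTransv m w c := Subtype.ext hg
  rw [e]
  exact key w c

theorem sp_key_identity (A A' G G' S : Matrix (Fin m) (Fin m) F) (hAA' : A * A' = 1)
    (hA'A : A' * A = 1) (hGA : G * A = Aᵀ * G) (hAG' : A * G' = G' * Aᵀ) :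
    (Matrix.fromBlocks 1 (A * S * Aᵀ - S) 0 1 : Matrix (Fin m ⊕ Fin m) (Fin m ⊕ Fin m) F) *
        (Matrix.fromBlocks 1 S 0 1 * Matrix.fromBlocks 0 (-G') G 0) =
      Matrix.fromBlocks A 0 0 A'ᵀ * (Matrix.fromBlocks 1 S 0 1 * Matrix.fromBlocks 0 (-G') G 0) *
        Matrix.fromBlocks A 0 0 A'ᵀ := by
  have hA'tAt : A'ᵀ * Aᵀ = 1 := by rw [← Matrix.transpose_mul, hAA', Matrix.transpose_one]
  have hAtA't : Aᵀ * A'ᵀ = 1 := by rw [← Matrix.transpose_mul, hA'A, Matrix.transpose_one]
  have e1 : S * G + (A * S * Aᵀ - S) * G = A * (S * G) * A := by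
    rw [Matrix.sub_mul, add_sub_cancel, Matrix.mul_assoc (A * S), ← hGA]
    simp only [Matrix.mul_assoc]
  have e2 : -G' = -(A * G' * A'ᵀ) := by
    rw [hAG', Matrix.mul_assoc, hAtA't, Matrix.mul_one]
  have e3 : G = A'ᵀ * G * A := by
    rw [Matrix.mul_assoc, hGA, ← Matrix.mul_assoc, hA'tAt, Matrix.one_mul]
  simp only [Matrix.fromBlocks_multiply, Matrix.one_mul, Matrix.zero_mul,
    Matrix.mul_zero, add_zero, zero_add, Matrix.mul_neg, Matrix.neg_mul, neg_zero]
  rw [← e1, ← e2, ← e3]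

end SpBlocks

section TwoGen

variable {F : Type u} [Field F] [Fintype F]

/-- `Sp_{2m}(q)` is generated by two elements (`m ≥ 2`, `(m, q) ≠ (2, 2)`). -/
theorem sp_two_gen (m : ℕ) (hm : 2 ≤ m) (hF : m = 2 → 2 < Fintype.card F) :
    ∃ a b : Matrix.symplecticGroup (Fin m) F,
      Subgroup.closure ({a, b} : Set (Matrix.symplecticGroup (Fin m) F)) = ⊤ := by
  classical
  obtain ⟨A, A', G, G', hAA', hA'A, hGG', hG'G, hGs, hGA, htrans, hinj⟩ :=
    singer_data (F := F) m hm hF
  have hG's : G'ᵀ = G' := by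
    have h1 : G * G'ᵀ = 1 := by
      have := congrArg Matrix.transpose hG'G
      rw [Matrix.transpose_mul, hGs, Matrix.transpose_one] at this
      exact this
    calc G'ᵀ = (G' * G) * G'ᵀ := by rw [hG'G, Matrix.one_mul]
      _ = G' := by rw [Matrix.mul_assoc, h1, Matrix.mul_one]
  have hAG' : A * G' = G' * Aᵀ := by
    calc A * G' = (G' * G) * (A * G') := by rw [hG'G, Matrix.one_mul]
      _ = G' * (G * A) * G' := by simp only [Matrix.mul_assoc]
      _ = G' * (Aᵀ * G) * G' := by rw [hGA]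
      _ = G' * Aᵀ * (G * G') := by simp only [Matrix.mul_assoc]
      _ = G' * Aᵀ := by rw [hGG', Matrix.mul_one]
  have hA'tAt : A'ᵀ * Aᵀ = 1 := by rw [← Matrix.transpose_mul, hAA', Matrix.transpose_one]
  obtain ⟨v₀, hv₀⟩ : ∃ v₀ : Fin m → F, v₀ ≠ 0 := by
    refine ⟨Pi.single ⟨0, by omega⟩ 1, ?_⟩
    intro h
    have := congrFun h ⟨0, by omega⟩
    simp at this
  obtain ⟨a, ha⟩ : ∃ a : Matrix.symplecticGroup (Fin m) F,
      (a : Matrix (Fin m ⊕ Fin m) (Fin m ⊕ Fin m) F) = Matrix.fromBlocks A 0 0 A'ᵀ :=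
    ⟨⟨_, diag_mem_sp A A' hAA'⟩, rfl⟩
  obtain ⟨a', ha'⟩ : ∃ a' : Matrix.symplecticGroup (Fin m) F,
      (a' : Matrix (Fin m ⊕ Fin m) (Fin m ⊕ Fin m) F) = Matrix.fromBlocks A' 0 0 Aᵀ :=
    ⟨⟨_, diag_mem_sp A' A hA'A⟩, rfl⟩
  obtain ⟨n, hn⟩ : ∃ n : Matrix.symplecticGroup (Fin m) F,
      (n : Matrix (Fin m ⊕ Fin m) (Fin m ⊕ Fin m) F) = Matrix.fromBlocks 0 (-G') G 0 :=
    ⟨⟨_, weyl_mem_sp G G' hG'G hGs⟩, rfl⟩
  obtain ⟨u₀, hu₀⟩ : ∃ u : Matrix.symplecticGroup (Fin m) F,
      (u : Matrix (Fin m ⊕ Fin m) (Fin m ⊕ Fin m) F) = Matrix.fromBlocks 1 (vecMulVec v₀ v₀) 0 1 :=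
    ⟨⟨_, upper_mem_sp _ (transpose_vecMulVec _ _)⟩, rfl⟩
  refine ⟨a, u₀ * n, ?_⟩
  obtain ⟨K, hK⟩ : ∃ K, K = Subgroup.closure
      ({a, u₀ * n} : Set (Matrix.symplecticGroup (Fin m) F)) := ⟨_, rfl⟩
  rw [← hK]
  have haK : a ∈ K := by
    rw [hK]
    exact Subgroup.subset_closure (by simp)
  have hbK : u₀ * n ∈ K := by
    rw [hK]
    exact Subgroup.subset_closure (by simp)
  have haa' : a * a' = 1 := by
    apply Subtype.ext
    rw [Submonoid.coe_mul, ha, ha', Matrix.fromBlocks_multiply]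
    simp [hAA', hA'tAt, Matrix.fromBlocks_one]
  have ha'K : a' ∈ K := by
    have : a' = a⁻¹ := eq_inv_of_mul_eq_one_right haa'
    rw [this]
    exact K.inv_mem haK
  have Tzero : ∃ g ∈ K, (g : Matrix (Fin m ⊕ Fin m) (Fin m ⊕ Fin m) F) =
      Matrix.fromBlocks 1 (0 : Matrix (Fin m) (Fin m) F) 0 1 :=
    ⟨1, K.one_mem, by rw [Matrix.fromBlocks_one]; rfl⟩
  have Tadd : ∀ S₁ S₂ : Matrix (Fin m) (Fin m) F,
      (∃ g ∈ K, (g : Matrix (Fin m ⊕ Fin m) (Fin m ⊕ Fin m) F) = Matrix.fromBlocks 1 S₁ 0 1) →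
      (∃ g ∈ K, (g : Matrix (Fin m ⊕ Fin m) (Fin m ⊕ Fin m) F) = Matrix.fromBlocks 1 S₂ 0 1) →
      ∃ g ∈ K, (g : Matrix (Fin m ⊕ Fin m) (Fin m ⊕ Fin m) F) =
        Matrix.fromBlocks 1 (S₁ + S₂) 0 1 := by
    rintro S₁ S₂ ⟨g₁, hg₁, e₁⟩ ⟨g₂, hg₂, e₂⟩
    refine ⟨g₁ * g₂, K.mul_mem hg₁ hg₂, ?_⟩
    rw [Submonoid.coe_mul, e₁, e₂, Matrix.fromBlocks_multiply]
    simp [add_comm]
  have Tconj : ∀ S : Matrix (Fin m) (Fin m) F,
      (∃ g ∈ K, (g : Matrix (Fin m ⊕ Fin m) (Fin m ⊕ Fin m) F) = Matrix.fromBlocks 1 S 0 1) →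
      ∃ g ∈ K, (g : Matrix (Fin m ⊕ Fin m) (Fin m ⊕ Fin m) F) =
        Matrix.fromBlocks 1 (A * S * Aᵀ) 0 1 := by
    rintro S ⟨g, hg, e⟩
    refine ⟨a * g * a', K.mul_mem (K.mul_mem haK hg) ha'K, ?_⟩
    rw [Submonoid.coe_mul, Submonoid.coe_mul, ha, ha', e, Matrix.fromBlocks_multiply,
      Matrix.fromBlocks_multiply]
    simp [hAA', hA'tAt]
  have T1 : ∃ g ∈ K, (g : Matrix (Fin m ⊕ Fin m) (Fin m ⊕ Fin m) F) =
      Matrix.fromBlocks 1 (A * vecMulVec v₀ v₀ * Aᵀ - vecMulVec v₀ v₀) 0 1 := by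
    have hsym : (A * vecMulVec v₀ v₀ * Aᵀ - vecMulVec v₀ v₀)ᵀ =
        A * vecMulVec v₀ v₀ * Aᵀ - vecMulVec v₀ v₀ := by
      rw [Matrix.transpose_sub, Matrix.transpose_mul, Matrix.transpose_mul,
        Matrix.transpose_transpose, transpose_vecMulVec, Matrix.mul_assoc]
    obtain ⟨u₁, hu₁⟩ : ∃ u : Matrix.symplecticGroup (Fin m) F,
        (u : Matrix (Fin m ⊕ Fin m) (Fin m ⊕ Fin m) F) =
          Matrix.fromBlocks 1 (A * vecMulVec v₀ v₀ * Aᵀ - vecMulVec v₀ v₀) 0 1 :=
      ⟨⟨_, upper_mem_sp _ hsym⟩, rfl⟩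
    have h1 : u₁ * (u₀ * n) = a * (u₀ * n) * a := by
      apply Subtype.ext
      simp only [Submonoid.coe_mul]
      rw [hu₁, hu₀, hn, ha]
      exact sp_key_identity A A' G G' _ hAA' hA'A hGA hAG'
    have h2 : u₁ = a * (u₀ * n) * a * (u₀ * n)⁻¹ := by
      rw [← h1]
      group
    refine ⟨u₁, ?_, hu₁⟩
    rw [h2]
    exact K.mul_mem (K.mul_mem (K.mul_mem haK hbK) haK) (K.inv_mem hbK)
  have T2 : ∀ k : ℕ, ∃ g ∈ K, (g : Matrix (Fin m ⊕ Fin m) (Fin m ⊕ Fin m) F) =
      Matrix.fromBlocks 1 (A * vecMulVec ((A ^ k) *ᵥ v₀) ((A ^ k) *ᵥ v₀) * Aᵀ -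
        vecMulVec ((A ^ k) *ᵥ v₀) ((A ^ k) *ᵥ v₀)) 0 1 := by
    intro k
    induction k with
    | zero => simpa using T1
    | succ k ih =>
      have h := Tconj _ ih
      have e1 : vecMulVec ((A ^ (k + 1)) *ᵥ v₀) ((A ^ (k + 1)) *ᵥ v₀) =
          A * vecMulVec ((A ^ k) *ᵥ v₀) ((A ^ k) *ᵥ v₀) * Aᵀ := by
        rw [pow_succ', ← Matrix.mulVec_mulVec, Matrix.mul_vecMulVec, Matrix.vecMulVec_mul,
          Matrix.vecMul_transpose]
      rw [e1]
      rw [Matrix.mul_sub, Matrix.sub_mul] at h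
      exact h
  have T3 : ∀ w : Fin m → F, ∃ g ∈ K, (g : Matrix (Fin m ⊕ Fin m) (Fin m ⊕ Fin m) F) =
      Matrix.fromBlocks 1 (A * vecMulVec w w * Aᵀ - vecMulVec w w) 0 1 := by
    intro w
    by_cases hw : w = 0
    · subst hw
      simp only [vecMulVec_zero, Matrix.mul_zero, Matrix.zero_mul, sub_zero]
      exact Tzero
    · obtain ⟨k, hk⟩ := htrans v₀ w hv₀ hw
      have := T2 k
      rw [hk] at this
      exact this
  have T4 : ∀ M ∈ AddSubmonoid.closure (Set.range fun w : Fin m → F => vecMulVec w w),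
      ∃ g ∈ K, (g : Matrix (Fin m ⊕ Fin m) (Fin m ⊕ Fin m) F) =
        Matrix.fromBlocks 1 (A * M * Aᵀ - M) 0 1 := by
    intro M hM
    induction hM using AddSubmonoid.closure_induction with
    | mem x hx =>
      obtain ⟨w, rfl⟩ := hx
      exact T3 w
    | zero =>
      simp only [Matrix.mul_zero, Matrix.zero_mul, sub_zero]
      exact Tzero
    | add x y _ _ hx hy =>
      have := Tadd _ _ hx hy
      have e : A * (x + y) * Aᵀ - (x + y) = (A * x * Aᵀ - x) + (A * y * Aᵀ - y) := by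
        rw [Matrix.mul_add, Matrix.add_mul]
        abel
      rw [e]
      exact this
  have hsurj : ∀ S : Matrix (Fin m) (Fin m) F, ∃ M, A * M * Aᵀ - M = S := by
    let φ : Matrix (Fin m) (Fin m) F →ₗ[F] Matrix (Fin m) (Fin m) F :=
      { toFun := fun M => A * M * Aᵀ - M
        map_add' := fun x y => by
          rw [Matrix.mul_add, Matrix.add_mul]
          abel
        map_smul' := fun c x => by
          simp [smul_sub] }
    have hφ : Function.Injective φ := by
      rw [injective_iff_map_eq_zero]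
      intro M hM
      exact hinj M (sub_eq_zero.mp hM)
    exact LinearMap.surjective_of_injective hφ
  have T5 : ∀ S : Matrix (Fin m) (Fin m) F, Sᵀ = S →
      ∃ g ∈ K, (g : Matrix (Fin m ⊕ Fin m) (Fin m ⊕ Fin m) F) = Matrix.fromBlocks 1 S 0 1 := by
    intro S hS
    obtain ⟨M, hM⟩ := hsurj S
    have hMs : Mᵀ = M := by
      have h2 : A * Mᵀ * Aᵀ - Mᵀ = S := by
        have := congrArg Matrix.transpose hM
        rw [Matrix.transpose_sub, Matrix.transpose_mul, Matrix.transpose_mul,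
          Matrix.transpose_transpose, hS, ← Matrix.mul_assoc] at this
        exact this
      have h1 : A * (Mᵀ - M) * Aᵀ = Mᵀ - M := by
        have h3 : A * Mᵀ * Aᵀ = S + Mᵀ := by
          rw [← h2]
          abel
        have h4 : A * M * Aᵀ = S + M := by
          rw [← hM]
          abel
        rw [Matrix.mul_sub, Matrix.sub_mul, h3, h4]
        abel
      exact sub_eq_zero.mp (hinj _ h1)
    have := T4 M (sym_mem_closure_sq M hMs)
    rw [hM] at this
    exact this
  have hnK : n ∈ K := by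
    obtain ⟨g, hg, e⟩ := T5 (vecMulVec v₀ v₀) (transpose_vecMulVec _ _)
    have : g = u₀ := Subtype.ext (by rw [e, hu₀])
    rw [this] at hg
    have h2 : n = u₀⁻¹ * (u₀ * n) := by group
    rw [h2]
    exact K.mul_mem (K.inv_mem hg) hbK
  have T6 : ∀ R : Matrix (Fin m) (Fin m) F, Rᵀ = R →
      ∃ g ∈ K, (g : Matrix (Fin m ⊕ Fin m) (Fin m ⊕ Fin m) F) = Matrix.fromBlocks 1 0 R 1 := by
    intro R hR
    have hS : (-(G' * R * G'))ᵀ = -(G' * R * G') := by
      rw [Matrix.transpose_neg, Matrix.transpose_mul, Matrix.transpose_mul, hG's, hR,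
        Matrix.mul_assoc]
    obtain ⟨g, hg, e⟩ := T5 _ hS
    obtain ⟨l, hl⟩ : ∃ l : Matrix.symplecticGroup (Fin m) F,
        (l : Matrix (Fin m ⊕ Fin m) (Fin m ⊕ Fin m) F) = Matrix.fromBlocks 1 0 R 1 :=
      ⟨⟨_, lower_mem_sp R hR⟩, rfl⟩
    have h1 : l * n = n * g := by
      apply Subtype.ext
      rw [Submonoid.coe_mul, Submonoid.coe_mul, hl, hn, e, Matrix.fromBlocks_multiply,
        Matrix.fromBlocks_multiply]
      have e4 : G * (G' * R * G') = R * G' := by
        rw [← Matrix.mul_assoc, ← Matrix.mul_assoc, hGG', Matrix.one_mul]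
      simp [e4]
    have h2 : l = n * g * n⁻¹ := by
      rw [← h1]
      group
    exact ⟨l, by rw [h2]; exact K.mul_mem (K.mul_mem hnK hg) (K.inv_mem hnK), hl⟩
  exact sp_eq_top_of_upper_lower K T5 T6

end TwoGen

end Cfsg.Agent.H45
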