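import Mathlib
/-!
Exact statements (as `Prop`-valued definitions) of the abstract group-theoretic pieces of the
team project S1152 + S1157 (small Ree groups: centraliser of an involution, Sylow 2-subgroups and
their normalisers) (helper45).  Each piece is proved by a theorem `… : XStmt` in its own file.
-/
set_option autoImplicit false

namespace Cfsg.Agent.H45.R2

/-- (G1) transfer: in a perfect finite group an involution of an abelian Sylow 2-subgroup `S`
is not central in `N(S)`. -/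
def TransferStmt.{u} : Prop :=
  ∀ (G : Type u) [Group G] [Finite G] (S : Sylow 2 G) (a : G),
    (∀ x ∈ S, ∀ y ∈ S, x * y = y * x) → a ∈ S → a ≠ 1 → a * a = 1 → commutator G = ⊤ →
    ∃ n ∈ Subgroup.normalizer ((S : Subgroup G) : Set G), n * a * n⁻¹ ≠ a

/-- (G2a) a self-centralising subgroup `V` of order 4 with `|N(V)| = 12`: some element of `N(V)`
acts on `V` without non-trivial fixed points and its cube lies in `V`. -/
def KleinActStmt.{u} : Prop :=
  ∀ (L : Type u) [Group L] [Finite L] (V : Subgroup L), Nat.card V = 4 →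
    Subgroup.centralizer (V : Set L) = V → Nat.card ↥(Subgroup.normalizer (V : Set L)) = 12 →
    ∃ c ∈ Subgroup.normalizer (V : Set L), (∀ v ∈ V, c * v * c⁻¹ = v → v = 1) ∧ c * c * c ∈ V

/-- (G2b) a subgroup of order 8 of `Z₂ × L`, `8 ∤ |L|`, is `Z₂ × V` with `|V| = 4`. -/
def ProdShapeStmt.{u} : Prop :=
  ∀ (L : Type u) [Group L] [Finite L], ¬ 8 ∣ Nat.card L →
    ∀ T : Subgroup (Multiplicative (ZMod 2) × L), Nat.card T = 8 →
      ∃ V : Subgroup L, Nat.card V = 4 ∧ T = (⊤ : Subgroup (Multiplicative (ZMod 2))).prod V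

/-- the conclusion about subgroups of order 8 and exponent 2 of `Z₂ × L` -/
def ProdConcl.{u} (L : Type u) [Group L] : Prop :=
  ∀ T : Subgroup (Multiplicative (ZMod 2) × L), Nat.card T = 8 → (∀ x ∈ T, x * x = 1) →
    Subgroup.centralizer (T : Set (Multiplicative (ZMod 2) × L)) = T ∧
    Nat.card ↥(Subgroup.normalizer (T : Set (Multiplicative (ZMod 2) × L))) = 24 ∧
    ∃ c ∈ Subgroup.normalizer (T : Set (Multiplicative (ZMod 2) × L)),
      (∀ t ∈ T, c * t * c⁻¹ = t → t = 1 ∨ t = (Multiplicative.ofAdd (1 : ZMod 2), 1)) ∧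
      (∀ t ∈ T, (c * c * c) * t = t * (c * c * c))

/-- (G2c) structure of the subgroups of order 8 and exponent 2 of `Z₂ × L`. -/
def ProdStmt.{u} : Prop :=
  ∀ (L : Type u) [Group L] [Finite L],
    (∀ V : Subgroup L, Nat.card V = 4 → Subgroup.centralizer (V : Set L) = V ∧
      Nat.card ↥(Subgroup.normalizer (V : Set L)) = 12) →
    ¬ 8 ∣ Nat.card L → ProdConcl L

/-- (G3a) transport of `ProdConcl` through an isomorphism `C(a) ≃* Z₂ × L`. -/
def TransportStmt.{u, v} : Prop :=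
  ∀ (G : Type u) [Group G] [Finite G] (L : Type v) [Group L] [Finite L] (S : Subgroup G) (a : G)
    (_Φ : ↥(Subgroup.centralizer ({a} : Set G)) ≃* Multiplicative (ZMod 2) × L),
    Nat.card S = 8 → (∀ x ∈ S, x * x = 1) → a ∈ S → a ≠ 1 → ProdConcl L →
    Subgroup.centralizer (S : Set G) = S ∧
    Nat.card ↥(Subgroup.normalizer (S : Set G) ⊓ Subgroup.centralizer ({a} : Set G)) = 24 ∧
    ∃ c ∈ Subgroup.normalizer (S : Set G), c * a = a * c ∧
      (∀ t ∈ S, c * t * c⁻¹ = t → t = 1 ∨ t = a) ∧ (∀ t ∈ S, (c * c * c) * t = t * (c * c * c))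

/-- (G3b) the counting argument: `|N(S)| = 168`. -/
def CountStmt.{u} : Prop :=
  ∀ (G : Type u) [Group G] [Finite G] (S : Sylow 2 G) (a : G),
    Nat.card S = 8 → (∀ x ∈ S, x * x = 1) → a ∈ S → a ≠ 1 →
    Nat.card ↥(Subgroup.normalizer ((S : Subgroup G) : Set G) ⊓
      Subgroup.centralizer ({a} : Set G)) = 24 →
    (∃ c ∈ Subgroup.normalizer ((S : Subgroup G) : Set G), c * a = a * c ∧
      (∀ t ∈ S, c * t * c⁻¹ = t → t = 1 ∨ t = a) ∧
      (∀ t ∈ S, (c * c * c) * t = t * (c * c * c))) →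
    (∃ n ∈ Subgroup.normalizer ((S : Subgroup G) : Set G), n * a * n⁻¹ ≠ a) →
    Nat.card ↥(Subgroup.normalizer ((S : Subgroup G) : Set G)) = 168

/-- (L1) subgroups of order 4 of `PSL₂(3^(2m+1))` have normaliser of order 12. -/
def PSLNormStmt.{u} : Prop :=
  ∀ (K : Type u) [Field K] [Fintype K] (m : ℕ), Fintype.card K = 3 ^ (2 * m + 1) →
    ∀ V : Subgroup (Matrix.ProjectiveSpecialLinearGroup (Fin 2) K), Nat.card V = 4 →
      Nat.card ↥(Subgroup.normalizer (V : Set (Matrix.ProjectiveSpecialLinearGroup (Fin 2) K))) = 12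

/-- (L2) subgroups of order 4 of `PSL₂(3^(2m+1))` are self-centralising. -/
def PSLCentStmt.{u} : Prop :=
  ∀ (K : Type u) [Field K] [Fintype K] (m : ℕ), Fintype.card K = 3 ^ (2 * m + 1) →
    ∀ V : Subgroup (Matrix.ProjectiveSpecialLinearGroup (Fin 2) K), Nat.card V = 4 →
      Subgroup.centralizer (V : Set (Matrix.ProjectiveSpecialLinearGroup (Fin 2) K)) = V

/-- (L3) `PSL₂(K)`, `|K|` odd, has a subgroup of order 4 and exponent 2. -/
def PSLKleinStmt.{u} : Prop :=
  ∀ (K : Type u) [Field K] [Fintype K], Odd (Fintype.card K) →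
    ∃ V : Subgroup (Matrix.ProjectiveSpecialLinearGroup (Fin 2) K), Nat.card V = 4 ∧
      ∀ x ∈ V, x * x = 1

/-- (I) the isomorphism `C(a) ≃* Z₂ × PSL₂(K)` from a homomorphism `ψ : SL₂(K) → G` with kernel
`{±1}` whose image commutes with `a`, does not contain `a`, and with `C(a) = ψ(SL₂) ∪ a ψ(SL₂)`. -/
def IsoStmt.{u, v} : Prop :=
  ∀ (K : Type u) [Field K] (G : Type v) [Group G] (a : G)
    (ψ : Matrix.SpecialLinearGroup (Fin 2) K →* G),
    (2 : K) ≠ 0 → a ≠ 1 → a * a = 1 →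
    (∀ s, a * ψ s = ψ s * a) → (∀ s, ψ s = 1 → s = 1 ∨ s = -1) → ψ (-1) = 1 → (∀ s, ψ s ≠ a) →
    (∀ g : G, g * a = a * g → ∃ s, g = ψ s ∨ g = a * ψ s) →
    Nonempty (↥(Subgroup.centralizer ({a} : Set G)) ≃*
      Multiplicative (ZMod 2) × Matrix.ProjectiveSpecialLinearGroup (Fin 2) K)

/-- (E) a subgroup of order 8 and exponent 2 from `C ≃* Z₂ × L` and a four-group of `L`. -/
def ExistsEStmt.{u, v} : Prop :=
  ∀ (G : Type u) [Group G] (L : Type v) [Group L] (C : Subgroup G)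
    (_Φ : ↥C ≃* Multiplicative (ZMod 2) × L) (V : Subgroup L),
    Nat.card V = 4 → (∀ x ∈ V, x * x = 1) →
    ∃ E : Subgroup G, Nat.card E = 8 ∧ ∀ x ∈ E, x * x = 1

/-- (S) Sylow 2-subgroups of a group of order `8 · odd` having an elementary abelian subgroup of
order 8. -/
def SylowStmt.{u} : Prop :=
  ∀ (G : Type u) [Group G] [Finite G] (E : Subgroup G) (k : ℕ), Nat.card G = 8 * k → Odd k →
    Nat.card E = 8 → (∀ x ∈ E, x * x = 1) →
    ∀ S : Sylow 2 G, Nat.card S = 8 ∧ ∀ x ∈ S, x * x = 1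

/-- (A) the 2-part of `|²G₂(q)|` is 8. -/
def ArithStmt : Prop :=
  ∀ m : ℕ, ∃ k : ℕ, Odd k ∧
    (3 ^ (2 * m + 1)) ^ 3 * (3 ^ (2 * m + 1) - 1) * ((3 ^ (2 * m + 1)) ^ 3 + 1) = 8 * k

end Cfsg.Agent.H45.R2
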