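import Cfsg.Agent.H45.S8Defs0
/-!
Team project S1158 (helper45): exact statements of the abstract assembly steps (Mathlib only).
-/
set_option autoImplicit false

namespace Cfsg.Agent.H45.S8

universe u v

/-- (CASE1) the subgroup of order `(q-1)/2` of a cyclic subgroup `Hd` of order `q - 1` with
`|N(Hd)| = 2(q-1)` -/
def StCase1 : Prop :=
  ∀ (G : Type u) [Group G] [Finite G] (m : ℕ), 1 ≤ m → HSplit G m → StCycSub.{u} →
    StNormEq.{u} → StArCop →
    ∀ Hd : Subgroup G, IsCyclic ↥Hd → Nat.card ↥Hd = qq m - 1 →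
      Nat.card ↥(Subgroup.normalizer (Hd : Set G)) = 2 * (qq m - 1) →
      ∃ A : Subgroup G, IsCyclic ↥A ∧ Nat.card ↥A = (qq m - 1) / 2 ∧
        Nat.card ↥(Subgroup.normalizer (A : Set G)) = 2 * (qq m - 1) ∧
        ∀ A₀ : Subgroup G, A₀ ≤ A → A₀ ≠ ⊥ →
          Subgroup.normalizer (A₀ : Set G) = Subgroup.normalizer (A : Set G)

/-- (CASE2) the subgroup of order `(q+1)/4` -/
def StCase2 : Prop :=
  ∀ (G : Type u) (L : Type v) [Group G] [Group L] [Finite G] [Finite L] (m : ℕ), 1 ≤ m →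
    HQuarter G m → StC21.{u, v} → StC22.{u, v} → StC23.{u, v} → StC24.{u} → StNormEq.{u} →
    StArCop →
    ∀ (a : G) (Φ : ↥(Subgroup.centralizer ({a} : Set G)) ≃* Multiplicative (ZMod 2) × L),
      a ≠ 1 → a * a = 1 → (∀ z : G, z ≠ 1 → z * z = 1 → ∃ c : G, c * a * c⁻¹ = z) →
    ∀ D : Subgroup L, IsCyclic ↥D → Nat.card ↥D = kk m →
      Nat.card ↥(Subgroup.normalizer (D : Set L)) = 4 * kk m →
      (∀ D' : Subgroup L, IsCyclic ↥D' → Nat.card ↥D' = kk m →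
        ∃ c : L, D' = D.map (MulAut.conj c).toMonoidHom) →
      ∃ A : Subgroup G, IsCyclic ↥A ∧ Nat.card ↥A = kk m ∧
        Nat.card ↥(Subgroup.normalizer (A : Set G)) = 6 * (qq m + 1) ∧
        Nat.card ↥(Subgroup.normalizer
          ((Subgroup.centralizer (A : Set G) : Subgroup G) : Set G)) = 6 * (qq m + 1) ∧
        ∀ A₀ : Subgroup G, A₀ ≤ A → A₀ ≠ ⊥ →
          Subgroup.normalizer (A₀ : Set G) = Subgroup.normalizer (A : Set G)

/-- (CASE34) a cyclic self-centralising subgroup: `N(A₀) = N(A)` -/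
def StCase34 : Prop :=
  ∀ (G : Type u) [Group G] [Finite G] (A : Subgroup G), IsCyclic ↥A → SelfC A → StSubC.{u} →
    StNormEq.{u} →
    ∀ A₀ : Subgroup G, A₀ ≤ A → A₀ ≠ ⊥ →
      Subgroup.normalizer (A₀ : Set G) = Subgroup.normalizer (A : Set G)

/-- (KCENT) the centraliser of an element of prime order dividing `k` has order `q + 1` -/
def StKCent : Prop :=
  ∀ (G : Type u) [Group G] [Finite G] (m : ℕ), HQuarter G m → HSyl G (kk m) →
    ∀ A₁ : Subgroup G, IsCyclic ↥A₁ → Nat.card ↥A₁ = kk m →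
      ∀ z : G, (orderOf z).Prime → orderOf z ∣ kk m →
        Nat.card ↥(Subgroup.centralizer ({z} : Set G)) = qq m + 1

/-- (HCOMM) an element commuting with an element of odd prime order dividing `q(q-1)` fixes a
point -/
def StHComm : Prop :=
  ∀ (G : Type u) [Group G] [Finite G] (Ω : Type v) [MulAction G Ω] (m : ℕ), 1 ≤ m →
    Nat.card G = GG m → HSplit G m → HSyl G ((qq m - 1) / 2) → StHConj.{u} → StArCop →
    ∀ Hd : Subgroup G, IsCyclic ↥Hd → Nat.card ↥Hd = qq m - 1 →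
    ∀ x₀ : Ω, (∀ h ∈ Hd, h • x₀ = x₀) →
    (∀ z g : G, orderOf z = 3 → g * z = z * g → ∃ x : Ω, g • x = x) →
    ∀ z g : G, (orderOf z).Prime → orderOf z ≠ 2 → orderOf z ∣ qq m * (qq m - 1) →
      g * z = z * g → ∃ x : Ω, g • x = x

/-- (TCOUNT) the number of non-trivial elements of order dividing `M = q² - q + 1` -/
def StTCount : Prop :=
  ∀ (G : Type u) [Group G] [Finite G] (Ω : Type v) [Finite Ω] [MulAction G Ω] (m : ℕ), 1 ≤ m →
    Nat.card G = GG m → Nat.card Ω = qq m ^ 3 + 1 →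
    (∀ x y x' y' : Ω, x ≠ y → x' ≠ y' → ∃ g : G, g • x = x' ∧ g • y = y') →
    (∀ (g : G) (x y z : Ω), x ≠ y → x ≠ z → y ≠ z → g • x = x → g • y = y → g • z = z →
      g * g = 1) →
    (∀ (g : G) (x : Ω), g • x = x → g ^ (qq m ^ 3 * (qq m - 1)) = 1) →
    (∀ z g : G, (orderOf z).Prime → orderOf z ≠ 2 → orderOf z ∣ qq m * (qq m - 1) →
      g * z = z * g → ∃ x : Ω, g • x = x) →
    ∀ a : G, a ≠ 1 → a * a = 1 → Nat.card ↥(MulAction.fixedBy Ω a) = qq m + 1 →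
    Nat.card ↥(Subgroup.centralizer ({a} : Set G)) = qq m * (qq m ^ 2 - 1) →
    (∀ z : G, z ≠ 1 → z * z = 1 → ∃ c : G, c * a * c⁻¹ = z) →
    (∀ g : G, g ^ 4 = 1 → g ^ 2 = 1) →
    6 * (qq m + 1) * (GamSet G (kk m)).ncard = GG m * (qq m - 3) →
    StBurn.{u, v} → StFixCnt.{u} → StInvCnt.{u} → StFpf.{u, v} → StArT → StArCop →
    3 * (TorSet G (MM m)).ncard = TT m

/-- (HDVD) `HDvd G M` from fixed points -/
def StHDvd : Prop :=
  ∀ (G : Type u) [Group G] [Finite G] (Ω : Type v) [MulAction G Ω] (m : ℕ), 1 ≤ m →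
    Nat.card G = GG m → HQuarter G m → HSyl G (kk m) → StKCent.{u} → StDvd.{u} →
    (∀ (g : G) (x : Ω), g • x = x → g ^ (qq m ^ 3 * (qq m - 1)) = 1) →
    (∀ z g : G, (orderOf z).Prime → orderOf z ≠ 2 → orderOf z ∣ qq m * (qq m - 1) →
      g * z = z * g → ∃ x : Ω, g • x = x) →
    ∀ a : G, a ≠ 1 → a * a = 1 →
    Nat.card ↥(Subgroup.centralizer ({a} : Set G)) = qq m * (qq m ^ 2 - 1) →
    (∀ z : G, z ≠ 1 → z * z = 1 → ∃ c : G, c * a * c⁻¹ = z) →
    ∀ A₁ : Subgroup G, IsCyclic ↥A₁ → Nat.card ↥A₁ = kk m → HDvd G (MM m)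

/-- (EMB) `HAb`, `HSix` from a faithful 7-dimensional representation -/
def StEmb : Prop :=
  ∀ (G : Type u) [Group G] [Finite G] (n : Type) [Fintype n] [DecidableEq n] (K : Type v)
    [Field K] [Fintype K] (f : G →* GL n K), Function.Injective f → Fintype.card n = 7 →
    ∀ M : ℕ, (∀ p : ℕ, p.Prime → p ∣ M → ∀ d : ℕ, p ∣ Fintype.card K ^ d - 1 ↔ 6 ∣ d) →
    StLA1.{0, v} → StLA2.{0, v} → HAb G M ∧ HSix G M

end Cfsg.Agent.H45.S8
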