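import Mathlib
import Cfsg.Agent.H45.RealEv
import Cfsg.Agent.H45.OmNoElt
import Cfsg.Agent.H49.Transv3

set_option autoImplicit false

namespace Cfsg.Agent.H45

open Matrix Polynomial Module Cfsg.Agent.H49

universe u

section BC2r

/-- The support of an even involution has cardinality divisible by four. -/
theorem four_dvd_support_of_sign {α : Type*} [Fintype α] [DecidableEq α] (σ : Equiv.Perm α)
    (h : σ ^ 2 = 1) (hs : Equiv.Perm.sign σ = 1) (heven : Even σ.support.card) :
    4 ∣ σ.support.card := by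
  have h1 := sign_of_sq_eq_one σ h
  rw [hs] at h1
  have h2 : Even (σ.support.card / 2) := by
    by_contra hodd
    rw [Nat.not_even_iff_odd] at hodd
    rw [hodd.neg_one_pow] at h1
    exact absurd h1 (by decide)
  obtain ⟨a, ha⟩ := heven
  obtain ⟨b, hb⟩ := h2
  omega

variable {F : Type u} [Field F] [Fintype F]

/-- Elements of order `2 r` of `Ω_{2n+1}(q)`: the arithmetic condition. -/
theorem om_two_r (hodd : Odd (Fintype.card F)) (p : ℕ) [Fact p.Prime] [CharP F p] (n : ℕ)
    (hn : 2 ≤ n) (r : ℕ) (hr : r.Prime) (hr2 : r ≠ 2) (hrp : r ≠ p) (k η : ℕ)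
    (hk : k = orderOf ((Fintype.card F : ℕ) : ZMod r))
    (hη : (Odd k ∧ η = k) ∨ (Even k ∧ 2 * η = k))
    (g : ↥(Cfsg.isometryGroup F ⇑(H7.qOdd n F)))
    (hg : g ∈ commutator ↥(Cfsg.isometryGroup F ⇑(H7.qOdd n F))) (hog : orderOf g = 2 * r) :
    η < n ∨ (η = n ∧ ((Even k ∧ 4 ∣ Fintype.card F ^ n + 1) ∨
      (Odd k ∧ 4 ∣ Fintype.card F ^ n - 1))) := by
  classical
  have hp : p.Prime := Fact.out
  have h2 : (2 : F) ≠ 0 := H7.two_ne_zero_of_odd_card hodd
  have hrfact : Fact r.Prime := ⟨hr⟩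
  have hr3 : 3 ≤ r := by
    have := hr.two_le
    omega
  have hp2 : (2 : ℕ) ≠ p := by
    intro h
    apply h2
    have h3 := CharP.cast_eq_zero F p
    rw [← h] at h3
    exact_mod_cast h3
  obtain ⟨hkpos, hd⟩ := ord_props (F := F) p r hr hrp k hk
  have hnd : ∀ x : Unit ⊕ (Fin n ⊕ Fin n) → F,
      (∀ y, QuadraticMap.polar (⇑(H7.qOdd n F)) x y = 0) → x = 0 :=
    fun x hx => (H7.qOdd_nondeg n h2).1 x hx
  have hcard : Fintype.card (Unit ⊕ (Fin n ⊕ Fin n)) = 2 * n + 1 := by
    rw [Fintype.card_sum, Fintype.card_sum, Fintype.card_unit, Fintype.card_fin]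
    omega
  have hrev : ∀ (g' : ↥(Cfsg.isometryGroup F ⇑(H7.qOdd n F))) (f : F[X]),
      f ∣ ((g' : Matrix.GeneralLinearGroup (Unit ⊕ (Fin n ⊕ Fin n)) F) :
        Matrix (Unit ⊕ (Fin n ⊕ Fin n)) (Unit ⊕ (Fin n ⊕ Fin n)) F).charpoly →
      f.reverse ∣ ((g' : Matrix.GeneralLinearGroup (Unit ⊕ (Fin n ⊕ Fin n)) F) :
        Matrix (Unit ⊕ (Fin n ⊕ Fin n)) (Unit ⊕ (Fin n ⊕ Fin n)) F).charpoly :=
    fun g' f hf => orth_rev (H7.qOdd n F) hnd g' f hf
  obtain ⟨z, hz⟩ : ∃ z, z = g ^ 2 := ⟨_, rfl⟩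
  obtain ⟨t, ht⟩ : ∃ t, t = g ^ r := ⟨_, rfl⟩
  have hg2r : g ^ (2 * r) = 1 := by rw [← hog]; exact pow_orderOf_eq_one g
  have hzr : z ^ r = 1 := by rw [hz, ← pow_mul]; exact hg2r
  have hz1 : z ≠ 1 := by
    intro h
    rw [hz] at h
    have h1 := orderOf_dvd_of_pow_eq_one h
    rw [hog] at h1
    have := Nat.le_of_dvd (by norm_num) h1
    omega
  have htt : t ^ 2 = 1 := by rw [ht, ← pow_mul, mul_comm]; exact hg2r
  have ht1 : t ≠ 1 := by
    intro h
    rw [ht] at h
    have h1 := orderOf_dvd_of_pow_eq_one h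
    rw [hog] at h1
    have := Nat.le_of_dvd (by omega) h1
    omega
  have hcomm : Commute z t := by
    rw [hz, ht]
    exact (Commute.refl g).pow_pow _ _
  have htmem : t ∈ commutator ↥(Cfsg.isometryGroup F ⇑(H7.qOdd n F)) := by
    rw [ht]; exact Subgroup.pow_mem _ hg r
  have hzdim := mov_dim_gen p r hr hr2 hrp k η hk hη z hzr hz1 (hrev z)
  have hzsum := finrank_fixS_add_movS z
  rw [hcard] at hzsum
  have hηn : η ≤ n := by omega
  rcases Nat.lt_or_ge η n with hlt | hge
  · exact Or.inl hlt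
  right
  have hηeq : η = n := le_antisymm hηn hge
  refine ⟨hηeq, ?_⟩
  have hdet : ((t : Matrix.GeneralLinearGroup (Unit ⊕ (Fin n ⊕ Fin n)) F) :
      Matrix (Unit ⊕ (Fin n ⊕ Fin n)) (Unit ⊕ (Fin n ⊕ Fin n)) F).det = 1 :=
    H7.det_eq_one_of_mem_commutator (H7.qOdd n F) t htmem
  have hspin : spinSign (H7.qOdd n F) t = 1 :=
    MonoidHom.mem_ker.mp (Abelianization.commutator_subset_ker (spinSign (H7.qOdd n F)) htmem)
  obtain ⟨-, -, htne, -⟩ := movS_facts p 2 Nat.prime_two hp2 t htt ht1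
  have htsum := finrank_fixS_add_movS t
  rw [hcard] at htsum
  have htdim : 2 * n ≤ finrank F (movS t) := by
    by_cases hne : movS t ⊓ movS z = ⊥
    · exfalso
      have h1 := Submodule.finrank_sup_add_finrank_inf_eq (movS t) (movS z)
      rw [hne, finrank_bot, add_zero] at h1
      have h3 : finrank F ↥(movS t ⊔ movS z) ≤ 2 * n + 1 := by
        have := Submodule.finrank_le (movS t ⊔ movS z)
        rw [Module.finrank_fintype_fun_eq_card, hcard] at this
        exact this
      have hpos := finrank_pos_of_ne_bot _ htne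
      have hone : finrank F (movS t) = 1 := by omega
      have hrank : (((t : Matrix.GeneralLinearGroup (Unit ⊕ (Fin n ⊕ Fin n)) F) :
          Matrix (Unit ⊕ (Fin n ⊕ Fin n)) (Unit ⊕ (Fin n ⊕ Fin n)) F) - 1).rank = 1 := hone
      obtain ⟨v, hv, htv⟩ := eq_reflG_of_rank_one (H7.qOdd n F) (H7.qOdd_nondeg n h2) t hrank
      rw [htv] at hdet
      have hdet' : (Cfsg.reflectionMatrix (⇑(H7.qOdd n F)) v).det = 1 := hdet
      rw [det_reflectionMatrix _ v hv] at hdet'
      apply h2
      have h5 : (2 : F) = 1 - (-1) := by ring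
      rw [h5, hdet', sub_self]
    · have h1 := mov_t_dim h2 p r hr hr2 hrp k η hk hη g hg2r (by rw [← hz]; exact hz1)
        (by rw [← hz, ← ht]; exact hne) (hrev g)
      rw [← ht] at h1
      omega
  have hfixdim : finrank F (fixS t) ≤ 1 := by omega
  obtain ⟨v0, hv0, htv0⟩ := exists_fixed_of_det_one (H7.qOdd n F) h2 hnd
    (by rw [hcard]; exact ⟨n, rfl⟩) t hdet
  have hfixne : fixS t ≠ ⊥ := by
    intro hbot
    have h1 : v0 ∈ fixS t := (mem_fixS t v0).mpr htv0
    rw [hbot, Submodule.mem_bot] at h1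
    exact hv0 h1
  have hfixone : finrank F (fixS t) = 1 := by
    have := finrank_pos_of_ne_bot _ hfixne
    omega
  obtain ⟨e, heT, he0, hze⟩ : ∃ e ∈ fixS t, e ≠ 0 ∧ act z e = e := by
    by_contra hcon
    have hfree : ∀ x ∈ fixS t, act z x = x → x = 0 := by
      intro x hx hzx
      by_contra hx0
      exact hcon ⟨x, hx, hx0, hzx⟩
    have h1 := dvd_finrank_of_free z r hzr k hd (fixS t)
      (fun x hx => act_mem_fixS_of_commute z t hcomm hx) hfree
    rw [hfixone] at h1
    have hk1 : k = 1 := Nat.dvd_one.mp h1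
    rcases hη with ⟨-, h⟩ | ⟨h, -⟩
    · omega
    · rw [hk1] at h
      exact absurd h (by decide)
  have hspan_t : fixS t = Submodule.span F {e} := by
    symm
    apply Submodule.eq_of_le_of_finrank_le
    · rw [Submodule.span_singleton_le_iff_mem]
      exact heT
    · rw [finrank_span_singleton he0, hfixone]
  have hzfix1 : finrank F (fixS z) ≤ 1 := by omega
  have hspan_z : fixS z = Submodule.span F {e} := by
    symm
    apply Submodule.eq_of_le_of_finrank_le
    · rw [Submodule.span_singleton_le_iff_mem]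
      exact (mem_fixS z e).mpr hze
    · rw [finrank_span_singleton he0]
      exact hzfix1
  have hfix_iff : ∀ x : Unit ⊕ (Fin n ⊕ Fin n) → F, act z x = x ↔ act t x = x := by
    intro x
    rw [← mem_fixS, ← mem_fixS, hspan_t, hspan_z]
  -- the sphere
  have hS : Fintype.card (Sphere (H7.qOdd n F)) =
      Fintype.card F ^ (2 * n) + Fintype.card F ^ n := by
    rw [← Nat.card_eq_fintype_card]
    exact card_sphere_qOdd h2 n (by omega)
  obtain ⟨X, hX⟩ : ∃ X : Finset (Unit ⊕ (Fin n ⊕ Fin n) → F),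
      X = Finset.univ.filter (fun v => H7.qOdd n F v = 1) := ⟨_, rfl⟩
  have hXmem : ∀ v, v ∈ X ↔ H7.qOdd n F v = 1 := by
    intro v
    rw [hX, Finset.mem_filter]
    exact ⟨fun h => h.2, fun h => ⟨Finset.mem_univ _, h⟩⟩
  have hXcard : X.card = Fintype.card F ^ (2 * n) + Fintype.card F ^ n := by
    rw [← hS, hX, Fintype.card_subtype]
  have hXinv : ∀ x ∈ X, act z x ∈ X := by
    intro x hx
    rw [hXmem] at hx ⊢
    rw [← hx]
    exact isometry_apply z x
  have hmod := card_fixed_modEq z r hzr X hXinv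
  obtain ⟨φ, hφ⟩ : ∃ φ, φ = (X.filter (fun x => act t x = x)).card := ⟨_, rfl⟩
  have hfilt : X.filter (fun x => act z x = x) = X.filter (fun x => act t x = x) :=
    Finset.filter_congr (fun x _ => hfix_iff x)
  rw [hfilt, ← hφ, hXcard] at hmod
  have hφ2 : φ ≤ 2 := by
    rw [hφ]
    by_cases hemp : X.filter (fun x => act t x = x) = ∅
    · rw [hemp]
      simp
    · obtain ⟨v1, hv1⟩ := Finset.nonempty_iff_ne_empty.mpr hemp
      rw [Finset.mem_filter, hXmem] at hv1
      have hv1_0 : v1 ≠ 0 := by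
        intro h
        have h1 := hv1.1
        rw [h, QuadraticMap.map_zero] at h1
        exact zero_ne_one h1
      have hspan1 : fixS t = Submodule.span F {v1} := by
        symm
        apply Submodule.eq_of_le_of_finrank_le
        · rw [Submodule.span_singleton_le_iff_mem]
          exact (mem_fixS t v1).mpr hv1.2
        · rw [finrank_span_singleton hv1_0, hfixone]
      have hsub : X.filter (fun x => act t x = x) ⊆ {v1, -v1} := by
        intro v hv
        rw [Finset.mem_filter, hXmem] at hv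
        have hvfix : v ∈ fixS t := (mem_fixS t v).mpr hv.2
        rw [hspan1, Submodule.mem_span_singleton] at hvfix
        obtain ⟨c, rfl⟩ := hvfix
        have hvX := hv.1
        rw [QuadraticMap.map_smul, hv1.1, smul_eq_mul, mul_one] at hvX
        have hc : c = 1 ∨ c = -1 := mul_self_eq_one_iff.mp hvX
        rw [Finset.mem_insert, Finset.mem_singleton]
        rcases hc with rfl | rfl
        · left
          rw [one_smul]
        · right
          rw [neg_smul, one_smul]
      exact le_trans (Finset.card_le_card hsub) Finset.card_le_two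
  -- the sign
  obtain ⟨σ, hσ⟩ : ∃ σ, σ = spherePerm (H7.qOdd n F) t := ⟨_, rfl⟩
  have hσ2 : σ ^ 2 = 1 := by rw [hσ, ← map_pow, htt, map_one]
  have hσsign : Equiv.Perm.sign σ = 1 := by rw [hσ]; exact hspin
  have hcount := card_support_add_card_fixed σ
  have hσapp : ∀ x : Sphere (H7.qOdd n F), σ x = x ↔ act t x.1 = x.1 := by
    intro x
    rw [hσ]
    constructor
    · intro h
      exact congrArg Subtype.val h
    · intro h
      exact Subtype.ext h
  have hfixcard : Fintype.card {x : Sphere (H7.qOdd n F) // σ x = x} = φ := by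
    rw [hφ, ← Fintype.card_coe]
    apply Fintype.card_congr
    exact
      { toFun := fun x => ⟨x.1.1, Finset.mem_filter.mpr ⟨(hXmem _).mpr x.1.2,
            (hσapp x.1).mp x.2⟩⟩
        invFun := fun v => ⟨⟨v.1, (hXmem _).mp (Finset.mem_filter.mp v.2).1⟩,
            (hσapp _).mpr (Finset.mem_filter.mp v.2).2⟩
        left_inv := fun x => rfl
        right_inv := fun v => rfl }
  rw [hfixcard, hS] at hcount
  have hqn_odd : Odd (Fintype.card F ^ n) := hodd.pow
  have hsq : Fintype.card F ^ (2 * n) = Fintype.card F ^ n * Fintype.card F ^ n := by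
    rw [two_mul, pow_add]
  obtain ⟨Qn, hQn⟩ : ∃ Qn, Qn = Fintype.card F ^ n := ⟨_, rfl⟩
  rw [hsq, ← hQn] at hcount hmod
  rw [← hQn]
  rw [← hQn] at hqn_odd
  have hQ4 := sq_mod_four Qn (Nat.odd_iff.mp hqn_odd)
  have hQpos : 1 ≤ Qn := by
    rw [hQn]
    exact Nat.one_le_pow _ _ Fintype.card_pos
  obtain ⟨S, hSdef⟩ : ∃ S, S = Qn * Qn := ⟨_, rfl⟩
  rcases hη with ⟨hkodd, hηk⟩ | ⟨hkeven, hηk⟩
  · right
    refine ⟨hkodd, ?_⟩
    have hrdvd : r ∣ Qn - 1 := by
      have h1 : ((Fintype.card F : ℕ) : ZMod r) ^ k = 1 := by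
        rw [hk]
        exact pow_orderOf_eq_one _
      have h3 := (natCast_pow_eq_one_iff r _ k Fintype.card_pos).mp h1
      rw [← hηk, hηeq, ← hQn] at h3
      exact h3
    have h1 : 1 ≡ Qn [MOD r] := (Nat.modEq_iff_dvd' hQpos).mpr hrdvd
    have h3 : 1 * 1 + 1 ≡ φ [MOD r] := ((h1.mul h1).add h1).trans hmod
    have hφeq : φ = 2 := by
      have h4 : (1 * 1 + 1) % r = φ % r := h3
      rw [Nat.mod_eq_of_lt (by omega), Nat.mod_eq_of_lt (by omega)] at h4
      omega
    rw [hφeq, ← hSdef] at hcount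
    rw [← hSdef] at hQ4
    have heven : Even σ.support.card := by
      rw [Nat.even_iff]
      have := Nat.odd_iff.mp hqn_odd
      omega
    have h4 := four_dvd_support_of_sign σ hσ2 hσsign heven
    omega
  · left
    refine ⟨hkeven, ?_⟩
    have hrdvd : r ∣ Qn + 1 := by
      rw [hQn, ← hηeq]
      exact dvd_pow_add_one_of_even_ord r hr _ η (by omega) (by rw [hηk, hk])
    have h1 : r ∣ Qn * Qn + Qn := by
      have e : Qn * Qn + Qn = Qn * (Qn + 1) := by ring
      rw [e]
      exact Dvd.dvd.mul_left hrdvd Qn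
    have h3 : φ ≡ 0 [MOD r] := hmod.symm.trans (Nat.modEq_zero_iff_dvd.mpr h1)
    have hφeq : φ = 0 := Nat.eq_zero_of_dvd_of_lt (Nat.modEq_zero_iff_dvd.mp h3) (by omega)
    rw [hφeq, ← hSdef] at hcount
    rw [← hSdef] at hQ4
    have heven : Even σ.support.card := by
      rw [Nat.even_iff]
      have := Nat.odd_iff.mp hqn_odd
      omega
    have h4 := four_dvd_support_of_sign σ hσ2 hσsign heven
    omega

/-- Elements of order `2 r` of `PSp_{2n}(q)`: the arithmetic condition. -/
theorem psp_two_r (hodd : Odd (Fintype.card F)) (p : ℕ) [Fact p.Prime] [CharP F p] (n : ℕ)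
    (hn : 1 ≤ n) (r : ℕ) (hr : r.Prime) (hr2 : r ≠ 2) (hrp : r ≠ p) (k η : ℕ)
    (hk : k = orderOf ((Fintype.card F : ℕ) : ZMod r))
    (hη : (Odd k ∧ η = k) ∨ (Even k ∧ 2 * η = k))
    (x : Cfsg.PSp n F) (hx : orderOf x = 2 * r) :
    η < n ∨ (η = n ∧ ((Even k ∧ 4 ∣ Fintype.card F ^ n + 1) ∨
      (Odd k ∧ 4 ∣ Fintype.card F ^ n - 1))) := by
  classical
  have hp : p.Prime := Fact.out
  have hne : Nonempty (Fin n) := ⟨⟨0, by omega⟩⟩
  have h2 : (2 : F) ≠ 0 := H7.two_ne_zero_of_odd_card hodd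
  have hr3 : 3 ≤ r := by
    have := hr.two_le
    omega
  have hp2 : (2 : ℕ) ≠ p := by
    intro h
    apply h2
    have h3 := CharP.cast_eq_zero F p
    rw [← h] at h3
    exact_mod_cast h3
  have hrF := prime_cast_ne_zero (F := F) p r hr hrp
  obtain ⟨hkpos, hd⟩ := ord_props (F := F) p r hr hrp k hk
  have hcard : Fintype.card (Fin n ⊕ Fin n) = 2 * n := by
    rw [Fintype.card_sum, Fintype.card_fin]
    ring
  obtain ⟨A, rfl⟩ := QuotientGroup.mk_surjective x
  have hxpow : ∀ j : ℕ, A ^ j = 1 ∨ A ^ j = H6.spNegOne (Fin n) F → 2 * r ∣ j := by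
    intro j hj
    rw [← hx]
    apply orderOf_dvd_of_pow_eq_one
    rw [← QuotientGroup.mk_pow, QuotientGroup.eq_one_iff, sp_mem_center_iff]
    exact hj
  have hA2r : A ^ (2 * r) = 1 ∨ A ^ (2 * r) = H6.spNegOne (Fin n) F := by
    have h1 := pow_orderOf_eq_one (QuotientGroup.mk A : Cfsg.PSp n F)
    rw [hx, ← QuotientGroup.mk_pow, QuotientGroup.eq_one_iff, sp_mem_center_iff] at h1
    exact h1
  have hA4r : A ^ (4 * r) = 1 := by
    rw [show 4 * r = (2 * r) * 2 by ring, pow_mul]
    rcases hA2r with h | h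
    · rw [h, one_pow]
    · rw [h, pow_two]
      exact sp_negOne_sq n
  have hA4 : A ^ 4 ≠ 1 := by
    intro h
    have h1 := hxpow 4 (Or.inl h)
    have := Nat.le_of_dvd (by norm_num) h1
    omega
  obtain ⟨w, hw⟩ : ∃ w, w = A ^ 4 := ⟨_, rfl⟩
  have how : orderOf w = r := by
    have hrfact : Fact r.Prime := ⟨hr⟩
    apply orderOf_eq_prime
    · rw [hw, ← pow_mul]
      exact hA4r
    · rw [hw]
      exact hA4
  have hdw := sp_mov_dim p n r hr hr2 hrp k η hk hη w how
  obtain ⟨W, hW⟩ : ∃ W, W = spIso n F w := ⟨_, rfl⟩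
  rw [← hW] at hdw
  have hWsum := finrank_fixS_add_movS W
  rw [hcard] at hWsum
  have hηn : η ≤ n := by omega
  rcases Nat.lt_or_ge η n with hlt | hge
  · exact Or.inl hlt
  right
  have hηeq : η = n := le_antisymm hηn hge
  refine ⟨hηeq, ?_⟩
  have hWfix : ∀ y, act W y = y → y = 0 := by
    intro y hy
    have h1 : finrank F (fixS W) = 0 := by omega
    have h3 : fixS W = ⊥ := Submodule.finrank_eq_zero.mp h1
    have h4 : y ∈ fixS W := (mem_fixS W y).mpr hy
    rw [h3, Submodule.mem_bot] at h4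
    exact h4
  obtain ⟨g, hg⟩ : ∃ g, g = spIso n F A := ⟨_, rfl⟩
  have hgpow : ∀ j : ℕ, g ^ j = spIso n F (A ^ j) := by
    intro j
    rw [hg, map_pow]
  have hgrev : ∀ f : F[X],
      f ∣ ((g : Matrix.GeneralLinearGroup (Fin n ⊕ Fin n) F) :
        Matrix (Fin n ⊕ Fin n) (Fin n ⊕ Fin n) F).charpoly →
      f.reverse ∣ ((g : Matrix.GeneralLinearGroup (Fin n ⊕ Fin n) F) :
        Matrix (Fin n ⊕ Fin n) (Fin n ⊕ Fin n) F).charpoly := by
    rw [hg]
    exact fun f hf => sp_rev n A f hf
  rcases hA2r with hA1 | hAneg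
  · exfalso
    have hg2r : g ^ (2 * r) = 1 := by rw [hgpow, hA1, map_one]
    have hA2 : A ^ 2 ≠ 1 := by
      intro h
      apply hA4
      rw [show 4 = 2 * 2 by norm_num, pow_mul, h, one_pow]
    have hz1 : g ^ 2 ≠ 1 := by
      intro h
      rw [hgpow, ← map_one (spIso n F)] at h
      exact hA2 (spIso_injective n h)
    have hAr : A ^ r ≠ 1 := by
      intro h
      have h1 := hxpow r (Or.inl h)
      have := Nat.le_of_dvd hr.pos h1
      omega
    obtain ⟨t, ht⟩ : ∃ t, t = g ^ r := ⟨_, rfl⟩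
    have ht1 : t ≠ 1 := by
      intro h
      rw [ht, hgpow, ← map_one (spIso n F)] at h
      exact hAr (spIso_injective n h)
    have htt : t ^ 2 = 1 := by
      rw [ht, ← pow_mul, mul_comm]
      exact hg2r
    obtain ⟨-, -, htne, -⟩ := movS_facts p 2 Nat.prime_two hp2 t htt ht1
    have hoz : orderOf (A ^ 2) = r := by
      have hrfact : Fact r.Prime := ⟨hr⟩
      apply orderOf_eq_prime
      · rw [← pow_mul]
        exact hA1
      · exact hA2
    have hdz := sp_mov_dim p n r hr hr2 hrp k η hk hη (A ^ 2) hoz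
    rw [← hgpow] at hdz
    have hztop : movS (g ^ 2) = ⊤ := by
      apply Submodule.eq_top_of_finrank_eq
      rw [Module.finrank_fintype_fun_eq_card, hcard]
      have := Submodule.finrank_le (movS (g ^ 2))
      rw [Module.finrank_fintype_fun_eq_card, hcard] at this
      omega
    have hne' : movS (g ^ r) ⊓ movS (g ^ 2) ≠ ⊥ := by
      rw [hztop, inf_top_eq, ← ht]
      exact htne
    have htdim := mov_t_dim h2 p r hr hr2 hrp k η hk hη g hg2r hz1 hne' hgrev
    rw [← ht] at htdim
    have htsum := finrank_fixS_add_movS t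
    rw [hcard] at htsum
    have htfix : fixS t = ⊥ := Submodule.finrank_eq_zero.mp (by omega)
    have hneg : ∀ y, act t y = -y := by
      intro y
      have h1 : y + act t y ∈ fixS t := by
        rw [mem_fixS, act_add, ← act_mul, ← pow_two, htt, act_one, add_comm]
      rw [htfix, Submodule.mem_bot] at h1
      exact eq_neg_of_add_eq_zero_right h1
    have hArneg : A ^ r = H6.spNegOne (Fin n) F := by
      apply Subtype.ext
      apply matrix_ext_mulVec
      intro y
      have h1 := hneg y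
      rw [ht, hgpow, spIso_act] at h1
      rw [h1]
      show -y = (-1 : Matrix (Fin n ⊕ Fin n) (Fin n ⊕ Fin n) F) *ᵥ y
      rw [Matrix.neg_mulVec, Matrix.one_mulVec]
    have h1 := hxpow r (Or.inr hArneg)
    have := Nat.le_of_dvd hr.pos h1
    omega
  · obtain ⟨M, hM⟩ : ∃ M : Matrix (Fin n ⊕ Fin n) (Fin n ⊕ Fin n) F,
        M = (A : Matrix (Fin n ⊕ Fin n) (Fin n ⊕ Fin n) F) := ⟨_, rfl⟩
    have hMsp : M ∈ Matrix.symplecticGroup (Fin n) F := by
      rw [hM]
      exact A.2
    obtain ⟨T, hT⟩ : ∃ T : Module.End F (Fin n ⊕ Fin n → F), T = Matrix.toLin' M := ⟨_, rfl⟩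
    have hTpow : ∀ (j : ℕ) (y : Fin n ⊕ Fin n → F),
        (T ^ j) y = act (spIso n F (A ^ j)) y := by
      intro j y
      rw [hT, hM]
      exact toLin_pow_act n A j y
    have hXpow : ∀ (j : ℕ) (y : Fin n ⊕ Fin n → F),
        aeval T (X ^ j - 1 : F[X]) y = act (spIso n F (A ^ j)) y - y := by
      intro j y
      rw [map_sub, map_pow, aeval_X, map_one, LinearMap.sub_apply, Module.End.one_apply, hTpow]
    have hXpow' : ∀ (j : ℕ) (y : Fin n ⊕ Fin n → F),
        aeval T (X ^ j + 1 : F[X]) y = act (spIso n F (A ^ j)) y + y := by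
      intro j y
      rw [map_add, map_pow, aeval_X, map_one, LinearMap.add_apply, Module.End.one_apply, hTpow]
    have hnegact : ∀ y : Fin n ⊕ Fin n → F, act (spIso n F (A ^ (2 * r))) y = -y := by
      intro y
      rw [hAneg, spIso_act]
      show (-1 : Matrix (Fin n ⊕ Fin n) (Fin n ⊕ Fin n) F) *ᵥ y = -y
      rw [Matrix.neg_mulVec, Matrix.one_mulVec]
    obtain ⟨u, hu0⟩ : ∃ u : Fin n ⊕ Fin n → F, u ≠ 0 := by
      refine ⟨Pi.single (Sum.inl ⟨0, by omega⟩) 1, ?_⟩
      intro h
      have h1 := congrFun h (Sum.inl ⟨0, by omega⟩)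
      rw [Pi.single_eq_same, Pi.zero_apply] at h1
      exact one_ne_zero h1
    have hN0 : 0 < 2 * r := by omega
    have hg0 : (X ^ (2 * r) + 1 : F[X]) ≠ 0 := by
      have h1 := X_pow_add_C_ne_zero (R := F) hN0 (1 : F)
      rw [C_1] at h1
      exact h1
    have hgu : aeval T (X ^ (2 * r) + 1 : F[X]) u = 0 := by
      rw [hXpow', hnegact, neg_add_cancel]
    obtain ⟨f, hfm, hf, hfg, u', -, hu'0, hfu'⟩ :=
      exists_irr_of_ann T ⊤ (fun _ _ => Submodule.mem_top) _ (X ^ (2 * r) + 1) le_rfl hg0 u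
        Submodule.mem_top hu0 hgu
    have hn4 : ¬ f ∣ X ^ 4 - 1 := by
      rintro ⟨c, hc⟩
      have h1 : aeval T (X ^ 4 - 1 : F[X]) u' = 0 := by
        rw [hc, mul_comm, map_mul, Module.End.mul_apply, hfu', map_zero]
      rw [hXpow, ← hw, ← hW, sub_eq_zero] at h1
      exact hu'0 (hWfix u' h1)
    have hn2r : ¬ f ∣ X ^ (2 * r) - 1 := by
      intro h4
      have h5 : f ∣ C (1 + 1 : F) := by
        have h6 := dvd_sub hfg h4
        have e : (X ^ (2 * r) + 1 : F[X]) - (X ^ (2 * r) - 1) = C (1 + 1 : F) := by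
          rw [C_add, C_1]
          ring
        rw [e] at h6
        exact h6
      have h7 : IsUnit (C (1 + 1 : F)) := by
        rw [isUnit_C]
        exact IsUnit.mk0 _ (by rw [one_add_one_eq_two]; exact h2)
      exact hf.not_isUnit (isUnit_of_dvd_unit h5 h7)
    have hN0' : 0 < 4 * r := by omega
    have hfcyc : f ∣ cyclotomic (4 * r) F := by
      have hfg' : f ∣ X ^ (4 * r) - 1 := by
        have e : (X ^ (4 * r) - 1 : F[X]) = (X ^ (2 * r) + 1) * (X ^ (2 * r) - 1) := by
          rw [show 4 * r = 2 * r + 2 * r by ring, pow_add]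
          ring
        rw [e]
        exact dvd_mul_of_dvd_left hfg _
      have h1 : f ∣ ∏ i ∈ (4 * r).divisors, cyclotomic i F := by
        rw [prod_cyclotomic_eq_X_pow_sub_one hN0']
        exact hfg'
      obtain ⟨i, hi, h2'⟩ := (Prime.dvd_finsetProd_iff hf.prime _).mp h1
      have hi' : i ∣ 4 * r := Nat.dvd_of_mem_divisors hi
      have h3 : f ∣ X ^ i - 1 := dvd_trans h2' (cyclotomic.dvd_X_pow_sub_one i F)
      by_cases hri : r ∣ i
      · obtain ⟨c, hc⟩ := hri
        have hc4 : c ∣ 4 := by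
          rw [hc, mul_comm 4 r] at hi'
          exact Nat.dvd_of_mul_dvd_mul_left hr.pos hi'
        have hcle : c ≤ 4 := Nat.le_of_dvd (by norm_num) hc4
        have hc2 : c ∣ 2 ∨ c = 4 := by
          interval_cases c
          · exact absurd hc4 (by decide)
          · left
            decide
          · left
            decide
          · exact absurd hc4 (by decide)
          · right
            rfl
        rcases hc2 with hc2 | hc2
        · exfalso
          apply hn2r
          obtain ⟨e, he⟩ := hc2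
          have h5 : 2 * r = i * e := by
            rw [hc]
            calc 2 * r = (c * e) * r := by rw [← he]
              _ = r * c * e := by ring
          have h4 : X ^ i - 1 ∣ (X ^ (2 * r) - 1 : F[X]) := by
            rw [h5]
            exact pow_one_sub_dvd_pow_mul_sub_one X i e
          exact dvd_trans h3 h4
        · rw [hc, hc2, mul_comm] at h2'
          exact h2'
      · have hcop : Nat.Coprime i r :=
          Nat.Coprime.symm ((Nat.Prime.coprime_iff_not_dvd hr).mpr hri)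
        have hi4 : i ∣ 4 := hcop.dvd_of_dvd_mul_right hi'
        exfalso
        apply hn4
        obtain ⟨c, hc⟩ := hi4
        rw [hc]
        exact dvd_trans h3 (pow_one_sub_dvd_pow_mul_sub_one X i c)
    have hNF : ((4 * r : ℕ) : F) ≠ 0 := by
      rw [Nat.cast_mul]
      exact mul_ne_zero (four_cast_ne_zero h2) hrF
    obtain ⟨hdeg, hf0, -, -, -⟩ := cyc_factor (4 * r) hN0' hNF f hf hfm hfcyc
    obtain ⟨d, hd'⟩ : ∃ d, d = orderOf ((Fintype.card F : ℕ) : ZMod (4 * r)) := ⟨_, rfl⟩
    rw [← hd'] at hdeg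
    have hq1 : 1 ≤ Fintype.card F := Fintype.card_pos
    have hd0 : 0 < d := by
      rw [← hdeg]
      exact hf.natDegree_pos
    have hd4r : 4 * r ∣ Fintype.card F ^ d - 1 := by
      rw [← natCast_pow_eq_one_iff (4 * r) _ d hq1, hd']
      exact pow_orderOf_eq_one _
    have hkd : k ∣ d := hd d (dvd_trans (dvd_mul_left r 4) hd4r)
    have hTχ : T.charpoly = M.charpoly := by rw [hT, Matrix.charpoly_toLin']
    have hfχ : f ∣ M.charpoly := by
      rw [← hTχ]
      exact irr_dvd_charpoly_of_ker T f hf u' hu'0 hfu'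
    have hχdeg : M.charpoly.natDegree = 2 * n := by
      rw [Matrix.charpoly_natDegree_eq_dim, hcard]
    have hχ0 : M.charpoly ≠ 0 := (Matrix.charpoly_monic M).ne_zero
    by_cases hsd : f ∣ f.reverse
    · left
      obtain ⟨m, hm⟩ := cyc_factor_sd (4 * r) hN0' hNF f hf hfm hfcyc hsd
      have h1 := ord_of_dvd_pow_add_one r (Fintype.card F) m hr3
        (dvd_trans (dvd_mul_left r 4) hm)
      rw [← hk] at h1
      have h4m : 4 ∣ Fintype.card F ^ m + 1 := dvd_trans (dvd_mul_right 4 r) hm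
      rcases hη with ⟨hkodd, hηk⟩ | ⟨hkeven, hηk⟩
      · exfalso
        apply h1.2
        exact (Nat.Coprime.dvd_of_dvd_mul_left (Nat.coprime_two_right.mpr hkodd)) h1.1
      · refine ⟨hkeven, ?_⟩
        have hnm : n ∣ m := by
          obtain ⟨c, hc⟩ := h1.1
          refine ⟨c, ?_⟩
          rw [← hηk, hηeq] at hc
          have h5 : 2 * m = 2 * (n * c) := by
            rw [hc]
            ring
          exact Nat.eq_of_mul_eq_mul_left (by norm_num) h5
        exact four_dvd_pow_add_one _ m n hodd h4m hnm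
    · right
      have hcop : IsCoprime f f.reverse := hf.coprime_iff_not_dvd.mpr hsd
      have hrevχ : f.reverse ∣ M.charpoly := by
        obtain ⟨c, hc⟩ := hfχ
        refine ⟨c.reverse, ?_⟩
        rw [← reverse_mul_of_domain, ← hc, sp_charpoly_reverse n M hMsp]
      have hrd : f.reverse.natDegree = f.natDegree := by
        rw [reverse_natDegree, natTrailingDegree_eq_zero.mpr (Or.inr hf0), Nat.sub_zero]
      have hrev0 : f.reverse ≠ 0 := by
        intro h0
        rw [h0, natDegree_zero] at hrd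
        exact hf.natDegree_pos.ne hrd
      have h1 := natDegree_le_of_dvd (hcop.mul_dvd hfχ hrevχ) hχ0
      rw [natDegree_mul hfm.ne_zero hrev0, hrd, hχdeg, hdeg] at h1
      have hdn : d ≤ n := by omega
      have hkle : k ≤ d := Nat.le_of_dvd hd0 hkd
      rcases hη with ⟨hkodd, hηk⟩ | ⟨hkeven, hηk⟩
      · refine ⟨hkodd, ?_⟩
        have hdeq : d = n := by omega
        rw [hdeq] at hd4r
        exact dvd_trans (dvd_mul_right 4 r) hd4r
      · exfalso
        omega

end BC2r

end Cfsg.Agent.H45
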