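import Mathlib
import Cfsg.Agent.H45.BC2r

set_option autoImplicit false

namespace Cfsg.Agent.H45

open Matrix Polynomial Module Cfsg.Agent.H49

universe u

section BCGraph

theorem exists_eta (k : ℕ) : ∃ η : ℕ, (Odd k ∧ η = k) ∨ (Even k ∧ 2 * η = k) := by
  rcases Nat.even_or_odd k with h | h
  · obtain ⟨c, hc⟩ := h
    exact ⟨c, Or.inr ⟨⟨c, hc⟩, by omega⟩⟩
  · exact ⟨k, Or.inl ⟨h, rfl⟩⟩

theorem qOdd_card (n : ℕ) : Fintype.card (Unit ⊕ (Fin n ⊕ Fin n)) = 2 * n + 1 := by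
  rw [Fintype.card_sum, Fintype.card_sum, Fintype.card_unit, Fintype.card_fin]
  omega

variable {F : Type u} [Field F] [Fintype F]

theorem char_ne_two_of_two_ne_zero (h2 : (2 : F) ≠ 0) (p : ℕ) [Fact p.Prime] [CharP F p] :
    p ≠ 2 := by
  intro h
  apply h2
  have h3 := CharP.cast_eq_zero F p
  rw [h] at h3
  exact_mod_cast h3

theorem qOdd_rev (h2 : (2 : F) ≠ 0) (n : ℕ) (g : ↥(Cfsg.isometryGroup F ⇑(H7.qOdd n F)))
    (f : F[X])
    (hf : f ∣ ((g : Matrix.GeneralLinearGroup (Unit ⊕ (Fin n ⊕ Fin n)) F) :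
      Matrix (Unit ⊕ (Fin n ⊕ Fin n)) (Unit ⊕ (Fin n ⊕ Fin n)) F).charpoly) :
    f.reverse ∣ ((g : Matrix.GeneralLinearGroup (Unit ⊕ (Fin n ⊕ Fin n)) F) :
      Matrix (Unit ⊕ (Fin n ⊕ Fin n)) (Unit ⊕ (Fin n ⊕ Fin n)) F).charpoly :=
  orth_rev (H7.qOdd n F) (fun x hx => (H7.qOdd_nondeg n h2).1 x hx) g f hf

/-- Two odd primes different from `p` in `Ω_{2n+1}(q)`. -/
theorem om_rs_iff (h2 : (2 : F) ≠ 0) (p : ℕ) [Fact p.Prime] [CharP F p] (n : ℕ) (hn : 2 ≤ n)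
    (r s : ℕ) (hr : r.Prime) (hs : s.Prime) (hr2 : r ≠ 2) (hs2 : s ≠ 2) (hrp : r ≠ p)
    (hsp : s ≠ p) (hrs : r ≠ s) (k l ηk ηl : ℕ)
    (hk : k = orderOf ((Fintype.card F : ℕ) : ZMod r))
    (hl : l = orderOf ((Fintype.card F : ℕ) : ZMod s))
    (hηk : (Odd k ∧ ηk = k) ∨ (Even k ∧ 2 * ηk = k))
    (hηl : (Odd l ∧ ηl = l) ∨ (Even l ∧ 2 * ηl = l)) (hkl : ηk ≤ ηl) :
    r * s ∈ Set.range (orderOf : Cfsg.POmega F ⇑(H7.qOdd n F) → ℕ) ↔
      (ηl ≤ n ∧ (ηk + ηl ≤ n ∨ ∃ t : ℕ, Odd t ∧ l = k * t)) := by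
  have hoddN : Odd (r * s) := (hr.odd_of_ne_two hr2).mul (hs.odd_of_ne_two hs2)
  constructor
  · intro h
    obtain ⟨g, -, hog⟩ := om_lift h2 n hn (r * s) h
    refine ⟨?_, ?_⟩
    · obtain ⟨Z, hZ⟩ : ∃ Z, Z = g ^ r := ⟨_, rfl⟩
      have hZs : Z ^ s = 1 := by
        rw [hZ, ← pow_mul, ← hog]
        exact pow_orderOf_eq_one g
      have hZ1 : Z ≠ 1 := by
        intro h1
        rw [hZ] at h1
        have h3 := orderOf_dvd_of_pow_eq_one h1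
        rw [hog] at h3
        have h4 : r * s ≤ r := Nat.le_of_dvd hr.pos h3
        have h5 : r * 2 ≤ r * s := Nat.mul_le_mul_left r hs.two_le
        have := hr.pos
        omega
      have h1 := mov_dim_gen p s hs hs2 hsp l ηl hl hηl Z hZs hZ1 (qOdd_rev h2 n Z)
      have h3 := finrank_fixS_add_movS Z
      rw [qOdd_card] at h3
      omega
    · exact no_elt_rs_gen p n (le_of_eq (qOdd_card n)) r s hr hs hr2 hs2 hrp hsp k l ηk ηl hk hl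
        hηk hηl hkl (qOdd_rev h2 n) g hog
  · rintro ⟨hηn, h⟩
    obtain ⟨η', P₀, hη', hP₀r, hP₀m, hP₀d, hP₀e, hP₀e', hP₀A⟩ :=
      real_rs p n r s hr hs hr2 hs2 hrp hsp hrs k l ηk ηl hk hl hηk hηl hηn h
    obtain ⟨G, hG⟩ := o_exists h2 p n η' (r * s) hη' (Nat.mul_pos hr.pos hs.pos) P₀ hP₀r hP₀d
      hP₀e hP₀e' hP₀A
    exact om_has_odd h2 n hn G (r * s) hG hoddN

/-- Two odd primes different from `p` in `PSp_{2n}(q)`. -/
theorem psp_rs_iff (p : ℕ) [Fact p.Prime] [CharP F p] (n : ℕ) (hn : 1 ≤ n)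
    (r s : ℕ) (hr : r.Prime) (hs : s.Prime) (hr2 : r ≠ 2) (hs2 : s ≠ 2) (hrp : r ≠ p)
    (hsp : s ≠ p) (hrs : r ≠ s) (k l ηk ηl : ℕ)
    (hk : k = orderOf ((Fintype.card F : ℕ) : ZMod r))
    (hl : l = orderOf ((Fintype.card F : ℕ) : ZMod s))
    (hηk : (Odd k ∧ ηk = k) ∨ (Even k ∧ 2 * ηk = k))
    (hηl : (Odd l ∧ ηl = l) ∨ (Even l ∧ 2 * ηl = l)) (hkl : ηk ≤ ηl) :
    r * s ∈ Set.range (orderOf : Cfsg.PSp n F → ℕ) ↔
      (ηl ≤ n ∧ (ηk + ηl ≤ n ∨ ∃ t : ℕ, Odd t ∧ l = k * t)) := by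
  classical
  have hne : Nonempty (Fin n) := ⟨⟨0, by omega⟩⟩
  have hoddN : Odd (r * s) := (hr.odd_of_ne_two hr2).mul (hs.odd_of_ne_two hs2)
  constructor
  · rintro ⟨x, hx⟩
    refine ⟨?_, ?_⟩
    · obtain ⟨A, hA1, hA2⟩ := psp_lift n (r * s) (fun _ => hoddN) x hx
      have hoA : orderOf A = r * s := by
        apply Nat.dvd_antisymm (orderOf_dvd_of_pow_eq_one hA1)
        rw [← hA2]
        exact orderOf_map_dvd (QuotientGroup.mk' _) A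
      obtain ⟨w, hw⟩ : ∃ w, w = A ^ r := ⟨_, rfl⟩
      have how : orderOf w = s := by
        rw [hw, orderOf_pow_of_dvd hr.ne_zero (by rw [hoA]; exact dvd_mul_right r s), hoA,
          Nat.mul_div_cancel_left _ hr.pos]
      have hdw := sp_mov_dim p n s hs hs2 hsp l ηl hl hηl w how
      have h3 := finrank_fixS_add_movS (spIso n F w)
      rw [Fintype.card_sum, Fintype.card_fin] at h3
      omega
    · by_cases h1 : ηk + ηl ≤ n
      · exact Or.inl h1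
      · right
        by_contra hno
        exact psp_no_elt_rs p n hn r s hr hs hr2 hs2 hrp hsp k l ηk ηl hk hl hηk hηl hkl
          (by omega) hno x hx
  · rintro ⟨hηn, h⟩
    obtain ⟨η', P₀, hη', hP₀r, hP₀m, hP₀d, -, -, hP₀A⟩ :=
      real_rs p n r s hr hs hr2 hs2 hrp hsp hrs k l ηk ηl hk hl hηk hηl hηn h
    obtain ⟨x, hx⟩ := psp_exists_ss p n η' (r * s) hn hη' (Nat.mul_pos hr.pos hs.pos)
      (fun _ => hoddN) P₀ hP₀r hP₀m hP₀d hP₀A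
    exact ⟨x, hx⟩

/-- An odd prime `r ≠ p` and `p` in `Ω_{2n+1}(q)`. -/
theorem om_rp_iff (h2 : (2 : F) ≠ 0) (p : ℕ) [Fact p.Prime] [CharP F p] (n : ℕ) (hn : 2 ≤ n)
    (r : ℕ) (hr : r.Prime) (hr2 : r ≠ 2) (hrp : r ≠ p) (k η : ℕ)
    (hk : k = orderOf ((Fintype.card F : ℕ) : ZMod r))
    (hη : (Odd k ∧ η = k) ∨ (Even k ∧ 2 * η = k)) :
    r * p ∈ Set.range (orderOf : Cfsg.POmega F ⇑(H7.qOdd n F) → ℕ) ↔ η < n := by
  have hp : p.Prime := Fact.out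
  have hp2 : p ≠ 2 := char_ne_two_of_two_ne_zero h2 p
  constructor
  · intro h
    obtain ⟨g, -, hog⟩ := om_lift h2 n hn (r * p) h
    by_contra hcon
    have hnη : n ≤ η := by omega
    obtain ⟨Z, hZ⟩ : ∃ Z, Z = g ^ p := ⟨_, rfl⟩
    obtain ⟨U, hU⟩ : ∃ U, U = g ^ r := ⟨_, rfl⟩
    have hZr : Z ^ r = 1 := by
      rw [hZ, ← pow_mul, mul_comm, ← hog]
      exact pow_orderOf_eq_one g
    have hUp : U ^ p = 1 := by
      rw [hU, ← pow_mul, ← hog]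
      exact pow_orderOf_eq_one g
    have hZ1 : Z ≠ 1 := by
      intro h1
      rw [hZ] at h1
      have h3 := orderOf_dvd_of_pow_eq_one h1
      rw [hog] at h3
      have h4 : r * p ≤ p := Nat.le_of_dvd hp.pos h3
      have h5 : 2 * p ≤ r * p := Nat.mul_le_mul_right p hr.two_le
      have := hp.pos
      omega
    have hU1 : U ≠ 1 := by
      intro h1
      rw [hU] at h1
      have h3 := orderOf_dvd_of_pow_eq_one h1
      rw [hog] at h3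
      have h4 : r * p ≤ r := Nat.le_of_dvd hr.pos h3
      have h5 : r * 2 ≤ r * p := Nat.mul_le_mul_left r hp.two_le
      have := hr.pos
      omega
    have hcomm : Commute U Z := by
      rw [hU, hZ]
      exact (Commute.refl g).pow_pow _ _
    exact hU1 (no_elt_pr_gen p n hn (le_of_eq (qOdd_card n)) r hr hr2 hrp k η hk hη hnη Z U hZr
      hZ1 hUp hcomm (qOdd_rev h2 n Z))
  · intro hlt
    obtain ⟨P₀, hP₀r, hP₀m, hP₀d, hP₀e, hP₀e', hP₀A⟩ :=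
      real_block_prime (F := F) p r hr hr2 hrp k η hk hη
    have hcop : Nat.Coprime r p := (Nat.coprime_primes hr hp).mpr hrp
    obtain ⟨G, hG⟩ := o_exists_p h2 p n η r (by omega) hr.pos hcop P₀ hP₀r hP₀d hP₀e hP₀e' hP₀A
    exact om_has_odd h2 n hn G (r * p) hG ((hr.odd_of_ne_two hr2).mul (hp.odd_of_ne_two hp2))

/-- An odd prime `r ≠ p` and `p` in `PSp_{2n}(q)`. -/
theorem psp_rp_iff (p : ℕ) [Fact p.Prime] [CharP F p] (n : ℕ) (hn : 1 ≤ n)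
    (r : ℕ) (hr : r.Prime) (hr2 : r ≠ 2) (hrp : r ≠ p) (k η : ℕ)
    (hk : k = orderOf ((Fintype.card F : ℕ) : ZMod r))
    (hη : (Odd k ∧ η = k) ∨ (Even k ∧ 2 * η = k)) :
    r * p ∈ Set.range (orderOf : Cfsg.PSp n F → ℕ) ↔ η < n := by
  constructor
  · rintro ⟨x, hx⟩
    by_contra hcon
    exact psp_no_elt p n hn r hr hr2 hrp k η hk hη (by omega) x hx
  · intro hlt
    obtain ⟨P₀, hP₀r, hP₀m, hP₀d, -, -, hP₀A⟩ :=
      real_block_prime (F := F) p r hr hr2 hrp k η hk hη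
    obtain ⟨x, hx⟩ := psp_exists_of_realizable p n η r (by omega) hr.pos P₀ hP₀r hP₀m hP₀d hP₀A
    exact ⟨x, by rw [hx, mul_comm]⟩

/-- `2 p` is an element order of `Ω_{2n+1}(q)`, `q` odd. -/
theorem om_two_p (hodd : Odd (Fintype.card F)) (p : ℕ) [Fact p.Prime] [CharP F p] (n : ℕ)
    (hn : 2 ≤ n) : 2 * p ∈ Set.range (orderOf : Cfsg.POmega F ⇑(H7.qOdd n F) → ℕ) := by
  have hp : p.Prime := Fact.out
  have h2 : (2 : F) ≠ 0 := H7.two_ne_zero_of_odd_card hodd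
  have hp2 : p ≠ 2 := char_ne_two_of_two_ne_zero h2 p
  obtain ⟨P₀, hP₀r, hP₀m, hP₀d, hP₀e, hP₀e', hP₀A⟩ := real_block_four hodd p
  have hcop : Nat.Coprime 4 p := by
    have h1 : Nat.Coprime 2 p := (Nat.coprime_primes Nat.prime_two hp).mpr (Ne.symm hp2)
    have h3 : Nat.Coprime (2 ^ 2) p := Nat.Coprime.pow_left 2 h1
    exact h3
  obtain ⟨G, hG⟩ := o_exists_p h2 p n 1 4 (by omega) (by norm_num) hcop P₀ hP₀r hP₀d hP₀e hP₀e'
    hP₀A
  exact om_has_four h2 n hn G p hG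

/-- `2 p` is an element order of `PSp_{2n}(q)`, `q` odd. -/
theorem psp_two_p (hodd : Odd (Fintype.card F)) (p : ℕ) [Fact p.Prime] [CharP F p] (n : ℕ)
    (hn : 2 ≤ n) : 2 * p ∈ Set.range (orderOf : Cfsg.PSp n F → ℕ) := by
  obtain ⟨P₀, hP₀r, hP₀m, hP₀d, -, -, hP₀A⟩ := real_block_four hodd p
  obtain ⟨x, hx⟩ := psp_exists_of_realizable p n 1 4 (by omega) (by norm_num) P₀ hP₀r hP₀m hP₀d
    hP₀A
  refine ⟨x ^ 2, ?_⟩
  rw [orderOf_pow' x (by norm_num), hx, Nat.gcd_eq_right (⟨p * 2, by ring⟩ : 2 ∣ p * 4)]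
  omega

/-- `2 r` in `Ω_{2n+1}(q)`. -/
theorem om_two_r_iff (hodd : Odd (Fintype.card F)) (p : ℕ) [Fact p.Prime] [CharP F p] (n : ℕ)
    (hn : 2 ≤ n) (r : ℕ) (hr : r.Prime) (hr2 : r ≠ 2) (hrp : r ≠ p) (k η : ℕ)
    (hk : k = orderOf ((Fintype.card F : ℕ) : ZMod r))
    (hη : (Odd k ∧ η = k) ∨ (Even k ∧ 2 * η = k)) :
    2 * r ∈ Set.range (orderOf : Cfsg.POmega F ⇑(H7.qOdd n F) → ℕ) ↔
      (η < n ∨ (η = n ∧ ((Even k ∧ 4 ∣ Fintype.card F ^ n + 1) ∨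
        (Odd k ∧ 4 ∣ Fintype.card F ^ n - 1)))) := by
  have h2 : (2 : F) ≠ 0 := H7.two_ne_zero_of_odd_card hodd
  constructor
  · intro h
    obtain ⟨g, hg, hog⟩ := om_lift h2 n hn (2 * r) h
    exact om_two_r hodd p n hn r hr hr2 hrp k η hk hη g hg hog
  · intro hD
    obtain ⟨η', P₀, hη', hP₀r, hP₀m, hP₀d, hP₀e, hP₀e', hP₀A⟩ :=
      real_four_r hodd p n (by omega) r hr hr2 hrp k η hk hη hD
    obtain ⟨G, hG⟩ := o_exists h2 p n η' (4 * r) hη' (by have := hr.pos; omega) P₀ hP₀r hP₀d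
      hP₀e hP₀e' hP₀A
    exact om_has_four h2 n hn G r hG

/-- `2 r` in `PSp_{2n}(q)`. -/
theorem psp_two_r_iff (hodd : Odd (Fintype.card F)) (p : ℕ) [Fact p.Prime] [CharP F p] (n : ℕ)
    (hn : 1 ≤ n) (r : ℕ) (hr : r.Prime) (hr2 : r ≠ 2) (hrp : r ≠ p) (k η : ℕ)
    (hk : k = orderOf ((Fintype.card F : ℕ) : ZMod r))
    (hη : (Odd k ∧ η = k) ∨ (Even k ∧ 2 * η = k)) :
    2 * r ∈ Set.range (orderOf : Cfsg.PSp n F → ℕ) ↔
      (η < n ∨ (η = n ∧ ((Even k ∧ 4 ∣ Fintype.card F ^ n + 1) ∨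
        (Odd k ∧ 4 ∣ Fintype.card F ^ n - 1)))) := by
  have hne : Nonempty (Fin n) := ⟨⟨0, by omega⟩⟩
  constructor
  · rintro ⟨x, hx⟩
    exact psp_two_r hodd p n hn r hr hr2 hrp k η hk hη x hx
  · intro hD
    obtain ⟨η', P₀, hη', hP₀r, hP₀m, hP₀d, -, -, hP₀A⟩ :=
      real_four_r hodd p n hn r hr hr2 hrp k η hk hη hD
    obtain ⟨A, hA⟩ := sp_exists_ss p n η' (4 * r) hη' P₀ hP₀r hP₀m hP₀d hP₀A
    obtain ⟨x, hx⟩ := psp_has_of_four n r hr.pos A hA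
    exact ⟨x, hx⟩

/-- The prime graphs of `Ω_{2n+1}(q)` and `PSp_{2n}(q)` coincide (`q` odd). -/
theorem bc_graph (hodd : Odd (Fintype.card F)) (p : ℕ) [Fact p.Prime] [CharP F p] (n : ℕ)
    (hn : 3 ≤ n) (r s : ℕ) (hr : r.Prime) (hs : s.Prime) (hrs : r ≠ s) :
    (r * s ∈ Set.range (orderOf : Cfsg.POmega F ⇑(H7.qOdd n F) → ℕ)) ↔
      (r * s ∈ Set.range (orderOf : Cfsg.PSp n F → ℕ)) := by
  have hp : p.Prime := Fact.out
  have h2 : (2 : F) ≠ 0 := H7.two_ne_zero_of_odd_card hodd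
  obtain ⟨k, hk⟩ : ∃ k, k = orderOf ((Fintype.card F : ℕ) : ZMod r) := ⟨_, rfl⟩
  obtain ⟨l, hl⟩ : ∃ l, l = orderOf ((Fintype.card F : ℕ) : ZMod s) := ⟨_, rfl⟩
  obtain ⟨ηk, hηk⟩ := exists_eta k
  obtain ⟨ηl, hηl⟩ := exists_eta l
  by_cases hr2 : r = 2
  · have hs2 : s ≠ 2 := fun h => hrs (hr2.trans h.symm)
    rw [hr2]
    by_cases hsp : s = p
    · rw [hsp]
      exact iff_of_true (om_two_p hodd p n (by omega)) (psp_two_p hodd p n (by omega))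
    · exact (om_two_r_iff hodd p n (by omega) s hs hs2 hsp l ηl hl hηl).trans
        (psp_two_r_iff hodd p n (by omega) s hs hs2 hsp l ηl hl hηl).symm
  by_cases hs2 : s = 2
  · rw [hs2, mul_comm r 2]
    by_cases hrp : r = p
    · rw [hrp]
      exact iff_of_true (om_two_p hodd p n (by omega)) (psp_two_p hodd p n (by omega))
    · exact (om_two_r_iff hodd p n (by omega) r hr hr2 hrp k ηk hk hηk).trans
        (psp_two_r_iff hodd p n (by omega) r hr hr2 hrp k ηk hk hηk).symm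
  by_cases hrp : r = p
  · have hsp : s ≠ p := fun h => hrs (hrp.trans h.symm)
    rw [hrp, mul_comm p s]
    exact (om_rp_iff h2 p n (by omega) s hs hs2 hsp l ηl hl hηl).trans
      (psp_rp_iff p n (by omega) s hs hs2 hsp l ηl hl hηl).symm
  by_cases hsp : s = p
  · rw [hsp]
    exact (om_rp_iff h2 p n (by omega) r hr hr2 hrp k ηk hk hηk).trans
      (psp_rp_iff p n (by omega) r hr hr2 hrp k ηk hk hηk).symm
  rcases le_total ηk ηl with hkl | hkl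
  · exact (om_rs_iff h2 p n (by omega) r s hr hs hr2 hs2 hrp hsp hrs k l ηk ηl hk hl hηk hηl
      hkl).trans
      (psp_rs_iff p n (by omega) r s hr hs hr2 hs2 hrp hsp hrs k l ηk ηl hk hl hηk hηl hkl).symm
  · rw [mul_comm r s]
    exact (om_rs_iff h2 p n (by omega) s r hs hr hs2 hr2 hsp hrp (Ne.symm hrs) l k ηl ηk hl hk
      hηl hηk hkl).trans
      (psp_rs_iff p n (by omega) s r hs hr hs2 hr2 hsp hrp (Ne.symm hrs) l k ηl ηk hl hk hηl hηk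
        hkl).symm

end BCGraph

end Cfsg.Agent.H45
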