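import Mathlib
import Cfsg.Prelude.Def_Classical
import Cfsg.Prelude.Def_ChevD4
import Cfsg.Agent.H49.Plus

set_option autoImplicit false

/-!
# `D₄(F) ≅ PΩ₈⁺(F)`: definitions (helper45, team project S1082)

`V = F^8` with basis `x₁..x₄` (`Sum.inl`), `y₁..y₄` (`Sum.inr`) and `Q = Σ xᵢ yᵢ`.  The adjoint
module of the Chevalley group is realised inside the degree-`≤ 2` part `C₂` of the Clifford
algebra: `L = {c + Σ_{a<b} X_ab e_a e_b : 2c + Σᵢ X_{xᵢyᵢ} = 0}`.  A linear functional on `C₂` is a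
pair `(c, M)`, `M` an `8 × 8` matrix with `vᵀ M v = c Q(v)`; an isometry `g` acts on functionals
by `M ↦ gᵀ M g` (this is the action of `g⁻¹`).  With the basis `b_col = (c0 col, Xtab col)` of `L`
and the dual family `(cc row, Mtab row)` of functionals, the matrix of `g` on `L` is
`rho g row col = c0 col * cc row + tr((Xtab col)ᵀ gᵀ (Mtab row) g)`.
-/

namespace Cfsg.Agent.H45.D4

open Matrix

/-- Index set of the natural module. -/
abbrev I8 : Type := Fin 4 ⊕ Fin 4

/-- Index set of the adjoint module (`= Cfsg.Lie.chevD4.Idx` up to unfolding). -/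
abbrev Idx : Type := Fin 4 ⊕ Fin 24

/-- Position `0..7` of a basis vector: `xᵢ ↦ i`, `yᵢ ↦ 4 + i`. -/
def pos : I8 → ℕ
  | Sum.inl i => i.val
  | Sum.inr i => 4 + i.val

/-- Position of the hyperbolic partner. -/
def par (n : ℕ) : ℕ := if n < 4 then n + 4 else n - 4

/-- The pair of positions `(a, b)`, `a < b`, with `e_r = ± e_a e_b`. -/
def pairTab : Fin 24 → ℕ × ℕ :=
  ![(4, 5), (4, 6), (3, 4), (4, 7), (2, 4), (1, 4), (5, 6), (3, 5), (5, 7), (2, 5), (3, 6), (6, 7), (2, 3), (2, 7), (1, 6), (1, 3), (1, 7), (1, 2), (0, 5), (0, 6), (0, 3), (0, 7), (0, 2), (0, 1)]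

/-- The sign of `e_r = ± e_a e_b`. -/
def sgnTab : Fin 24 → ℤ :=
  ![1, 1, 1, 1, -1, 1, -1, -1, -1, 1, 1, 1, -1, 1, 1, 1, -1, 1, 1, -1, -1, 1, -1, -1]

/-- Hyperbolic coefficients of the coroots `h_{p_i}` (basis vectors). -/
def hX : Fin 4 → Fin 4 → ℤ := ![![1, -1, 0, 0], ![0, 1, -1, 0], ![0, 0, 1, -1], ![0, 0, 1, 1]]

/-- Hyperbolic coefficients of the dual functionals. -/
def hM : Fin 4 → Fin 4 → ℤ := ![![1, 0, 0, 0], ![1, 1, 0, 0], ![1, 1, 1, 0], ![0, 0, 0, 0]]

/-- Scalar part of the basis vector `b_col`. -/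
def c0 : Idx → ℤ
  | Sum.inl i => if i = 3 then -1 else 0
  | Sum.inr _ => 0

/-- The constant `c` of the dual functional `(c, Mtab row)`. -/
def cc : Idx → ℤ
  | Sum.inl i => if i = 2 then 1 else if i = 3 then -1 else 0
  | Sum.inr _ => 0

/-- Strictly upper coefficients of the basis vector `b_col`. -/
def Xtab : Idx → Matrix I8 I8 ℤ
  | Sum.inl i => Matrix.of fun a b =>
      match a, b with
      | Sum.inl j, Sum.inr j' => if j = j' then hX i j else 0
      | _, _ => 0
  | Sum.inr r => Matrix.of fun a b =>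
      if pos a = (pairTab r).1 ∧ pos b = (pairTab r).2 then sgnTab r else 0

/-- The matrix of the dual functional of `b_row`. -/
def Mtab : Idx → Matrix I8 I8 ℤ
  | Sum.inl i => Matrix.of fun a b =>
      match a, b with
      | Sum.inl j, Sum.inr j' => if j = j' then hM i j else 0
      | Sum.inr j, Sum.inl j' => if j = j' then cc (Sum.inl i) - hM i j else 0
      | _, _ => 0
  | Sum.inr r => Matrix.of fun a b =>
      if pos a = (pairTab r).1 ∧ pos b = (pairTab r).2 then sgnTab r
      else if pos a = (pairTab r).2 ∧ pos b = (pairTab r).1 then - sgnTab r else 0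

/-- The nilpotent matrix of the root `r`: `x_r(t) = 1 + t N_r` on `V`. -/
def Ntab (r : Fin 24) : Matrix I8 I8 ℤ := Matrix.of fun a b =>
  (if pos a = (pairTab r).1 ∧ pos b = par (pairTab r).2 then sgnTab r else 0)
    - (if pos a = (pairTab r).2 ∧ pos b = par (pairTab r).1 then sgnTab r else 0)

/-- The matrix of `g` on the adjoint module, in the Chevalley basis. -/
def rho (R : Type*) [CommRing R] (g : Matrix I8 I8 R) : Matrix Idx Idx R :=
  Matrix.of fun row col => ((c0 col * cc row : ℤ) : R)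
    + Matrix.trace (((Xtab col).map (Int.cast : ℤ → R))ᵀ * gᵀ
        * (Mtab row).map (Int.cast : ℤ → R) * g)

/-- The root element `x_r(t)` on the natural module. -/
def gmat (R : Type*) [CommRing R] (r : Fin 24) (t : R) : Matrix I8 I8 R :=
  1 + t • (Ntab r).map (Int.cast : ℤ → R)

/-- The polar matrix of `Q`. -/
def Bmat (R : Type*) [CommRing R] : Matrix I8 I8 R :=
  Matrix.fromBlocks 0 1 1 0

/-- Upper unipotent matrices `(x, y) ↦ (x + S y, y)`. -/
def upMat {R : Type*} [CommRing R] (S : Matrix (Fin 4) (Fin 4) R) : Matrix I8 I8 R :=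
  Matrix.fromBlocks 1 S 0 1

/-- Lower unipotent matrices `(x, y) ↦ (x, y + S x)`. -/
def lowMat {R : Type*} [CommRing R] (S : Matrix (Fin 4) (Fin 4) R) : Matrix I8 I8 R :=
  Matrix.fromBlocks 1 0 S 1

/-- Alternating matrices. -/
def IsAlt {R : Type*} [CommRing R] (S : Matrix (Fin 4) (Fin 4) R) : Prop :=
  (∀ i j, S j i = - S i j) ∧ ∀ i, S i i = 0

/-- The isometry group of the hyperbolic form in dimension `8` (as `H49`'s quadratic form `QP 4 F`,
whose underlying function is `Cfsg.quadFormPlus 4 F` by `rfl`). -/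
abbrev O8 (F : Type*) [Field F] : Type _ :=
  ↥(Cfsg.isometryGroup F (⇑(Cfsg.Agent.H49.QP 4 F)))

/-- The matrix of an isometry. -/
def mat {F : Type*} [Field F] (g : O8 F) : Matrix I8 I8 F :=
  ((g : Matrix.GeneralLinearGroup I8 F) : Matrix I8 I8 F)

theorem mat_one {F : Type*} [Field F] : mat (1 : O8 F) = 1 := rfl

theorem mat_mul {F : Type*} [Field F] (g h : O8 F) : mat (g * h) = mat g * mat h := rfl

theorem mat_injective {F : Type*} [Field F] : Function.Injective (mat : O8 F → _) := by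
  intro g h hgh
  apply Subtype.ext
  apply Units.ext
  exact hgh

theorem quad_mat {F : Type*} [Field F] (g : O8 F) (v : I8 → F) :
    Cfsg.quadFormPlus 4 F (mat g *ᵥ v) = Cfsg.quadFormPlus 4 F v :=
  g.2 v v

theorem mat_inv_mul {F : Type*} [Field F] (g : O8 F) : mat g⁻¹ * mat g = 1 := by
  rw [← mat_mul, inv_mul_cancel, mat_one]

theorem mat_mul_inv {F : Type*} [Field F] (g : O8 F) : mat g * mat g⁻¹ = 1 := by
  rw [← mat_mul, mul_inv_cancel, mat_one]

/-- The kernel property of the pairing between the basis vectors `(c0 col, Xtab col)` and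
functionals `(c, R)` (piece P-PAIR): a functional killing all basis vectors is a multiple of the
polar form. -/
def KerPair (F : Type*) [Field F] : Prop :=
  ∀ (c : F) (R : Matrix I8 I8 F),
    (∀ v : I8 → F, v ⬝ᵥ R *ᵥ v = c * Cfsg.quadFormPlus 4 F v) →
    (∀ col : Idx, ((c0 col : ℤ) : F) * c
        + Matrix.trace (((Xtab col).map (Int.cast : ℤ → F))ᵀ * R) = 0) →
    ∃ μ : F, R = μ • Bmat F ∧ c = 2 * μ

end Cfsg.Agent.H45.D4
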