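import Mathlib

/-!
# Two counting lemmas for EX-LIN (helper45, for helper81's EX project)

* `card_modEq_four`: a group acting on a finite set such that every orbit is a fixed point or has
  length divisible by 4: the number of points is congruent to the number of fixed points mod 4.
* `card_mul_le`: `|P| |Q| ≤ |L| |I|` for subgroups of a commutative group with `P, Q ≤ L`, `P ⊓ Q ≤ I`.
-/

set_option autoImplicit false

namespace Cfsg.Agent.H45.Ex

open MulAction

theorem card_modEq_four {G : Type*} [Group G] {X : Type*} [MulAction G X] [Finite X]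
    (h4 : ∀ x : X, x ∉ fixedPoints G X → (4 : ℕ) ∣ Nat.card (orbit G x)) :
    Nat.card X ≡ Nat.card (fixedPoints G X) [MOD 4] := by
  have := Fintype.ofFinite X
  have := Fintype.ofFinite (fixedPoints G X)
  have : Fact (1 < 4) := ⟨by norm_num⟩
  rw [Nat.card_eq_fintype_card, Nat.card_eq_fintype_card]
  classical
    calc
      Fintype.card X
          = Fintype.card (Σ y : Quotient (orbitRel G X), { x // Quotient.mk'' x = y }) :=
        Fintype.card_congr (Equiv.sigmaFiberEquiv (@Quotient.mk'' _ (orbitRel G X))).symm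
      _ = ∑ a : Quotient (orbitRel G X), Fintype.card { x // Quotient.mk'' x = a } :=
        Fintype.card_sigma
      _ ≡ ∑ _a : fixedPoints G X, 1 [MOD 4] := ?_
      _ = _ := by simp
    rw [← ZMod.natCast_eq_natCast_iff _ _ 4, Nat.cast_sum, Nat.cast_sum]
    have key :
      ∀ x,
        Fintype.card { y // (Quotient.mk'' y : Quotient (orbitRel G X)) = Quotient.mk'' x } =
          Fintype.card (orbit G x) :=
      fun x => by simp only [Quotient.eq'']; congr
    refine
      Eq.symm
        (Finset.sum_bij_ne_zero (fun a _ _ => Quotient.mk'' a.1) (fun _ _ _ => Finset.mem_univ _)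
          (fun a₁ _ _ a₂ _ _ h =>
            Subtype.ext (mem_fixedPoints'.mp a₂.2 a₁.1 (Quotient.exact' h)))
          (fun b => Quotient.inductionOn' b fun b _ hb => ?_) fun a ha _ => by
          rw [key, mem_fixedPoints_iff_card_orbit_eq_one.mp a.2])
    have hbf : b ∈ fixedPoints G X := by
      by_contra hnf
      apply hb
      rw [key]
      have h := h4 b hnf
      rw [Nat.card_eq_fintype_card] at h
      exact (ZMod.natCast_eq_zero_iff _ 4).2 h
    exact ⟨⟨b, hbf⟩, Finset.mem_univ _, ne_of_eq_of_ne Nat.cast_one one_ne_zero, rfl⟩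

theorem card_mul_le {Z : Type*} [CommGroup Z] [Finite Z] (P Q L I : Subgroup Z)
    (h1 : P ≤ L) (h2 : Q ≤ L) (h3 : P ⊓ Q ≤ I) :
    Nat.card P * Nat.card Q ≤ Nat.card L * Nat.card I := by
  have key : Nat.card P * Nat.card Q = Nat.card ↥(P ⊔ Q) * Nat.card ↥(P ⊓ Q) := by
    have e1 : Nat.card ↥(P ⊓ Q) * (P ⊓ Q).relIndex P = Nat.card P := by
      have h := Subgroup.relIndex_mul_relIndex (H := (⊥ : Subgroup Z)) (K := P ⊓ Q) (L := P)
        bot_le inf_le_left
      rwa [Subgroup.relIndex_bot_left, Subgroup.relIndex_bot_left] at h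
    have e2 : Nat.card Q * Q.relIndex (P ⊔ Q) = Nat.card ↥(P ⊔ Q) := by
      have h := Subgroup.relIndex_mul_relIndex (H := (⊥ : Subgroup Z)) (K := Q) (L := P ⊔ Q)
        bot_le le_sup_right
      rwa [Subgroup.relIndex_bot_left, Subgroup.relIndex_bot_left] at h
    have e3 : Q.relIndex (P ⊔ Q) = (P ⊓ Q).relIndex P := by
      rw [Subgroup.relIndex_sup_right, Subgroup.inf_relIndex_left]
    rw [← e1, ← e2, e3]; ring
  rw [key]
  exact Nat.mul_le_mul (Subgroup.card_le_of_le (sup_le h1 h2)) (Subgroup.card_le_of_le h3)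

end Cfsg.Agent.H45.Ex
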