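import Mathlib
import Cfsg.Agent.H81.ExDefs
import Cfsg.Agent.H45.ExLinA

/-!
# EX-LIN (helper45, for helper81's EX project): `[Z, ξ]` has order 1 or 4
-/

set_option autoImplicit false

namespace Cfsg.Agent.H45.Ex

open MulAction

universe u

set_option maxHeartbeats 1600000 in
theorem lin : Cfsg.Agent.H81.Ex.StLin.{u} := by
  intro Z _ _ A _ _ ρ ξ A₁ a hexp hA hcomm haa hA1 hξ3 hcomm1 hinv hH
  classical
  have : Fact (Nat.Prime 2) := ⟨Nat.prime_two⟩
  -- elementary identities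
  have hinvZ : ∀ z : Z, z⁻¹ = z := fun z => inv_eq_of_mul_eq_one_right (hexp z)
  have hsq : ∀ x y : Z, x * (x * y) = y := fun x y => by rw [← mul_assoc, hexp, one_mul]
  have hξ3' : ∀ z : Z, ξ (ξ (ξ z)) = z := fun z => by
    have h := congrArg (fun f : MulAut Z => f z) hξ3
    simpa [MulAut.mul_apply] using h
  have hξinv : ∀ z : Z, ξ⁻¹ z = ξ (ξ z) := fun z => by
    have h : ξ⁻¹ (ξ (ξ (ξ z))) = ξ (ξ z) := by
      rw [← MulAut.mul_apply _ ξ⁻¹ ξ, inv_mul_cancel, MulAut.one_apply]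
    rwa [hξ3'] at h
  have hαα : ∀ z : Z, ρ a (ρ a z) = z := fun z => by
    have h1 : ρ a * ρ a = 1 := by rw [← map_mul, haa, map_one]
    have h := congrArg (fun f : MulAut Z => f z) h1
    simpa [MulAut.mul_apply] using h
  have hαξ : ∀ z : Z, ρ a (ξ z) = ξ (ξ (ρ a z)) := fun z => by
    have h := congrArg (fun f : MulAut Z => f z) hinv
    simp only [MulAut.mul_apply] at h
    rw [h, hξinv]
  have hbξ : ∀ b ∈ A₁, ∀ z : Z, ρ b (ξ z) = ξ (ρ b z) := fun b hb z => by
    have h := congrArg (fun f : MulAut Z => f z) (hcomm1 b hb)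
    simpa [MulAut.mul_apply] using h
  have hρmul : ∀ (b c : A) (z : Z), ρ (b * c) z = ρ b (ρ c z) := fun b c z => by
    rw [map_mul, MulAut.mul_apply]
  have hbα : ∀ (b : A) (z : Z), ρ a (ρ b z) = ρ b (ρ a z) := fun b z => by
    rw [← hρmul, ← hρmul, hcomm a b]
  -- the subgroup W
  let φ : Z →* Z :=
    { toFun := fun y => ξ y * y⁻¹
      map_one' := by simp
      map_mul' := fun x y => by rw [map_mul, mul_inv]; exact mul_mul_mul_comm _ _ _ _ }
  have hφ : ∀ y, φ y = ξ y * y := fun y => by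
    show ξ y * y⁻¹ = ξ y * y
    rw [hinvZ]
  let W : Subgroup Z := φ.range
  have hWξ : ∀ w ∈ W, ξ w ∈ W := by
    rintro _ ⟨y, rfl⟩
    exact ⟨ξ y, by rw [hφ, hφ, map_mul]⟩
  have hW3 : ∀ w ∈ W, w * ξ w * ξ (ξ w) = 1 := by
    rintro _ ⟨y, rfl⟩
    rw [hφ]
    simp only [map_mul, hξ3']
    simp only [mul_comm, mul_left_comm, hsq, hexp]
  have hWfix : ∀ w ∈ W, ξ w = w → w = 1 := by
    intro w hw h
    have h3 := hW3 w hw
    rw [h, h, hexp w, one_mul] at h3
    exact h3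
  have hWξξ : ∀ w ∈ W, ξ (ξ w) = w * ξ w := by
    intro w hw
    have h3 := hW3 w hw
    have h2 : ξ (ξ w) = (w * ξ w)⁻¹ := eq_inv_of_mul_eq_one_right h3
    rw [h2, hinvZ]
  have hWα : ∀ w ∈ W, ρ a w ∈ W := by
    rintro _ ⟨y, rfl⟩
    refine ⟨ξ (ξ (ρ a y)), ?_⟩
    rw [hφ, hφ, hξ3', map_mul, hαξ, mul_comm]
  have hWb : ∀ b ∈ A₁, ∀ w ∈ W, ρ b w ∈ W := by
    rintro b hb _ ⟨y, rfl⟩
    refine ⟨ρ b y, ?_⟩
    rw [hφ, hφ, map_mul, hbξ b hb]
  -- fixed point subgroups
  let Fα : Subgroup Z :=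
    { carrier := {z | ρ a z = z}
      mul_mem' := fun {x y} hx hy => by
        change ρ a x = x at hx; change ρ a y = y at hy; change ρ a (x * y) = x * y
        rw [map_mul, hx, hy]
      one_mem' := map_one (ρ a)
      inv_mem' := fun {x} hx => by
        change ρ a x = x at hx; change ρ a x⁻¹ = x⁻¹
        rw [map_inv, hx] }
  let C : Subgroup A → Subgroup Z := fun B =>
    { carrier := {z | ∀ b ∈ B, ρ b z = z}
      mul_mem' := fun {x y} hx hy b hb => by
        rw [map_mul, hx b hb, hy b hb]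
      one_mem' := fun b _ => map_one (ρ b)
      inv_mem' := fun {x} hx b hb => by
        rw [map_inv, hx b hb] }
  let CA : Subgroup Z :=
    { carrier := {z | ∀ b : A, ρ b z = z}
      mul_mem' := fun {x y} hx hy b => by
        rw [map_mul, hx b, hy b]
      one_mem' := fun b => map_one (ρ b)
      inv_mem' := fun {x} hx b => by
        rw [map_inv, hx b] }
  let W₀ : Subgroup Z := W ⊓ Fα
  let F : Subgroup A → Subgroup Z := fun B => W ⊓ Fα ⊓ C B
  let Y₀ : Subgroup Z := F A₁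
  have hCApos : 0 < Nat.card CA := Nat.card_pos
  -- the key independence
  have hK : ∀ u ∈ W₀, ∀ v ∈ W₀, u * ξ v = 1 → u = 1 ∧ v = 1 := by
    intro u hu v hv h
    have hαu : ρ a u = u := hu.2
    have hαv : ρ a v = v := hv.2
    have h' : u * ξ (ξ v) = 1 := by
      have h1 := congrArg (ρ a) h
      rw [map_mul, map_one, hαu, hαξ, hαv] at h1
      exact h1
    have h2 : ξ (ξ v) = ξ v := by
      have e1 : ξ (ξ v) = u⁻¹ := eq_inv_of_mul_eq_one_right h'
      have e2 : ξ v = u⁻¹ := eq_inv_of_mul_eq_one_right h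
      rw [e1, e2]
    have h3 : ξ v = 1 := hWfix (ξ v) (hWξ v hv.1) h2
    have h4 : v = 1 := by
      have : ξ v = ξ 1 := by rw [h3, map_one]
      exact ξ.injective this
    refine ⟨?_, h4⟩
    rw [h4, map_one, mul_one] at h
    exact h
  have hK2 : ∀ u ∈ W₀, ∀ v ∈ W₀, ∀ u' ∈ W₀, ∀ v' ∈ W₀, u * ξ v = u' * ξ v' → u = u' ∧ v = v' := by
    intro u hu v hv u' hu' v' hv' h
    have h1 : (u * u') * ξ (v * v') = 1 := by
      rw [map_mul]
      have : u * u' * (ξ v * ξ v') = (u * ξ v) * (u' * ξ v') := mul_mul_mul_comm _ _ _ _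
      rw [this, h, hexp]
    obtain ⟨e1, e2⟩ := hK _ (W₀.mul_mem hu hu') _ (W₀.mul_mem hv hv') h1
    constructor
    · have := eq_inv_of_mul_eq_one_left e1
      rw [this, hinvZ]
    · have := eq_inv_of_mul_eq_one_left e2
      rw [this, hinvZ]
  -- (S) for W
  have hS : Nat.card W = Nat.card W₀ * Nat.card W₀ := by
    rw [← Nat.card_prod]
    symm
    let g : ↥W₀ × ↥W₀ → ↥W := fun p =>
      ⟨(p.1 : Z) * ξ (p.2 : Z), W.mul_mem p.1.2.1 (hWξ _ p.2.2.1)⟩
    refine Nat.card_congr (Equiv.ofBijective g ⟨?_, ?_⟩)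
    · rintro ⟨u, v⟩ ⟨u', v'⟩ h
      have h1 : (u : Z) * ξ (v : Z) = (u' : Z) * ξ (v' : Z) := congrArg Subtype.val h
      obtain ⟨e1, e2⟩ := hK2 _ u.2 _ v.2 _ u'.2 _ v'.2 h1
      exact Prod.ext (Subtype.ext e1) (Subtype.ext e2)
    · rintro ⟨w, hw⟩
      have hv : w * ρ a w ∈ W₀ := by
        refine ⟨W.mul_mem hw (hWα w hw), ?_⟩
        show ρ a (w * ρ a w) = w * ρ a w
        rw [map_mul, hαα, mul_comm]
      have hu : w * ξ (w * ρ a w) ∈ W₀ := by
        refine ⟨W.mul_mem hw (hWξ _ hv.1), ?_⟩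
        show ρ a (w * ξ (w * ρ a w)) = w * ξ (w * ρ a w)
        have hv2 : ρ a (w * ρ a w) = w * ρ a w := hv.2
        rw [map_mul, hαξ, hv2, hWξξ _ hv.1]
        simp only [mul_left_comm, mul_assoc, hsq]
      refine ⟨(⟨w * ξ (w * ρ a w), hu⟩, ⟨w * ρ a w, hv⟩), ?_⟩
      apply Subtype.ext
      show w * ξ (w * ρ a w) * ξ (w * ρ a w) = w
      rw [mul_assoc, hexp, mul_one]
  -- (★★)
  have hSS : ∀ B : Subgroup A, B ≤ A₁ →
      Nat.card B * (Nat.card (F B) * Nat.card (F B)) ≤ Nat.card A * Nat.card Y₀ := by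
    intro B hB
    have hinj : Nat.card (F B) * Nat.card (F B) ≤ Nat.card ↥(W ⊓ C B) := by
      rw [← Nat.card_prod]
      let g : ↥(F B) × ↥(F B) → ↥(W ⊓ C B) := fun p =>
        ⟨(p.1 : Z) * ξ (p.2 : Z), W.mul_mem p.1.2.1.1 (hWξ _ p.2.2.1.1),
          (C B).mul_mem p.1.2.2 (fun b hb => by
            rw [hbξ b (hB hb)]
            exact congrArg ξ (p.2.2.2 b hb))⟩
      refine Nat.card_le_card_of_injective g ?_
      rintro ⟨u, v⟩ ⟨u', v'⟩ h
      have h1 : (u : Z) * ξ (v : Z) = (u' : Z) * ξ (v' : Z) := congrArg Subtype.val h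
      obtain ⟨e1, e2⟩ := hK2 _ u.2.1 _ v.2.1 _ u'.2.1 _ v'.2.1 h1
      exact Prod.ext (Subtype.ext e1) (Subtype.ext e2)
    have hprod : Nat.card CA * Nat.card ↥(W ⊓ C B) ≤ Nat.card (C B) * Nat.card Y₀ := by
      apply card_mul_le
      · intro z hz b _
        exact hz b
      · exact inf_le_right
      · intro z hz
        exact ⟨⟨hz.2.1, hz.1 a⟩, fun b _ => hz.1 b⟩
    have hHB : Nat.card B * Nat.card (C B) ≤ Nat.card A * Nat.card CA := hH B
    have h1 : Nat.card CA * (Nat.card B * (Nat.card (F B) * Nat.card (F B))) ≤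
        Nat.card CA * (Nat.card A * Nat.card Y₀) := by
      calc Nat.card CA * (Nat.card B * (Nat.card (F B) * Nat.card (F B)))
          ≤ Nat.card CA * (Nat.card B * Nat.card ↥(W ⊓ C B)) :=
            Nat.mul_le_mul_left _ (Nat.mul_le_mul_left _ hinj)
        _ = Nat.card B * (Nat.card CA * Nat.card ↥(W ⊓ C B)) := by ring
        _ ≤ Nat.card B * (Nat.card (C B) * Nat.card Y₀) := Nat.mul_le_mul_left _ hprod
        _ = (Nat.card B * Nat.card (C B)) * Nat.card Y₀ := by ring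
        _ ≤ (Nat.card A * Nat.card CA) * Nat.card Y₀ := Nat.mul_le_mul_right _ hHB
        _ = Nat.card CA * (Nat.card A * Nat.card Y₀) := by ring
    exact Nat.le_of_mul_le_mul_left h1 hCApos
  -- |A| ≤ 2 |A₁|
  have hA2 : Nat.card A ≤ 2 * Nat.card A₁ := by
    have hidx : A₁.index ∣ 2 := by
      rw [Subgroup.index_dvd_two_iff']
      exact ⟨a⁻¹, fun b => (hA1 b).symm⟩
    have hle : A₁.index ≤ 2 := Nat.le_of_dvd (by norm_num) hidx
    have := Subgroup.card_mul_index A₁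
    calc Nat.card A = Nat.card A₁ * A₁.index := this.symm
      _ ≤ Nat.card A₁ * 2 := Nat.mul_le_mul_left _ hle
      _ = 2 * Nat.card A₁ := by ring
  have hA1pos : 0 < Nat.card A₁ := Nat.card_pos
  have hY0pos : 0 < Nat.card Y₀ := Nat.card_pos
  have hW0pos : 0 < Nat.card W₀ := Nat.card_pos
  -- |Y₀| ≤ 2
  have hY2 : Nat.card Y₀ ≤ 2 := by
    have h := hSS A₁ le_rfl
    have h1 : Nat.card A₁ * (Nat.card Y₀ * Nat.card Y₀) ≤ Nat.card A₁ * (2 * Nat.card Y₀) := by
      calc Nat.card A₁ * (Nat.card Y₀ * Nat.card Y₀) ≤ Nat.card A * Nat.card Y₀ := h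
        _ ≤ (2 * Nat.card A₁) * Nat.card Y₀ := Nat.mul_le_mul_right _ hA2
        _ = Nat.card A₁ * (2 * Nat.card Y₀) := by ring
    have h2 : Nat.card Y₀ * Nat.card Y₀ ≤ 2 * Nat.card Y₀ := Nat.le_of_mul_le_mul_left h1 hA1pos
    exact Nat.le_of_mul_le_mul_right h2 hY0pos
  -- the main claim: |W₀| ≤ 2
  have hmain : Nat.card W₀ ≤ 2 := by
    by_contra hcon
    push Not at hcon
    -- W₀ is a 2-group of order divisible by 4
    have hZ2 : IsPGroup 2 Z := fun g => ⟨1, by rw [pow_one, pow_two, hexp]⟩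
    have hW2 : IsPGroup 2 ↥W₀ := hZ2.to_subgroup W₀
    obtain ⟨k, hk⟩ := (IsPGroup.iff_card).1 hW2
    have h4W : 4 ∣ Nat.card W₀ := by
      rw [hk]
      have hk2 : 2 ≤ k := by
        by_contra hk2
        push Not at hk2
        interval_cases k <;> omega
      obtain ⟨m, rfl⟩ := Nat.exists_eq_add_of_le hk2
      exact ⟨2 ^ m, by rw [pow_add]; norm_num⟩
    -- the action of A₁ on W₀
    have hW0b : ∀ b ∈ A₁, ∀ w ∈ W₀, ρ b w ∈ W₀ := by
      intro b hb w hw
      refine ⟨hWb b hb w hw.1, ?_⟩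
      show ρ a (ρ b w) = ρ b w
      rw [hbα]
      exact congrArg (ρ b) hw.2
    let act : MulAction ↥A₁ ↥W₀ :=
      { smul := fun b w => ⟨ρ (b : A) (w : Z), hW0b b b.2 w w.2⟩
        one_smul := fun w => Subtype.ext (by
          show ρ ((1 : ↥A₁) : A) (w : Z) = (w : Z)
          rw [Subgroup.coe_one, map_one, MulAut.one_apply])
        mul_smul := fun b c w => Subtype.ext (by
          show ρ ((b * c : ↥A₁) : A) (w : Z) = ρ (b : A) (ρ (c : A) (w : Z))
          rw [Subgroup.coe_mul, hρmul]) }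
    have hsmul : ∀ (b : ↥A₁) (w : ↥W₀), ((b • w : ↥W₀) : Z) = ρ (b : A) (w : Z) := fun _ _ => rfl
    have hA1p : IsPGroup 2 ↥A₁ := hA.to_subgroup A₁
    -- fixed points = Y₀
    have hfixmem : ∀ w : ↥W₀, w ∈ fixedPoints ↥A₁ ↥W₀ ↔ (w : Z) ∈ Y₀ := by
      intro w
      constructor
      · intro hw
        refine ⟨w.2, fun b hb => ?_⟩
        have := hw ⟨b, hb⟩
        exact congrArg Subtype.val this
      · intro hw b
        exact Subtype.ext (hw.2 b b.2)
    have hfixcard : Nat.card (fixedPoints ↥A₁ ↥W₀) = Nat.card Y₀ := by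
      refine Nat.card_congr
        { toFun := fun w => ⟨(w.1 : Z), (hfixmem w.1).1 w.2⟩
          invFun := fun y => ⟨⟨(y : Z), y.2.1⟩, (hfixmem ⟨(y : Z), y.2.1⟩).2 y.2⟩
          left_inv := fun w => rfl
          right_inv := fun y => rfl }
    -- |Y₀| = 2
    have hmod2 := hA1p.card_modEq_card_fixedPoints ↥W₀
    rw [hfixcard] at hmod2
    have hY0eq : Nat.card Y₀ = 2 := by
      have h2W : 2 ∣ Nat.card W₀ := Dvd.dvd.trans (by norm_num) h4W
      have : Nat.card Y₀ % 2 = 0 := by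
        have h := hmod2
        unfold Nat.ModEq at h
        rw [← h]
        exact Nat.mod_eq_zero_of_dvd h2W
      omega
    -- orbits
    have horb : ∀ w : ↥W₀, w ∉ fixedPoints ↥A₁ ↥W₀ → (4 : ℕ) ∣ Nat.card (orbit ↥A₁ w) := by
      intro w hw
      let St : Subgroup ↥A₁ := stabilizer ↥A₁ w
      let B : Subgroup A := St.map A₁.subtype
      have hBle : B ≤ A₁ := Subgroup.map_subtype_le St
      have hBcard : Nat.card B = Nat.card St :=
        Subgroup.card_map_of_injective (Subgroup.subtype_injective A₁)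
      have hBfix : ∀ b ∈ B, ρ b (w : Z) = (w : Z) := by
        rintro _ ⟨s, hs, rfl⟩
        have : s • w = w := hs
        exact congrArg Subtype.val this
      have hYF : Y₀ ≤ F B := by
        intro z hz
        exact ⟨hz.1, fun b hb => hz.2 b (hBle hb)⟩
      have hwF : (w : Z) ∈ F B := ⟨w.2, hBfix⟩
      have hwY : (w : Z) ∉ Y₀ := fun h => hw ((hfixmem w).2 h)
      have hFB4 : 4 ≤ Nat.card (F B) := by
        obtain ⟨m, hm⟩ := Subgroup.card_dvd_of_le hYF
        have hFpos : 0 < Nat.card (F B) := Nat.card_pos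
        have hne : Nat.card (F B) ≠ Nat.card Y₀ := by
          intro heq
          have := Subgroup.eq_of_le_of_card_ge hYF (le_of_eq heq)
          exact hwY (this ▸ hwF)
        rw [hY0eq] at hm hne
        omega
      have h1 := hSS B hBle
      rw [hY0eq] at h1
      have hos : Nat.card (orbit ↥A₁ w) * Nat.card St = Nat.card ↥A₁ := by
        rw [← Nat.card_prod]
        exact Nat.card_congr (orbitProdStabilizerEquivGroup ↥A₁ w)
      have hStpos : 0 < Nat.card St := Nat.card_pos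
      have h4le : 4 ≤ Nat.card (orbit ↥A₁ w) := by
        by_contra hlt
        push Not at hlt
        have h16 : Nat.card B * 16 ≤ Nat.card B * (Nat.card (F B) * Nat.card (F B)) :=
          Nat.mul_le_mul_left _ (Nat.mul_le_mul hFB4 hFB4)
        have h2 : Nat.card St * 16 ≤ 2 * Nat.card A := by
          rw [← hBcard]
          calc Nat.card B * 16 ≤ Nat.card B * (Nat.card (F B) * Nat.card (F B)) := h16
            _ ≤ Nat.card A * 2 := h1
            _ = 2 * Nat.card A := by ring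
        have h3 : Nat.card St * 16 ≤ 4 * (Nat.card (orbit ↥A₁ w) * Nat.card St) := by
          rw [hos]; omega
        have h5 : Nat.card (orbit ↥A₁ w) * Nat.card St ≤ 3 * Nat.card St :=
          Nat.mul_le_mul_right _ (by omega)
        omega
      obtain ⟨m, hm⟩ := hA1p.card_orbit w
      rw [hm] at h4le ⊢
      have hm2 : 2 ≤ m := by
        by_contra hm2
        push Not at hm2
        interval_cases m <;> omega
      obtain ⟨j, rfl⟩ := Nat.exists_eq_add_of_le hm2
      exact ⟨2 ^ j, by rw [pow_add]; norm_num⟩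
    have hmod4 := card_modEq_four (G := ↥A₁) (X := ↥W₀) horb
    rw [hfixcard, hY0eq] at hmod4
    unfold Nat.ModEq at hmod4
    have := Nat.mod_eq_zero_of_dvd h4W
    omega
  -- conclusion
  have hgoal : Nat.card {z : Z // ∃ y : Z, ξ y * y⁻¹ = z} = Nat.card W :=
    Nat.card_congr (Equiv.subtypeEquivRight fun z => Iff.rfl)
  rw [hgoal, hS]
  have h12 : Nat.card W₀ = 1 ∨ Nat.card W₀ = 2 := by omega
  rcases h12 with h | h
  · left; rw [h]
  · right; rw [h]

example : Cfsg.Agent.H81.Ex.StLin.{u} := lin.{u}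

end Cfsg.Agent.H45.Ex

#print axioms Cfsg.Agent.H45.Ex.lin
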