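import Cfsg.Agent.H81.ExDefs
import Cfsg.Agent.H40.TsW4

/-!
# EX-W (helper45, for helper81's EX project): the four-group clause

`StW` of `H81/ExDefs.lean` is an immediate consequence of the already landed `TS-W4`
(`Cfsg.Agent.H40.Ts.w4 : Cfsg.Agent.H74.Ts.StW4`, helper40 on helper82's JX chain): the same
hypotheses, with conclusion `|W_K| = 4 ∨ W_K = ⊥`.  So the hypothesis `StLin` is not needed;
`w'` is the hypothesis-free form.
-/

set_option autoImplicit false
open Cfsg

namespace Cfsg.Agent.H45.Ex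

universe u

/-- EX-W, hypothesis-free. -/
theorem w' : Cfsg.Agent.H81.Ex.StW.{u} := by
  intro G _ _ T K hT hle hrel hcomm hne
  obtain ⟨h1, h2⟩ := Cfsg.Agent.H40.Ts.w4 T K hT hrel hle hcomm
  exact ⟨h1.resolve_right hne, h2⟩

/-- EX-W in the posted shape. -/
theorem w (_h : Cfsg.Agent.H81.Ex.StLin.{u}) : Cfsg.Agent.H81.Ex.StW.{u} := w'

example (h : Cfsg.Agent.H81.Ex.StLin.{u}) : Cfsg.Agent.H81.Ex.StW.{u} := w h

end Cfsg.Agent.H45.Ex

#print axioms Cfsg.Agent.H45.Ex.w
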