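import Mathlib
import Cfsg.Agent.H45.PSLGraphP
import Cfsg.Agent.S2475
import Cfsg.Agent.S2476

set_option autoImplicit false

namespace Cfsg.Agent.H45

open Matrix Polynomial Module Cfsg.Agent.H49

universe u

section PSLGraphQ

variable {F : Type u} [Field F] [Fintype F]

/-- `PSL_2(q)` has no element of order `r p`. -/
theorem psl2_no_rp (p : ℕ) [Fact p.Prime] [CharP F p] (h4 : 4 ≤ Fintype.card F) (r : ℕ)
    (hr : r.Prime) :
    r * p ∉ Set.range (orderOf : Matrix.ProjectiveSpecialLinearGroup (Fin 2) F → ℕ) := by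
  have hp : p.Prime := Fact.out
  have hpq : p ∣ Fintype.card F := char_dvd_card p
  rw [Cfsg.Agent.S2475.result p h4, Set.mem_ofPred_eq]
  obtain ⟨q, hq⟩ : ∃ q, q = Fintype.card F := ⟨_, rfl⟩
  rw [← hq] at hpq h4 ⊢
  have hg1 : Nat.gcd 2 (q - 1) ∣ q - 1 := Nat.gcd_dvd_right _ _
  have hg2 : Nat.gcd 2 (q - 1) ∣ q + 1 := by
    have h1 : Nat.gcd 2 (q - 1) ∣ 2 := Nat.gcd_dvd_left _ _
    have h3 := Nat.dvd_add hg1 h1
    rwa [show q - 1 + 2 = q + 1 by omega] at h3
  have hp1 : ¬ p ∣ q - 1 := by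
    intro h
    have h3 := Nat.dvd_sub hpq h
    rw [Nat.sub_sub_self (by omega)] at h3
    exact hp.one_lt.ne' (Nat.dvd_one.mp h3)
  have hp2 : ¬ p ∣ q + 1 := by
    intro h
    have h3 := Nat.dvd_sub h hpq
    rw [Nat.add_sub_cancel_left] at h3
    exact hp.one_lt.ne' (Nat.dvd_one.mp h3)
  rintro (h | h | h)
  · have h1 := Nat.le_of_dvd hp.pos h
    have h3 : 2 * p ≤ r * p := Nat.mul_le_mul_right p hr.two_le
    have := hp.pos
    omega
  · exact hp1 (dvd_trans (dvd_trans (dvd_mul_left p r) h) (Nat.div_dvd_of_dvd hg1))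
  · exact hp2 (dvd_trans (dvd_trans (dvd_mul_left p r) h) (Nat.div_dvd_of_dvd hg2))

/-- Elements of order `r p` in `PSL_3(q)`. -/
theorem psl3_rp_iff (p : ℕ) [Fact p.Prime] [CharP F p] (r : ℕ) (hr : r.Prime) (hr2 : r ≠ 2)
    (hrp : r ≠ p) (k : ℕ) (hk : k = orderOf ((Fintype.card F : ℕ) : ZMod r)) :
    r * p ∉ Set.range (orderOf : Matrix.ProjectiveSpecialLinearGroup (Fin 3) F → ℕ) ↔
      (1 < k ∨ (r = 3 ∧ 3 ∣ Fintype.card F - 1 ∧ ¬ 9 ∣ Fintype.card F - 1)) := by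
  have hp : p.Prime := Fact.out
  have hpq : p ∣ Fintype.card F := char_dvd_card p
  obtain ⟨hkpos, hd⟩ := ord_props (F := F) p r hr hrp k hk
  have hk1 : k = 1 ↔ r ∣ Fintype.card F - 1 := by
    constructor
    · intro h
      have h1 : ((Fintype.card F : ℕ) : ZMod r) ^ k = 1 := by
        rw [hk]
        exact pow_orderOf_eq_one _
      have h3 := (natCast_pow_eq_one_iff r _ k Fintype.card_pos).mp h1
      rwa [h, pow_one] at h3
    · intro h
      have h1 : r ∣ Fintype.card F ^ 1 - 1 := by rwa [pow_one]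
      exact Nat.dvd_one.mp (hd 1 h1)
  rw [Cfsg.Agent.S2476.result p, Set.mem_ofPred_eq]
  have hq1' : 1 ≤ Fintype.card F := Fintype.card_pos
  obtain ⟨q, hq⟩ : ∃ q, q = Fintype.card F := ⟨_, rfl⟩
  rw [← hq] at hpq hk1 hq1' ⊢
  obtain ⟨g, hg⟩ : ∃ g, g = Nat.gcd 3 (q - 1) := ⟨_, rfl⟩
  rw [← hg]
  have hg3 : g ∣ 3 := by
    rw [hg]
    exact Nat.gcd_dvd_left _ _
  have hgq : g ∣ q - 1 := by
    rw [hg]
    exact Nat.gcd_dvd_right _ _
  have hg_cases : (g = 1 ∧ ¬ 3 ∣ q - 1) ∨ (g = 3 ∧ 3 ∣ q - 1) := by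
    rcases (Nat.dvd_prime Nat.prime_three).mp hg3 with h | h
    · left
      refine ⟨h, ?_⟩
      intro h3
      have h5 : 3 ∣ g := by
        rw [hg]
        exact Nat.dvd_gcd (dvd_refl 3) h3
      rw [h] at h5
      exact absurd h5 (by decide)
    · right
      exact ⟨h, by rw [← h]; exact hgq⟩
  have hgX : g ∣ q ^ 2 + q + 1 := by
    rcases hg_cases with ⟨h, -⟩ | ⟨h, h3⟩
    · rw [h]
      exact one_dvd _
    · rw [h]
      obtain ⟨t, ht⟩ := h3
      have hqt : q = 3 * t + 1 := by omega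
      rw [hqt]
      exact ⟨3 * t ^ 2 + 3 * t + 1, by ring⟩
  have hgY : g ∣ q ^ 2 - 1 := by
    have h1 : q - 1 ∣ q ^ 2 - 1 := by
      have h3 := Nat.sub_dvd_pow_sub_pow q 1 2
      rwa [one_pow] at h3
    exact dvd_trans hgq h1
  have hp1 : ¬ p ∣ q - 1 := by
    intro h
    have h3 := Nat.dvd_sub hpq h
    rw [Nat.sub_sub_self hq1'] at h3
    exact hp.one_lt.ne' (Nat.dvd_one.mp h3)
  have hpX : ¬ p ∣ q ^ 2 + q + 1 := by
    intro h
    have h1 : p ∣ q * (q + 1) := Dvd.dvd.mul_right hpq _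
    have h3 := Nat.dvd_sub h h1
    have e : q ^ 2 + q + 1 - q * (q + 1) = 1 := by
      have h5 : q ^ 2 + q + 1 = q * (q + 1) + 1 := by ring
      rw [h5, Nat.add_sub_cancel_left]
    rw [e] at h3
    exact hp.one_lt.ne' (Nat.dvd_one.mp h3)
  have hpY : ¬ p ∣ q ^ 2 - 1 := by
    intro h
    have h1 : p ∣ q ^ 2 := dvd_pow hpq two_ne_zero
    have h3 := Nat.dvd_sub h1 h
    rw [Nat.sub_sub_self (Nat.one_le_pow _ _ hq1')] at h3
    exact hp.one_lt.ne' (Nat.dvd_one.mp h3)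
  have hprp : p ∣ r * p := dvd_mul_left p r
  have hmain : (r * p ∣ (q ^ 2 + q + 1) / g ∨ r * p ∣ (q ^ 2 - 1) / g ∨ r * p ∣ q - 1 ∨
      r * p ∣ p * (q - 1) / g ∨ (p = 2 ∧ r * p ∣ 4)) ↔ r ∣ (q - 1) / g := by
    have e4 : p * (q - 1) / g = p * ((q - 1) / g) := Nat.mul_div_assoc p hgq
    constructor
    · rintro (h | h | h | h | ⟨h2, h⟩)
      · exact absurd (dvd_trans (dvd_trans hprp h) (Nat.div_dvd_of_dvd hgX)) hpX
      · exact absurd (dvd_trans (dvd_trans hprp h) (Nat.div_dvd_of_dvd hgY)) hpY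
      · exact absurd (dvd_trans hprp h) hp1
      · rw [e4, mul_comm r p] at h
        exact Nat.dvd_of_mul_dvd_mul_left hp.pos h
      · exfalso
        rw [h2, show (4 : ℕ) = 2 * 2 by norm_num] at h
        have h3 : r ∣ 2 := Nat.dvd_of_mul_dvd_mul_right (by norm_num : 0 < 2) h
        exact hr2 ((Nat.prime_dvd_prime_iff_eq hr Nat.prime_two).mp h3)
    · intro h
      right
      right
      right
      left
      rw [e4, mul_comm r p]
      exact Nat.mul_dvd_mul_left p h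
  rw [hmain]
  constructor
  · intro hnot
    by_cases hk' : k = 1
    · right
      have hrq := hk1.mp hk'
      rcases hg_cases with ⟨h, h3⟩ | ⟨h, h3⟩
      · exfalso
        apply hnot
        rw [h, Nat.div_one]
        exact hrq
      · rw [h] at hnot
        obtain ⟨m, hm⟩ := h3
        rw [hm, Nat.mul_div_cancel_left m (by norm_num : 0 < 3)] at hnot
        rw [hm] at hrq
        have hr3 : r = 3 := by
          rcases (Nat.Prime.dvd_mul hr).mp hrq with h5 | h5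
          · exact (Nat.prime_dvd_prime_iff_eq hr Nat.prime_three).mp h5
          · exact absurd h5 hnot
        refine ⟨hr3, ⟨m, hm⟩, ?_⟩
        rintro ⟨c, hc⟩
        apply hnot
        rw [hr3]
        exact ⟨c, by omega⟩
    · left
      omega
  · rintro (h | ⟨hr3, h3, h9⟩) hdvd
    · have hrq : r ∣ q - 1 := dvd_trans hdvd (Nat.div_dvd_of_dvd hgq)
      have h5 := hk1.mpr hrq
      omega
    · rcases hg_cases with ⟨h, h3'⟩ | ⟨h, -⟩
      · exact h3' h3
      · rw [h, hr3] at hdvd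
        obtain ⟨m, hm⟩ := h3
        rw [hm, Nat.mul_div_cancel_left m (by norm_num : 0 < 3)] at hdvd
        obtain ⟨c, hc⟩ := hdvd
        apply h9
        exact ⟨c, by omega⟩

end PSLGraphQ

end Cfsg.Agent.H45
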