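import Cfsg.Agent.H45.R2Defs
import Cfsg.Agent.H45.R2Abs
/-!
Assembly of S1152 and S1157 (small Ree groups) from the pieces of the team project (helper45):
all pieces enter as hypotheses; the final files plug in the landed proofs.
-/
set_option autoImplicit false
open Cfsg Cfsg.Lie

universe u v

namespace Cfsg.Agent.H45.R2

open Cfsg.Agent.H22 Cfsg.Agent.H22.GEx Cfsg.Agent.H22.Ree Matrix

/-- (G0) move the involution into a given Sylow 2-subgroup -/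
def ConjInvStmt.{w, z} : Prop :=
  ∀ (G : Type w) [Group G] [Finite G] (L : Type z) [Group L] (S : Sylow 2 G) (a₀ : G)
    (_Φ : ↥(Subgroup.centralizer ({a₀} : Set G)) ≃* Multiplicative (ZMod 2) × L),
    a₀ ≠ 1 → a₀ * a₀ = 1 →
    ∃ a ∈ S, a ≠ 1 ∧ Nonempty (↥(Subgroup.centralizer ({a} : Set G)) ≃* Multiplicative (ZMod 2) × L)

theorem two_ne_zero_of_char3 (K : Type*) [Field K] [CharP K 3] : (2 : K) ≠ 0 := by
  intro h
  have h2 : ((2 : ℕ) : K) = 0 := by exact_mod_cast h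
  rw [CharP.cast_eq_zero_iff K 3] at h2
  omega

/-- S1152 from the pieces -/
theorem s1152_of_pieces {K : Type u} [Field K] [Fintype K] [CharP K 3] {m : ℕ}
    (hK : Fintype.card K = 3 ^ (2 * m + 1)) (C : Ctx K (3 ^ m)) (hcan : CanonG2 K) (hW : WeylG2 K)
    (hc : CommStmt (K := K)) (hmem : MemStmt C) (hac : ACommStmt C) (hker : KerStmt C)
    (hcent : CentStmt C) (hinv : InvStmt C)
    (hIso : IsoStmt.{u, u}) (hE : ExistsEStmt.{u, u}) (hSyl : SylowStmt.{u}) (hAr : ArithStmt)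
    (hKl : PSLKleinStmt.{u})
    (a : ↥(twistedG2 K (3 ^ m))) (haH : (a : GL chevG2.Idx K) ∈ chevG2.diagonalSubgroup K)
    (ha1 : a ≠ 1) (ha2 : a * a = 1) :
    Nonempty (↥(Subgroup.centralizer {a}) ≃*
        Multiplicative (ZMod 2) × Matrix.ProjectiveSpecialLinearGroup (Fin 2) K) ∧
      ∀ S : Sylow 2 ↥(twistedG2 K (3 ^ m)), Nat.card S = 8 ∧ ∀ x ∈ S, x * x = 1 := by
  have haeq : (a : GL chevG2.Idx K) = (C.hh (-1) (-1) : GL chevG2.Idx K) := by
    refine hinv _ ⟨haH, a.2⟩ (fun h => ha1 (Subtype.ext h)) ?_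
    have := congrArg Subtype.val ha2
    simpa using this
  obtain ⟨ψ, hψ⟩ : ∃ ψ : SpecialLinearGroup (Fin 2) K →* ↥(twistedG2 K (3 ^ m)),
      ∀ s, ((ψ s : ↥(twistedG2 K (3 ^ m))) : GL chevG2.Idx K) = psi C.τ s :=
    ⟨(psiHom hc C.τ).codRestrict (twistedG2 K (3 ^ m)) (fun g => hmem g), fun s => rfl⟩
  have hiso : Nonempty (↥(Subgroup.centralizer ({a} : Set ↥(twistedG2 K (3 ^ m)))) ≃*
      Multiplicative (ZMod 2) × Matrix.ProjectiveSpecialLinearGroup (Fin 2) K) := by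
    refine hIso K ↥(twistedG2 K (3 ^ m)) a ψ (two_ne_zero_of_char3 K) ha1 ha2 ?_ ?_ ?_ ?_ ?_
    · intro s
      apply Subtype.ext
      rw [Subgroup.coe_mul, Subgroup.coe_mul, hψ, haeq]
      exact hac s
    · intro s hs
      refine hker.1 s ?_
      rw [← hψ, hs]; rfl
    · apply Subtype.ext
      rw [hψ]; exact hker.2.1
    · intro s hs
      refine hker.2.2 s ?_
      rw [← hψ, hs, haeq]
    · intro g hg
      have hg' : (g : GL chevG2.Idx K) * (C.hh (-1) (-1) : GL chevG2.Idx K) =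
          (C.hh (-1) (-1) : GL chevG2.Idx K) * (g : GL chevG2.Idx K) := by
        rw [← haeq]
        have := congrArg Subtype.val hg
        simpa using this
      obtain ⟨s, hs | hs⟩ := hcent (g : GL chevG2.Idx K) g.2 hg'
      · exact ⟨s, Or.inl (Subtype.ext (by rw [hψ]; exact hs))⟩
      · exact ⟨s, Or.inr (Subtype.ext (by rw [Subgroup.coe_mul, haeq, hψ]; exact hs))⟩
  refine ⟨hiso, ?_⟩
  obtain ⟨Φ⟩ := hiso
  obtain ⟨V, hV4, hV2⟩ := hKl K (by rw [hK]; exact Odd.pow (by decide))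
  obtain ⟨E, hE8, hE2⟩ := hE ↥(twistedG2 K (3 ^ m))
    (Matrix.ProjectiveSpecialLinearGroup (Fin 2) K) (Subgroup.centralizer {a}) Φ V hV4 hV2
  obtain ⟨k, hk, hkeq⟩ := hAr m
  exact hSyl _ E k (by rw [C.card_twisted hK hcan hW, hkeq]) hk hE8 hE2

/-- the abstract part of S1157 -/
theorem final_abs (hT : TransferStmt.{u}) (hP : ProdStmt.{v}) (hTr : TransportStmt.{u, v})
    (hCt : CountStmt.{u})
    (G : Type u) [Group G] [Finite G] (L : Type v) [Group L] [Finite L] (S : Sylow 2 G) (a : G)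
    (Φ : ↥(Subgroup.centralizer ({a} : Set G)) ≃* Multiplicative (ZMod 2) × L)
    (hS8 : Nat.card S = 8) (hS2 : ∀ x ∈ S, x * x = 1) (haS : a ∈ S) (ha1 : a ≠ 1)
    (hperf : commutator G = ⊤)
    (hL : ∀ V : Subgroup L, Nat.card V = 4 → Subgroup.centralizer (V : Set L) = V ∧
      Nat.card ↥(Subgroup.normalizer (V : Set L)) = 12)
    (h16 : ¬ 16 ∣ Nat.card G) :
    Subgroup.centralizer ((S : Subgroup G) : Set G) = S ∧
      Nat.card ↥(Subgroup.normalizer ((S : Subgroup G) : Set G)) = 168 := by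
  have h8 : ¬ 8 ∣ Nat.card L := by
    intro h
    apply h16
    have h1 : Nat.card ↥(Subgroup.centralizer ({a} : Set G)) = 2 * Nat.card L := by
      rw [Nat.card_congr Φ.toEquiv, Nat.card_prod]
      congr 1
      rw [Nat.card_eq_fintype_card]
      rfl
    have h2 := Subgroup.card_subgroup_dvd_card (Subgroup.centralizer ({a} : Set G))
    rw [h1] at h2
    obtain ⟨j, hj⟩ := h
    exact Dvd.dvd.trans ⟨j, by rw [hj]; ring⟩ h2
  have hPC := hP L hL h8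
  obtain ⟨hcent, hcard, c, hcN, hca, hcfix, hc3⟩ :=
    hTr G L (S : Subgroup G) a Φ hS8 hS2 haS ha1 hPC
  have hab : ∀ x ∈ S, ∀ y ∈ S, x * y = y * x := by
    intro x hx y hy
    have h1 := hS2 x hx
    have h2 := hS2 y hy
    have h3 := hS2 (x * y) (mul_mem hx hy)
    have hx' : x⁻¹ = x := inv_eq_of_mul_eq_one_left h1
    have hy' : y⁻¹ = y := inv_eq_of_mul_eq_one_left h2
    have h4 : (x * y)⁻¹ = x * y := inv_eq_of_mul_eq_one_left h3
    rw [_root_.mul_inv_rev, hx', hy'] at h4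
    exact h4.symm
  have ha2 : a * a = 1 := hS2 a haS
  have htr := hT G S a hab haS ha1 ha2 hperf
  exact ⟨hcent, hCt G S a hS8 hS2 haS ha1 hcard ⟨c, hcN, hca, hcfix, hc3⟩ htr⟩

/-- S1157 from S1152 and the pieces -/
theorem s1157_of_pieces {K : Type u} [Field K] [Fintype K] [CharP K 3] {m : ℕ} (hm : 1 ≤ m)
    (hK : Fintype.card K = 3 ^ (2 * m + 1)) (C : Ctx K (3 ^ m)) (hcan : CanonG2 K) (hW : WeylG2 K)
    (h1152 : ∀ a : ↥(twistedG2 K (3 ^ m)),
      (a : GL chevG2.Idx K) ∈ chevG2.diagonalSubgroup K → a ≠ 1 → a * a = 1 →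
      Nonempty (↥(Subgroup.centralizer {a}) ≃*
        Multiplicative (ZMod 2) × Matrix.ProjectiveSpecialLinearGroup (Fin 2) K) ∧
      ∀ S : Sylow 2 ↥(twistedG2 K (3 ^ m)), Nat.card S = 8 ∧ ∀ x ∈ S, x * x = 1)
    (hG0 : ConjInvStmt.{u, u}) (hT : TransferStmt.{u}) (hP : ProdStmt.{u})
    (hTr : TransportStmt.{u, u}) (hCt : CountStmt.{u}) (hN : PSLNormStmt.{u})
    (hCe : PSLCentStmt.{u}) (hAr : ArithStmt)
    (S : Sylow 2 ↥(twistedG2 K (3 ^ m))) :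
    Subgroup.centralizer ((S : Subgroup ↥(twistedG2 K (3 ^ m))) : Set ↥(twistedG2 K (3 ^ m))) = S ∧
      Nat.card (Subgroup.normalizer
        ((S : Subgroup ↥(twistedG2 K (3 ^ m))) : Set ↥(twistedG2 K (3 ^ m)))) = 168 := by
  obtain ⟨a₀, ha₀⟩ : ∃ a₀ : ↥(twistedG2 K (3 ^ m)),
      (a₀ : GL chevG2.Idx K) = (C.hh (-1) (-1) : GL chevG2.Idx K) :=
    ⟨⟨_, C.hh_neg_one_mem⟩, rfl⟩
  have h1 : a₀ ≠ 1 := by
    intro h
    apply C.hh_neg_one_ne_one
    rw [← ha₀, h]; rfl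
  have h2 : a₀ * a₀ = 1 := by
    apply Subtype.ext
    rw [Subgroup.coe_mul, ha₀, OneMemClass.coe_one, ← C.hh_one]
    apply Units.ext
    rw [Units.val_mul, C.hh_val _ _ (neg_ne_zero.mpr one_ne_zero) (neg_ne_zero.mpr one_ne_zero),
      C.hh_val _ _ one_ne_zero one_ne_zero, dg_mul]
    norm_num
  have hH : (a₀ : GL chevG2.Idx K) ∈ chevG2.diagonalSubgroup K := by
    rw [ha₀]
    exact C.hh_mem_H _ _ (neg_ne_zero.mpr one_ne_zero) (neg_ne_zero.mpr one_ne_zero)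
  obtain ⟨⟨Φ₀⟩, hSyl⟩ := h1152 a₀ hH h1 h2
  obtain ⟨a, haS, ha1, ⟨Φ⟩⟩ := hG0 ↥(twistedG2 K (3 ^ m))
    (Matrix.ProjectiveSpecialLinearGroup (Fin 2) K) S a₀ Φ₀ h1 h2
  obtain ⟨k, hk, hkeq⟩ := hAr m
  have hcard : Nat.card ↥(twistedG2 K (3 ^ m)) = 8 * k := by
    rw [C.card_twisted hK hcan hW, hkeq]
  refine final_abs hT hP hTr hCt ↥(twistedG2 K (3 ^ m))
    (Matrix.ProjectiveSpecialLinearGroup (Fin 2) K) S a Φ (hSyl S).1 (hSyl S).2 haS ha1
    (C.perfect hK hm) (fun V hV => ⟨hCe K m hK V hV, hN K m hK V hV⟩) ?_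
  rw [hcard]
  rintro ⟨j, hj⟩
  obtain ⟨i, hi⟩ := hk
  omega

end Cfsg.Agent.H45.R2
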