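import Cfsg.Agent.H45.R2Defs
/-!
Piece R11 of the team project S1152 + S1157 (helper45): the centraliser of the involution
`h(-1,-1)` in `²G₂(q)` is `ψ(SL₂) ∪ h(-1,-1) ψ(SL₂)`.
-/
set_option autoImplicit false
open Cfsg Cfsg.Lie

namespace Cfsg.Agent.H45.R2

open Cfsg.Agent.H22 Cfsg.Agent.H22.GEx Cfsg.Agent.H22.Ree Matrix

variable {K : Type*} [Field K] [CharP K 3]

theorem cent [Fintype K] {m : ℕ} (C : Ctx K (3 ^ m)) (hK : Fintype.card K = 3 ^ (2 * m + 1))
    (hcan : CanonG2 K) (hW : WeylG2 K) (hc : CommStmt (K := K)) (hv : ValStmt C) (ht : TorStmt C)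
    (ha : ACommStmt C) (hu : UFixStmt C) (hh : HFormStmt C) : CentStmt C := by
  intro g hg hga
  obtain ⟨a, ha_def⟩ : ∃ a : GL chevG2.Idx K, a = (C.hh (-1) (-1) : GL chevG2.Idx K) := ⟨_, rfl⟩
  rw [← ha_def] at hga ⊢
  have ha' : ∀ s : SpecialLinearGroup (Fin 2) K, a * psi C.τ s = psi C.τ s * a := by
    intro s; rw [ha_def]; exact ha s
  have hm1 : (-1 : K) ≠ 0 := neg_ne_zero.mpr one_ne_zero
  have haH : a ∈ chevG2.diagonalSubgroup K := by rw [ha_def]; exact C.hh_mem_H _ _ hm1 hm1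
  have haa : a * a = 1 := by
    rw [ha_def, ← C.hh_one]
    apply Units.ext
    rw [Units.val_mul, C.hh_val _ _ hm1 hm1, C.hh_val _ _ one_ne_zero one_ne_zero, dg_mul]
    norm_num
  have hainv : a⁻¹ = a := inv_eq_of_mul_eq_one_left haa
  have haH' : ∀ h ∈ chevG2.diagonalSubgroup K, a * h = h * a := by
    intro h hh'
    obtain ⟨s₁, s₂, h1, h2, rfl⟩ := C.exists_hh h hh'
    rw [ha_def]
    apply Units.ext
    rw [Units.val_mul, Units.val_mul, C.hh_val _ _ hm1 hm1, C.hh_val _ _ h1 h2, dg_mul, dg_mul,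
      mul_comm (-1) s₁, mul_comm (-1) s₂]
  have hmul := psi_mul hc C.τ
  have hn0 : psi C.τ SL2.nM = (C.n0 : GL chevG2.Idx K) := by
    rw [nM_eq, hmul, hmul, hv.1, hv.2, _root_.neg_neg, ← mul_assoc]
    rfl
  have hB : ∀ b ∈ chevG2.borelSubgroup K ⊓ twistedG2 K (3 ^ m),
      ∃ u ∈ chevG2.posUnipotent K ⊓ twistedG2 K (3 ^ m),
        ∃ h ∈ chevG2.diagonalSubgroup K ⊓ twistedG2 K (3 ^ m), b = u * h := by
    intro b hb
    obtain ⟨hb', hfix⟩ := C.fixed_of_mem b hb.2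
    exact C.fixed_B_decomp hK hcan ⟨b, hb'⟩ hb.1 hfix
  have hT : ∀ h ∈ chevG2.diagonalSubgroup K ⊓ twistedG2 K (3 ^ m),
      ∃ s, h = psi C.τ s ∨ h = a * psi C.τ s := by
    intro h hh'
    obtain ⟨p, hp, h1 | h1⟩ := hh h hh'
    · exact ⟨dM K p hp, Or.inl (by rw [ht p hp]; exact h1)⟩
    · exact ⟨dM K p hp, Or.inr (by rw [ht p hp, ha_def]; exact h1)⟩
  have hU : ∀ u ∈ chevG2.posUnipotent K ⊓ twistedG2 K (3 ^ m), a * u = u * a →
      ∃ s, u = psi C.τ s := by
    intro u hu' hcomm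
    obtain ⟨x, hx⟩ := hu u hu' (by rw [← ha_def]; exact hcomm)
    exact ⟨SL2.uM x, by rw [hv.1 x]; exact hx⟩
  rcases C.mem_decomp hK hcan hW g hg with hgB | ⟨b, hb, u', hu', rfl⟩
  · obtain ⟨u, hu1, h, hh1, rfl⟩ := hB g hgB
    have hau : a * u = u * a := by
      have e1 : a * u * h = u * a * h := by
        calc a * u * h = a * (u * h) := by rw [mul_assoc]
          _ = u * h * a := hga.symm
          _ = u * (h * a) := by rw [mul_assoc]
          _ = u * (a * h) := by rw [haH' h hh1.1]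
          _ = u * a * h := by rw [mul_assoc]
      exact mul_right_cancel e1
    obtain ⟨s₁, rfl⟩ := hU u hu1 hau
    obtain ⟨s₂, rfl | rfl⟩ := hT h hh1
    · exact ⟨s₁ * s₂, Or.inl (hmul s₁ s₂).symm⟩
    · refine ⟨s₁ * s₂, Or.inr ?_⟩
      rw [hmul, ← mul_assoc, ← mul_assoc, ha' s₁]
  · obtain ⟨u, hu1, h, hh1, rfl⟩ := hB b hb
    have han0 : a * (C.n0 : GL chevG2.Idx K) = (C.n0 : GL chevG2.Idx K) * a := by
      rw [← hn0]; exact ha' _
    have heq : (a * u * a * h) * (C.n0 : GL chevG2.Idx K) * (a * u' * a) =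
        u * h * (C.n0 : GL chevG2.Idx K) * u' := by
      calc (a * u * a * h) * (C.n0 : GL chevG2.Idx K) * (a * u' * a)
          = a * u * (a * h) * (C.n0 : GL chevG2.Idx K) * (a * u' * a) := by
            simp only [mul_assoc]
        _ = a * u * (h * a) * (C.n0 : GL chevG2.Idx K) * (a * u' * a) := by
            rw [haH' h hh1.1]
        _ = a * u * h * (a * (C.n0 : GL chevG2.Idx K)) * (a * u' * a) := by
            simp only [mul_assoc]
        _ = a * u * h * ((C.n0 : GL chevG2.Idx K) * a) * (a * u' * a) := by rw [han0]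
        _ = a * u * h * (C.n0 : GL chevG2.Idx K) * (a * a) * u' * a := by
            simp only [mul_assoc]
        _ = a * (u * h * (C.n0 : GL chevG2.Idx K) * u') * a := by
            rw [haa, mul_one]; simp only [mul_assoc]
        _ = (u * h * (C.n0 : GL chevG2.Idx K) * u') * a * a := by rw [← hga]
        _ = u * h * (C.n0 : GL chevG2.Idx K) * u' := by rw [mul_assoc, haa, mul_one]
    have hconjU : ∀ w ∈ chevG2.posUnipotent K, a * w * a ∈ chevG2.posUnipotent K := by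
      intro w hw
      have := C.H_conj_U a w haH hw
      rwa [hainv] at this
    have hb₁ : a * u * a * h ∈ chevG2.borelSubgroup K :=
      mul_mem (U_le_B (hconjU u hu1.1)) (H_le_B hh1.1)
    have hb₂ : u * h ∈ chevG2.borelSubgroup K := mul_mem (U_le_B hu1.1) (H_le_B hh1.1)
    have hu₁ : a * u' * a ∈ Um K (C.n0 : GL chevG2.Idx K) := by
      rw [C.Um_n0]; exact hconjU u' hu'.1
    have hu₂ : u' ∈ Um K (C.n0 : GL chevG2.Idx K) := by rw [C.Um_n0]; exact hu'.1
    obtain ⟨e1, e2⟩ := (hcan.2 (a * u * a * h) (u * h) C.n0 C.n0 (a * u' * a) u' hb₁ hb₂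
      C.n0_mem_N C.n0_mem_N hu₁ hu₂ heq).2 rfl
    have hau : a * u = u * a := by
      have e3 : a * u * a = u := mul_right_cancel e1
      calc a * u = a * u * (a * a) := by rw [haa, mul_one]
        _ = a * u * a * a := by rw [mul_assoc, mul_assoc, mul_assoc]
        _ = u * a := by rw [e3]
    have hau' : a * u' = u' * a := by
      calc a * u' = a * u' * (a * a) := by rw [haa, mul_one]
        _ = a * u' * a * a := by rw [mul_assoc, mul_assoc, mul_assoc]
        _ = u' * a := by rw [e2]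
    obtain ⟨s₁, rfl⟩ := hU u hu1 hau
    obtain ⟨s₃, rfl⟩ := hU u' hu' hau'
    obtain ⟨s₂, rfl | rfl⟩ := hT h hh1
    · refine ⟨s₁ * s₂ * SL2.nM * s₃, Or.inl ?_⟩
      rw [hmul, hmul, hmul, hn0]
    · refine ⟨s₁ * s₂ * SL2.nM * s₃, Or.inr ?_⟩
      rw [hmul, hmul, hmul, hn0, ← mul_assoc, ← mul_assoc, ← mul_assoc, ← mul_assoc, ha' s₁]

end Cfsg.Agent.H45.R2
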