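import Cfsg.Agent.H45.R2Defs
/-!
Piece R1 of the team project S1152 + S1157 (helper45): the rank one subgroups of `G₂` for the
orthogonal roots `a+b` and `3a+b` commute.
-/
set_option autoImplicit false
open Cfsg Cfsg.Lie

namespace Cfsg.Agent.H45.R2

open Cfsg.Agent.H22 Cfsg.Agent.H22.GEx Cfsg.Agent.H22.Ree Matrix

theorem cok_8_1 : commOK chevG2 3 8 1 := by decide +kernel
theorem cok_3_10 : commOK chevG2 3 3 10 := by decide +kernel

variable {K : Type*} [Field K] [CharP K 3] {e : ℕ} (C : Ctx K e)

theorem xg_comm_GL (k1 k2 : ℕ) (h : commOK chevG2 3 k1 k2) (s t : K) :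
    (xg K C.θ k2 t : GL chevG2.Idx K) * (xg K C.θ k1 s : GL chevG2.Idx K) =
      (xg K C.θ k1 s : GL chevG2.Idx K) * (xg K C.θ k2 t : GL chevG2.Idx K) := by
  have := congrArg Subtype.val (xg_comm K C.θ k1 k2 h s t)
  simpa using this

include C in
theorem comm : CommStmt (K := K) := by
  intro g h
  have hX : ∀ s : K, phi10 K h ∈ Subgroup.centralizer ({X8 K s} : Set (GL chevG2.Idx K)) := by
    intro s
    rw [phi10_apply]
    apply SL2.phi_mem
    · intro t
      rw [Subgroup.mem_centralizer_iff]
      rintro _ rfl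
      rw [X8_eq C, X10_eq C]
      exact (xg_comm_GL C 8 10 cok_8_10 s t).symm
    · intro t
      rw [Subgroup.mem_centralizer_iff]
      rintro _ rfl
      rw [X8_eq C, Y10_eq C]
      exact (xg_comm_GL C 8 1 cok_8_1 s t).symm
  have hY : ∀ s : K, phi10 K h ∈ Subgroup.centralizer ({Y8 K s} : Set (GL chevG2.Idx K)) := by
    intro s
    rw [phi10_apply]
    apply SL2.phi_mem
    · intro t
      rw [Subgroup.mem_centralizer_iff]
      rintro _ rfl
      rw [Y8_eq C, X10_eq C]
      exact (xg_comm_GL C 3 10 cok_3_10 s t).symm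
    · intro t
      rw [Subgroup.mem_centralizer_iff]
      rintro _ rfl
      rw [Y8_eq C, Y10_eq C]
      exact (xg_comm_GL C 3 1 cok_3_1 s t).symm
  have h8 : phi8 K g ∈ Subgroup.centralizer ({phi10 K h} : Set (GL chevG2.Idx K)) := by
    rw [phi8_apply]
    apply SL2.phi_mem
    · intro s
      rw [Subgroup.mem_centralizer_iff]
      rintro _ rfl
      have := hX s
      rw [Subgroup.mem_centralizer_iff] at this
      exact (this _ rfl).symm
    · intro s
      rw [Subgroup.mem_centralizer_iff]
      rintro _ rfl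
      have := hY s
      rw [Subgroup.mem_centralizer_iff] at this
      exact (this _ rfl).symm
  rw [Subgroup.mem_centralizer_iff] at h8
  exact (h8 _ rfl).symm

end Cfsg.Agent.H45.R2
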