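import Cfsg.Agent.H22.ChevSL2
import Cfsg.Agent.H22.ReeStab
import Cfsg.Agent.H22.ReeSyl
import Cfsg.Agent.H22.ReeCtx
/-!
Definitions and exact statements (as `Prop`-valued definitions) of the Ree-specific pieces of the
team project S1152 + S1157 (helper45), on top of helper22's Ree library: the homomorphism
`ψ = φ_{a+b} ∘ θ · φ_{3a+b} : SL₂(K) → ²G₂(K)` and the centraliser of the involution
`h(-1,-1)`.
-/
set_option autoImplicit false
open Cfsg Cfsg.Lie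

namespace Cfsg.Agent.H45.R2

open Cfsg.Agent.H22 Cfsg.Agent.H22.GEx Cfsg.Agent.H22.Ree Matrix

theorem hG2 : chevG2 ∈ [chevG2, chevB2, chevD4, chevF4, chevE6, chevE7, chevE8] := by simp

theorem chk8 : sl2Chk1 chevG2 8 = true := by decide +kernel

theorem chk10 : sl2Chk1 chevG2 10 = true := by decide +kernel

theorem neg8 : chevG2.neg 8 = 3 := by decide +kernel

theorem neg10 : chevG2.neg 10 = 1 := by decide +kernel

section defs

variable (K : Type*) [Field K]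

theorem facts8 : SL2Facts chevG2 K 8 :=
  sl2Facts_of_check tablesCheck_G2 maskCheck_G2 8 (by decide) chk8

theorem facts10 : SL2Facts chevG2 K 10 :=
  sl2Facts_of_check tablesCheck_G2 maskCheck_G2 10 (by decide) chk10

/-- `x_{a+b}(t)` as a unit -/
def X8 (t : K) : GL chevG2.Idx K := xU hG2 8 (by decide) t
/-- `x_{-(a+b)}(t)` as a unit -/
def Y8 (t : K) : GL chevG2.Idx K := xU hG2 3 (by decide) t
/-- `x_{3a+b}(t)` as a unit -/
def X10 (t : K) : GL chevG2.Idx K := xU hG2 10 (by decide) t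
/-- `x_{-(3a+b)}(t)` as a unit -/
def Y10 (t : K) : GL chevG2.Idx K := xU hG2 1 (by decide) t

theorem X8_val (t : K) : ((X8 K t : GL chevG2.Idx K) : Matrix chevG2.Idx chevG2.Idx K) =
    chevG2.x K 8 t := rfl
theorem Y8_val (t : K) : ((Y8 K t : GL chevG2.Idx K) : Matrix chevG2.Idx chevG2.Idx K) =
    chevG2.x K 3 t := rfl
theorem X10_val (t : K) : ((X10 K t : GL chevG2.Idx K) : Matrix chevG2.Idx chevG2.Idx K) =
    chevG2.x K 10 t := rfl
theorem Y10_val (t : K) : ((Y10 K t : GL chevG2.Idx K) : Matrix chevG2.Idx chevG2.Idx K) =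
    chevG2.x K 1 t := rfl

theorem rel8 : SL2.Rel (X8 K) (Y8 K) := by
  have h := sl2_rel (F := K) hG2 8 (by decide) (by rw [neg8]; decide) (facts8 K)
  have e : (xU (F := K) hG2 (chevG2.neg 8) (by rw [neg8]; decide)) = Y8 K := by
    funext t; apply Units.ext; show chevG2.x K (chevG2.neg 8) t = chevG2.x K 3 t; rw [neg8]
  rw [e] at h
  exact h

theorem rel10 : SL2.Rel (X10 K) (Y10 K) := by
  have h := sl2_rel (F := K) hG2 10 (by decide) (by rw [neg10]; decide) (facts10 K)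
  have e : (xU (F := K) hG2 (chevG2.neg 10) (by rw [neg10]; decide)) = Y10 K := by
    funext t; apply Units.ext; show chevG2.x K (chevG2.neg 10) t = chevG2.x K 1 t; rw [neg10]
  rw [e] at h
  exact h

/-- `SL₂(K) → ⟨X_{±(a+b)}⟩` -/
noncomputable def phi8 : SpecialLinearGroup (Fin 2) K →* GL chevG2.Idx K := SL2.phiHom (rel8 K)

/-- `SL₂(K) → ⟨X_{±(3a+b)}⟩` -/
noncomputable def phi10 : SpecialLinearGroup (Fin 2) K →* GL chevG2.Idx K := SL2.phiHom (rel10 K)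

theorem phi8_apply (g : SpecialLinearGroup (Fin 2) K) : phi8 K g = SL2.phi (X8 K) (Y8 K) g := rfl

theorem phi10_apply (g : SpecialLinearGroup (Fin 2) K) :
    phi10 K g = SL2.phi (X10 K) (Y10 K) g := rfl

theorem phi8_uM (s : K) : phi8 K (SL2.uM s) = X8 K s := SL2.phi_uM (rel8 K) s
theorem phi8_lM (s : K) : phi8 K (SL2.lM s) = Y8 K s := SL2.phi_lM (rel8 K) s
theorem phi10_uM (s : K) : phi10 K (SL2.uM s) = X10 K s := SL2.phi_uM (rel10 K) s
theorem phi10_lM (s : K) : phi10 K (SL2.lM s) = Y10 K s := SL2.phi_lM (rel10 K) s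

/-- the diagonal matrix `diag(p, p⁻¹)` -/
def dM (p : K) (hp : p ≠ 0) : SpecialLinearGroup (Fin 2) K :=
  ⟨!![p, 0; 0, p⁻¹], by simp [Matrix.det_fin_two, hp]⟩

end defs

variable {K : Type*} [Field K]

/-- the map `ψ(g) = φ_{a+b}(τ g) · φ_{3a+b}(g)` -/
noncomputable def psi (τ : K →+* K) (g : SpecialLinearGroup (Fin 2) K) : GL chevG2.Idx K :=
  phi8 K (SpecialLinearGroup.map τ g) * phi10 K g

theorem psi_one (τ : K →+* K) : psi τ 1 = 1 := by
  unfold psi; rw [map_one, map_one, map_one, mul_one]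

variable [CharP K 3] {e : ℕ} (C : Ctx K e)

/-- (R1) the two rank one subgroups commute -/
def CommStmt : Prop :=
  ∀ g h : SpecialLinearGroup (Fin 2) K, phi8 K g * phi10 K h = phi10 K h * phi8 K g

omit [CharP K 3] in
theorem psi_mul (hc : ∀ g h : SpecialLinearGroup (Fin 2) K,
    phi8 K g * phi10 K h = phi10 K h * phi8 K g) (τ : K →+* K)
    (g g' : SpecialLinearGroup (Fin 2) K) : psi τ (g * g') = psi τ g * psi τ g' := by
  unfold psi
  rw [map_mul, map_mul, map_mul, mul_assoc, mul_assoc, ← mul_assoc (phi8 K _) (phi10 K g),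
    hc, mul_assoc]

/-- `ψ` as a homomorphism -/
noncomputable def psiHom (hc : CommStmt (K := K)) (τ : K →+* K) :
    SpecialLinearGroup (Fin 2) K →* GL chevG2.Idx K :=
  MonoidHom.mk' (psi τ) (psi_mul hc τ)

omit [CharP K 3] in
theorem psiHom_apply (hc : CommStmt (K := K)) (τ : K →+* K) (g : SpecialLinearGroup (Fin 2) K) :
    psiHom hc τ g = psi τ g := rfl

omit [CharP K 3] in
theorem map_val (τ : K →+* K) (g : SpecialLinearGroup (Fin 2) K) (i j : Fin 2) :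
    (SpecialLinearGroup.map τ g).1 i j = τ (g.1 i j) := rfl

omit [CharP K 3] in
theorem map_uM (τ : K →+* K) (u : K) : SpecialLinearGroup.map τ (SL2.uM u) = SL2.uM (τ u) := by
  apply SL2.sl_ext <;> rw [map_val] <;> simp [SL2.uM]

omit [CharP K 3] in
theorem map_lM (τ : K →+* K) (u : K) : SpecialLinearGroup.map τ (SL2.lM u) = SL2.lM (τ u) := by
  apply SL2.sl_ext <;> rw [map_val] <;> simp [SL2.lM]

omit [CharP K 3] in
theorem map_dM (τ : K →+* K) (p : K) (hp : p ≠ 0) :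
    SpecialLinearGroup.map τ (dM K p hp) = dM K (τ p) ((map_ne_zero τ).mpr hp) := by
  apply SL2.sl_ext <;> rw [map_val] <;> simp [dM]

theorem X8_eq (t : K) : X8 K t = (xg K C.θ 8 t : GL chevG2.Idx K) :=
  Units.ext (by rw [X8_val, C.xg_val 8 (by decide)])

theorem Y8_eq (t : K) : Y8 K t = (xg K C.θ 3 t : GL chevG2.Idx K) :=
  Units.ext (by rw [Y8_val, C.xg_val 3 (by decide)])

theorem X10_eq (t : K) : X10 K t = (xg K C.θ 10 t : GL chevG2.Idx K) :=
  Units.ext (by rw [X10_val, C.xg_val 10 (by decide)])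

theorem Y10_eq (t : K) : Y10 K t = (xg K C.θ 1 t : GL chevG2.Idx K) :=
  Units.ext (by rw [Y10_val, C.xg_val 1 (by decide)])

omit [CharP K 3] in
theorem hE8_val (t : K) :
    ((SL2.hE (X8 K) (Y8 K) t : GL chevG2.Idx K) : Matrix chevG2.Idx chevG2.Idx K) =
      chevG2.hMat K 8 t := by
  have h := hE_val (F := K) hG2 8 (by decide) (by rw [neg8]; decide) t
  have e : (xU (F := K) hG2 (chevG2.neg 8) (by rw [neg8]; decide)) = Y8 K := by
    funext t; apply Units.ext; show chevG2.x K (chevG2.neg 8) t = chevG2.x K 3 t; rw [neg8]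
  rw [e] at h
  exact h

omit [CharP K 3] in
theorem hE10_val (t : K) :
    ((SL2.hE (X10 K) (Y10 K) t : GL chevG2.Idx K) : Matrix chevG2.Idx chevG2.Idx K) =
      chevG2.hMat K 10 t := by
  have h := hE_val (F := K) hG2 10 (by decide) (by rw [neg10]; decide) t
  have e : (xU (F := K) hG2 (chevG2.neg 10) (by rw [neg10]; decide)) = Y10 K := by
    funext t; apply Units.ext; show chevG2.x K (chevG2.neg 10) t = chevG2.x K 1 t; rw [neg10]
  rw [e] at h
  exact h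

omit [CharP K 3] in
/-- `n = u(1) l(-1) u(1)` -/
theorem nM_eq : (SL2.nM : SpecialLinearGroup (Fin 2) K) =
    SL2.uM 1 * (SL2.lM (-1) * SL2.uM 1) := by
  apply SL2.sl_ext
  · rw [SL2.uM_mul_00, SL2.lM_mul_00, SL2.lM_mul_10]; simp [SL2.nM, SL2.uM]
  · rw [SL2.uM_mul_01, SL2.lM_mul_01, SL2.lM_mul_11]; simp [SL2.nM, SL2.uM]
  · rw [SL2.uM_mul_10, SL2.lM_mul_10]; simp [SL2.nM, SL2.uM]
  · rw [SL2.uM_mul_11, SL2.lM_mul_11]; simp [SL2.nM, SL2.uM]

/-- (R2) the values of `ψ` on elementary matrices are Ree words -/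
def ValStmt : Prop :=
  (∀ u : K, psi C.τ (SL2.uM u) = (C.SP.R C.τ 0 u 0 : GL chevG2.Idx K)) ∧
  (∀ u : K, psi C.τ (SL2.lM u) = (C.SN.R C.τ 0 (-u) 0 : GL chevG2.Idx K))

/-- (R3) the values of `ψ` on the torus -/
def TorStmt : Prop :=
  ∀ (p : K) (hp : p ≠ 0),
    psi C.τ (dM K p hp) = (C.hh (C.τ p * p) (C.τ p ^ 3 * p) : GL chevG2.Idx K)

/-- (R4) `ψ` maps into `²G₂` -/
def MemStmt : Prop := ∀ g : SpecialLinearGroup (Fin 2) K, psi C.τ g ∈ twistedG2 K e

/-- (R5) the involution `h(-1,-1)` commutes with the image of `ψ` -/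
def ACommStmt : Prop :=
  ∀ g : SpecialLinearGroup (Fin 2) K,
    (C.hh (-1) (-1) : GL chevG2.Idx K) * psi C.τ g = psi C.τ g * (C.hh (-1) (-1) : GL chevG2.Idx K)

/-- (R6) the Bruhat form of `ψ(g)` -/
def FormStmt : Prop :=
  ∀ g : SpecialLinearGroup (Fin 2) K,
    (g.1 1 0 = 0 → psi C.τ g = (C.SP.R C.τ 0 (g.1 0 0 * g.1 0 1) 0 : GL chevG2.Idx K) *
      (C.hh (C.τ (g.1 0 0) * g.1 0 0) (C.τ (g.1 0 0) ^ 3 * g.1 0 0) : GL chevG2.Idx K)) ∧
    (g.1 1 0 ≠ 0 → ∃ u u' p : K, p ≠ 0 ∧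
      psi C.τ g = (C.SP.R C.τ 0 u 0 : GL chevG2.Idx K) *
        (C.hh (C.τ p * p) (C.τ p ^ 3 * p) : GL chevG2.Idx K) * (C.n0 : GL chevG2.Idx K) *
        (C.SP.R C.τ 0 u' 0 : GL chevG2.Idx K))

/-- (R7) the kernel of `ψ` is `{±1}` and `h(-1,-1)` is not in the image -/
def KerStmt : Prop :=
  (∀ g : SpecialLinearGroup (Fin 2) K, psi C.τ g = 1 → g = 1 ∨ g = -1) ∧
  psi C.τ (-1) = 1 ∧
  ∀ g : SpecialLinearGroup (Fin 2) K, psi C.τ g ≠ (C.hh (-1) (-1) : GL chevG2.Idx K)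

/-- (R8) conjugation of Ree words by `h(-1,-1)` -/
def ConjRStmt : Prop :=
  ∀ t u v : K, C.hh (-1) (-1) * C.SP.R C.τ t u v = C.SP.R C.τ (-t) u (-v) * C.hh (-1) (-1)

/-- (R9) the elements of `U¹` commuting with `h(-1,-1)` -/
def UFixStmt : Prop :=
  ∀ x : GL chevG2.Idx K, x ∈ chevG2.posUnipotent K ⊓ twistedG2 K e →
    (C.hh (-1) (-1) : GL chevG2.Idx K) * x = x * (C.hh (-1) (-1) : GL chevG2.Idx K) →
    ∃ u : K, x = (C.SP.R C.τ 0 u 0 : GL chevG2.Idx K)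

/-- (R10) `H¹ = ψ(torus) × ⟨h(-1,-1)⟩` -/
def HFormStmt : Prop :=
  ∀ h : GL chevG2.Idx K, h ∈ chevG2.diagonalSubgroup K ⊓ twistedG2 K e →
    ∃ p : K, p ≠ 0 ∧ (h = (C.hh (C.τ p * p) (C.τ p ^ 3 * p) : GL chevG2.Idx K) ∨
      h = (C.hh (-1) (-1) : GL chevG2.Idx K) *
        (C.hh (C.τ p * p) (C.τ p ^ 3 * p) : GL chevG2.Idx K))

/-- (R11) the centraliser of `h(-1,-1)` in `²G₂` is `ψ(SL₂) ∪ h(-1,-1) ψ(SL₂)` -/
def CentStmt : Prop :=
  ∀ g : GL chevG2.Idx K, g ∈ twistedG2 K e →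
    g * (C.hh (-1) (-1) : GL chevG2.Idx K) = (C.hh (-1) (-1) : GL chevG2.Idx K) * g →
    ∃ s : SpecialLinearGroup (Fin 2) K,
      g = psi C.τ s ∨ g = (C.hh (-1) (-1) : GL chevG2.Idx K) * psi C.τ s

/-- (R0) the only involution of `H¹` is `h(-1,-1)` -/
def InvStmt : Prop :=
  ∀ x : GL chevG2.Idx K, x ∈ chevG2.diagonalSubgroup K ⊓ twistedG2 K e → x ≠ 1 → x * x = 1 →
    x = (C.hh (-1) (-1) : GL chevG2.Idx K)

end Cfsg.Agent.H45.R2
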