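import Cfsg.Agent.H45.R2Defs
/-!
Pieces R2, R3 of the team project S1152 + S1157 (helper45): the values of `ψ` on elementary and
diagonal matrices.
-/
set_option autoImplicit false
open Cfsg Cfsg.Lie

namespace Cfsg.Agent.H45.R2

open Cfsg.Agent.H22 Cfsg.Agent.H22.GEx Cfsg.Agent.H22.Ree Matrix

variable {K : Type*} [Field K] [CharP K 3] {e : ℕ} (C : Ctx K e)

theorem val : ValStmt C := by
  constructor
  · intro u
    unfold psi
    rw [map_uM, phi8_uM, phi10_uM]
    apply Units.ext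
    rw [Units.val_mul, X8_val, X10_val, C.RP_val', Ctx.wordMat6]
    simp only [map_zero, mul_zero, zero_add, x_zero, one_mul, mul_one]
  · intro u
    unfold psi
    rw [map_lM, phi8_lM, phi10_lM]
    apply Units.ext
    rw [Units.val_mul, Y8_val, Y10_val, C.RN_val', Ctx.wordMat6]
    simp only [map_zero, mul_zero, zero_add, x_zero, one_mul, mul_one, neg_zero, map_neg]
    rw [_root_.neg_neg, _root_.neg_neg]

theorem tor : TorStmt C := by
  intro p hp
  have hτp : C.τ p ≠ 0 := (map_ne_zero C.τ).mpr hp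
  unfold psi
  rw [map_dM, phi8_apply, phi10_apply]
  have e8 : SL2.phi (X8 K) (Y8 K) (dM K (C.τ p) hτp) = SL2.hE (X8 K) (Y8 K) (C.τ p) := by
    unfold SL2.phi
    have h10 : (dM K (C.τ p) hτp).1 1 0 = 0 := by simp [dM]
    have h00 : (dM K (C.τ p) hτp).1 0 0 = C.τ p := by simp [dM]
    have h01 : (dM K (C.τ p) hτp).1 0 1 = 0 := by simp [dM]
    rw [if_pos h10, h00, h01, mul_zero, SL2.x_zero (rel8 K), one_mul]
  have e10 : SL2.phi (X10 K) (Y10 K) (dM K p hp) = SL2.hE (X10 K) (Y10 K) p := by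
    unfold SL2.phi
    have h10 : (dM K p hp).1 1 0 = 0 := by simp [dM]
    have h00 : (dM K p hp).1 0 0 = p := by simp [dM]
    have h01 : (dM K p hp).1 0 1 = 0 := by simp [dM]
    rw [if_pos h10, h00, h01, mul_zero, SL2.x_zero (rel10 K), one_mul]
  rw [e8, e10]
  apply Units.ext
  rw [Units.val_mul, hE8_val, hE10_val, hMat_8_10 _ _ hτp hp,
    C.hh_val _ _ (mul_ne_zero hτp hp) (mul_ne_zero (pow_ne_zero _ hτp) hp)]

end Cfsg.Agent.H45.R2
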