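import Cfsg.Agent.H96.G2L.G2Facts
import Cfsg.Agent.H22.ReeCtx
import Cfsg.Agent.H22.ReeOrd
import Cfsg.Agent.H45.R2Asm
import Cfsg.Agent.H45.R2Comm
import Cfsg.Agent.H45.R2Val
import Cfsg.Agent.H45.R2Cent
import Cfsg.Agent.H5.R2Inv
import Cfsg.Agent.H15.R2ACom
import Cfsg.Agent.H15.R2Mem
import Cfsg.Agent.H40.R2Form
import Cfsg.Agent.H40.R2HForm
import Cfsg.Agent.H7.R2Ker
import Cfsg.Agent.H19.R2ConjR
import Cfsg.Agent.H19.R2UFix
import Cfsg.Agent.H51.R2Iso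
import Cfsg.Agent.H65.R2ExistsE
import Cfsg.Agent.H65.R2Sylow
import Cfsg.Agent.H65.R2Arith
import Cfsg.Agent.H65.R2PSLKlein
import Cfsg.Agent.H5.R2ConjInv
import Cfsg.Agent.H62.R2Transfer
import Cfsg.Agent.H62.R2KleinAct
import Cfsg.Agent.H62.R2ProdShape
import Cfsg.Agent.H13.R2Prod
import Cfsg.Agent.H13.R2Transport
import Cfsg.Agent.H5.R2Count
import Cfsg.Agent.H51.R2PSLNorm
import Cfsg.Agent.H51.R2PSLCent
import Cfsg.Agent.H7.RCFinal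
import Cfsg.Agent.H7.RTFin

/-!
# Light copies of four results on the small Ree groups

The statements and proofs of `Cfsg.Agent.S1152.result`, `S1157.result`, `S1156.result` and
`S2359.result`, word for word, except that the four facts on the Chevalley group of type G2
(Steinberg presentation, unique factorisation in `U`, canonical form, `N/H ≅ W`) are taken from
helper96's G2-only library `Cfsg.Agent.H96.G2L.G2Facts` instead of the all-types statements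
S1077 / S1026 / S1100 / S1039.  The closure of this file holds no table of another type.
-/

set_option autoImplicit false
open Cfsg

namespace Cfsg.Agent.H45.RL

/-- Light copy of `Cfsg.Agent.S1152.result`. -/
theorem l1152 {K : Type*} [Field K] [Fintype K] {m : ℕ} (hK : Fintype.card K = 3 ^ (2 * m + 1))
    (a : ↥(Cfsg.Lie.twistedG2 K (3 ^ m))) (haH : (a : GL Cfsg.Lie.chevG2.Idx K) ∈ Cfsg.Lie.chevG2.diagonalSubgroup K) (ha1 : a ≠ 1) (ha2 : a * a = 1) :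
    Nonempty (↥(Subgroup.centralizer {a}) ≃* Multiplicative (ZMod 2) × Matrix.ProjectiveSpecialLinearGroup (Fin 2) K) ∧
      ∀ S : Sylow 2 ↥(Cfsg.Lie.twistedG2 K (3 ^ m)), Nat.card S = 8 ∧ ∀ x ∈ S, x * x = 1 := by
  have hc : CharP K 3 := Cfsg.Agent.H22.Ree.charP_three_of_card hK
  obtain ⟨C⟩ := Cfsg.Agent.H22.Ree.exists_ctx hK (Cfsg.Agent.H96.G2L.steinberg_G2 K)
    (Cfsg.Agent.H96.G2L.factor_G2 (F := K)).1
  have hcan : Cfsg.Agent.H22.Ree.CanonG2 K := Cfsg.Agent.H96.G2L.canon_G2 K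
  have hW : Cfsg.Agent.H22.Ree.WeylG2 K :=
    Cfsg.Agent.H96.G2L.weyl_G2 K
  have hcomm := Cfsg.Agent.H45.R2.comm C
  have hval := Cfsg.Agent.H45.R2.val C
  have htor := Cfsg.Agent.H45.R2.tor C
  have hmem := Cfsg.Agent.H15.R2.mem C hcomm hval
  have hac := Cfsg.Agent.H15.R2.acomm C
  have hform := Cfsg.Agent.H40.R2.form C hcomm hval htor
  have hker := Cfsg.Agent.H7.R2.ker C hcan hform
  have hufix := Cfsg.Agent.H19.R2.ufix C (Cfsg.Agent.H19.R2.conjR C)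
  have hhform := Cfsg.Agent.H40.R2.hform C hK
  have hcent := Cfsg.Agent.H45.R2.cent C hK hcan hW hcomm hval htor hac hufix hhform
  have hinv := Cfsg.Agent.H5.R2.inv C
  exact Cfsg.Agent.H45.R2.s1152_of_pieces hK C hcan hW hcomm hmem hac hker hcent hinv
    Cfsg.Agent.H51.R2.iso Cfsg.Agent.H65.R2.existsE Cfsg.Agent.H65.R2.sylow
    Cfsg.Agent.H65.R2.arith Cfsg.Agent.H65.R2.pslKlein a haH ha1 ha2

/-- Light copy of `Cfsg.Agent.S1157.result`. -/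
theorem l1157 {K : Type*} [Field K] [Fintype K] {m : ℕ} (hm : 1 ≤ m) (hK : Fintype.card K = 3 ^ (2 * m + 1))
    (S : Sylow 2 ↥(Cfsg.Lie.twistedG2 K (3 ^ m))) :
    Subgroup.centralizer ((S : Subgroup ↥(Cfsg.Lie.twistedG2 K (3 ^ m))) : Set ↥(Cfsg.Lie.twistedG2 K (3 ^ m))) = S ∧
      Nat.card (Subgroup.normalizer ((S : Subgroup ↥(Cfsg.Lie.twistedG2 K (3 ^ m))) : Set ↥(Cfsg.Lie.twistedG2 K (3 ^ m)))) = 168 := by
  have hc : CharP K 3 := Cfsg.Agent.H22.Ree.charP_three_of_card hK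
  obtain ⟨C⟩ := Cfsg.Agent.H22.Ree.exists_ctx hK (Cfsg.Agent.H96.G2L.steinberg_G2 K)
    (Cfsg.Agent.H96.G2L.factor_G2 (F := K)).1
  have hcan : Cfsg.Agent.H22.Ree.CanonG2 K := Cfsg.Agent.H96.G2L.canon_G2 K
  have hW : Cfsg.Agent.H22.Ree.WeylG2 K :=
    Cfsg.Agent.H96.G2L.weyl_G2 K
  exact Cfsg.Agent.H45.R2.s1157_of_pieces hm hK C hcan hW
    (fun a haH ha1 ha2 => Cfsg.Agent.H45.RL.l1152 hK a haH ha1 ha2)
    (fun G _ _ L _ S a₀ Φ h1 h2 => Cfsg.Agent.H5.R2.conjInv G L S a₀ Φ h1 h2)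
    Cfsg.Agent.H62.R2.transfer
    (Cfsg.Agent.H13.R2.prod Cfsg.Agent.H62.R2.kleinAct Cfsg.Agent.H62.R2.prodShape)
    Cfsg.Agent.H13.R2.transport Cfsg.Agent.H5.R2.count Cfsg.Agent.H51.R2.pslNorm
    Cfsg.Agent.H51.R2.pslCent Cfsg.Agent.H65.R2.arith S

/-- Light copy of `Cfsg.Agent.S1156.result`. -/
theorem l1156 {K : Type*} [Field K] [Fintype K] {m : ℕ} (hm : 1 ≤ m) (hK : Fintype.card K = 3 ^ (2 * m + 1))
    {p : ℕ} [Fact p.Prime] (hp : 3 < p) (P : Sylow p ↥(Cfsg.Lie.twistedG2 K (3 ^ m))) : IsCyclic (P : Subgroup ↥(Cfsg.Lie.twistedG2 K (3 ^ m))) := by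
  have hc : CharP K 3 := Cfsg.Agent.H22.Ree.charP_three_of_card hK
  obtain ⟨C⟩ := Cfsg.Agent.H22.Ree.exists_ctx hK (Cfsg.Agent.H96.G2L.steinberg_G2 K)
    (Cfsg.Agent.H96.G2L.factor_G2 (F := K)).1
  have hcan : Cfsg.Agent.H22.Ree.CanonG2 K := Cfsg.Agent.H96.G2L.canon_G2 K
  have hW : Cfsg.Agent.H22.Ree.WeylG2 K :=
    Cfsg.Agent.H96.G2L.weyl_G2 K
  exact Cfsg.Agent.H7.RC.final C hK hm hcan hW hp P

/-- Light copy of `Cfsg.Agent.S2359.result`. -/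
theorem l2359 {K : Type*} [Field K] [Fintype K] {m : ℕ} (hm : 1 ≤ m)
    (hK : Fintype.card K = 3 ^ (2 * m + 1)) (H : Subgroup ↥(Cfsg.Lie.twistedG2 K (3 ^ m))) (hH : IsCyclic H) :
    (Nat.card H = (3 ^ (2 * m + 1) - 1) / 2 →
      IsCyclic ↥(Subgroup.centralizer (H : Set ↥(Cfsg.Lie.twistedG2 K (3 ^ m)))) ∧
        Nat.card ↥(Subgroup.centralizer (H : Set ↥(Cfsg.Lie.twistedG2 K (3 ^ m)))) = 3 ^ (2 * m + 1) - 1 ∧
        ∀ A : Subgroup ↥(Cfsg.Lie.twistedG2 K (3 ^ m)), A ≤ H → A ≠ ⊥ →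
          Subgroup.centralizer (A : Set ↥(Cfsg.Lie.twistedG2 K (3 ^ m))) = Subgroup.centralizer (H : Set ↥(Cfsg.Lie.twistedG2 K (3 ^ m)))) ∧
    (Nat.card H = (3 ^ (2 * m + 1) + 1) / 4 →
      IsMulCommutative ↥(Subgroup.centralizer (H : Set ↥(Cfsg.Lie.twistedG2 K (3 ^ m)))) ∧
        Nat.card ↥(Subgroup.centralizer (H : Set ↥(Cfsg.Lie.twistedG2 K (3 ^ m)))) = 3 ^ (2 * m + 1) + 1 ∧
        (∀ x ∈ Subgroup.centralizer (H : Set ↥(Cfsg.Lie.twistedG2 K (3 ^ m))), orderOf x ≠ 4) ∧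
        ∀ A : Subgroup ↥(Cfsg.Lie.twistedG2 K (3 ^ m)), A ≤ H → A ≠ ⊥ →
          Subgroup.centralizer (A : Set ↥(Cfsg.Lie.twistedG2 K (3 ^ m))) = Subgroup.centralizer (H : Set ↥(Cfsg.Lie.twistedG2 K (3 ^ m)))) := by
  have hc : CharP K 3 := Cfsg.Agent.H22.Ree.charP_three_of_card hK
  obtain ⟨C⟩ := Cfsg.Agent.H22.Ree.exists_ctx hK (Cfsg.Agent.H96.G2L.steinberg_G2 K)
    (Cfsg.Agent.H96.G2L.factor_G2 (F := K)).1
  have hcan : Cfsg.Agent.H22.Ree.CanonG2 K := Cfsg.Agent.H96.G2L.canon_G2 K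
  have hW : Cfsg.Agent.H22.Ree.WeylG2 K :=
    Cfsg.Agent.H96.G2L.weyl_G2 K
  exact Cfsg.Agent.H7.RT.s2359 C hK hm hcan hW
    (Cfsg.Agent.H45.RL.l1152 hK (Cfsg.Agent.H7.RT.aEl C) (Cfsg.Agent.H7.RT.aEl_mem_H C)
      (Cfsg.Agent.H7.RT.aEl_ne_one C) (Cfsg.Agent.H7.RT.aEl_mul_self C)).2
    (fun S => Cfsg.Agent.H45.RL.l1157 hm hK S)
    (fun p _ hp P => Cfsg.Agent.H45.RL.l1156 hm hK hp P)
    H hH

end Cfsg.Agent.H45.RL
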