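import Cfsg.Agent.H45.S43Defs

/-!
# S2343 (team project, helper45): pieces S43-EX and S43-COUNTA (duplicates by helper45).
-/

set_option autoImplicit false

namespace Cfsg.Agent.H45.S43

open Matrix Cfsg.Agent.H45

universe u v

/-- (EX) -/
theorem ex' : StEx.{u, v} := by
  intro G _ F _ _ D ψ hψ k R hR
  have hq : ((Fintype.card F : ℕ) : ℂ) ≠ 0 := Nat.cast_ne_zero.mpr Fintype.card_ne_zero
  have hR' : R (D.uA ![0, 1]) ≠ 1 := hR
  obtain ⟨l, hl, hne⟩ := exists_lsIdem_ne_zero ψ R D.uA hψ hq D.uA_add ![0, 1] hR'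
    {l | l 1 ≠ 0}
    (by
      intro l hl
      have h0 : l 1 = 0 := by simpa using hl
      have : l ⬝ᵥ ![0, 1] = 0 := by
        simp [dotProduct, Fin.sum_univ_two, h0]
      rw [this, AddChar.map_zero_eq_one])
  exact ⟨l, hl, hne⟩

/-- (COUNTA) -/
theorem countA' : StCountA.{u, v} := by
  classical
  intro G _ F _ _ D ψ hψ k R hall hex
  obtain ⟨l₁, hl₁, hne₁⟩ := hex
  have hq : ((Fintype.card F : ℕ) : ℂ) ≠ 0 := Nat.cast_ne_zero.mpr Fintype.card_ne_zero
  have hcard := card_lsIdem_ne_zero_le ψ R D.uA hψ hq D.uA_add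
  -- an injection `Option (F × {c // c ≠ 0}) → {l // e_l ≠ 0}`
  obtain ⟨f, hf⟩ : ∃ f : Option (F × {c : F // ¬ (c = 0)}) →
      {l : Fin 2 → F // lsIdem ψ R D.uA l ≠ 0},
      ∀ o, (f o : Fin 2 → F) = o.elim l₁ (fun p => ![p.1, p.2.1]) := by
    refine ⟨fun o => ⟨o.elim l₁ (fun p => ![p.1, p.2.1]), ?_⟩, fun o => rfl⟩
    rcases o with _ | p
    · exact hne₁
    · exact hall _ p.2.2
  have hinj : Function.Injective f := by
    intro o o' h
    have h' := congrArg Subtype.val h
    rw [hf, hf] at h'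
    rcases o with _ | p <;> rcases o' with _ | p'
    · rfl
    · exfalso
      have : l₁ 1 = (![p'.1, p'.2.1] : Fin 2 → F) 1 := congrFun h' 1
      rw [hl₁] at this
      exact p'.2.2 (by simpa using this.symm)
    · exfalso
      have : (![p.1, p.2.1] : Fin 2 → F) 1 = l₁ 1 := congrFun h' 1
      rw [hl₁] at this
      exact p.2.2 (by simpa using this)
    · have h0 : (![p.1, p.2.1] : Fin 2 → F) 0 = (![p'.1, p'.2.1] : Fin 2 → F) 0 := congrFun h' 0
      have h1 : (![p.1, p.2.1] : Fin 2 → F) 1 = (![p'.1, p'.2.1] : Fin 2 → F) 1 := congrFun h' 1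
      have e0 : p.1 = p'.1 := by simpa using h0
      have e1 : p.2.1 = p'.2.1 := by simpa using h1
      congr 1
      exact Prod.ext e0 (Subtype.ext e1)
  have h2 := Nat.card_le_card_of_injective f hinj
  have h3 : Nat.card (Option (F × {c : F // ¬ (c = 0)})) =
      Fintype.card F ^ 2 - Fintype.card F + 1 := by
    rw [Nat.card_eq_fintype_card, Fintype.card_option, Fintype.card_prod,
      Fintype.card_subtype_compl, Fintype.card_subtype_eq]
    congr 1
    rw [Nat.mul_sub, mul_one, pow_two]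
  omega

end Cfsg.Agent.H45.S43
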