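import Cfsg.Agent.H45.S43Defs

/-!
# S2343 (team project, helper45): piece S43-FOUR (duplicate by helper45).
-/

set_option autoImplicit false

namespace Cfsg.Agent.H45.S43

open Matrix Cfsg.Agent.H45

universe u v

/-- (FOUR) -/
theorem four' : StFour.{u, v} := by
  intro hTr G _ F _ D k R htr
  obtain ⟨g1, hg1⟩ := D.j1_conj
  obtain ⟨g2, hg2⟩ := D.j2_conj
  obtain ⟨g12, hg12⟩ := D.j12_conj
  have tconj : ∀ g : G, Matrix.trace (R (g * D.i * g⁻¹)) = 0 := by
    intro g
    rw [map_mul, map_mul, Matrix.trace_mul_comm, ← Matrix.mul_assoc, ← map_mul, inv_mul_cancel,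
      map_one, Matrix.one_mul]
    exact htr
  have sconj : ∀ g : G, g * D.i * g⁻¹ * (g * D.i * g⁻¹) = 1 := by
    intro g
    calc g * D.i * g⁻¹ * (g * D.i * g⁻¹) = g * (D.i * D.i) * g⁻¹ := by group
      _ = 1 := by rw [D.i_sq]; group
  have t1 : Matrix.trace (R D.j1) = 0 := by rw [← hg1]; exact tconj g1
  have t2 : Matrix.trace (R D.j2) = 0 := by rw [← hg2]; exact tconj g2
  have t12 : Matrix.trace (R (D.j1 * D.j2)) = 0 := by rw [← hg12]; exact tconj g12
  have s1 : D.j1 * D.j1 = 1 := by rw [← hg1]; exact sconj g1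
  have s2 : D.j2 * D.j2 = 1 := by rw [← hg2]; exact sconj g2
  obtain ⟨a, ha⟩ : ∃ a, a = R D.j1 := ⟨_, rfl⟩
  obtain ⟨b, hb⟩ : ∃ b, b = R D.j2 := ⟨_, rfl⟩
  have haa : a * a = 1 := by rw [ha, ← map_mul, s1, map_one]
  have hbb : b * b = 1 := by rw [hb, ← map_mul, s2, map_one]
  have hab : a * b = b * a := by rw [ha, hb, ← map_mul, ← map_mul, D.j_comm]
  have hRab : R (D.j1 * D.j2) = a * b := by rw [ha, hb, map_mul]
  have haS : a * (1 + a + b + a * b) = 1 + a + b + a * b := by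
    rw [mul_add, mul_add, mul_add, mul_one, haa, ← mul_assoc, haa, one_mul]; abel
  have hbS : b * (1 + a + b + a * b) = 1 + a + b + a * b := by
    rw [mul_add, mul_add, mul_add, mul_one, hbb, ← mul_assoc, ← hab, mul_assoc a b b, hbb,
      mul_one]; abel
  have key : (1 + a + b + a * b) * (1 + a + b + a * b) = (4 : ℂ) • (1 + a + b + a * b) := by
    have e1 : (1 + a + b + a * b) * (1 + a + b + a * b) =
        (1 + a + b + a * b) + a * (1 + a + b + a * b) + b * (1 + a + b + a * b) +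
          a * (b * (1 + a + b + a * b)) := by
      rw [add_mul (1 + a + b) (a * b), add_mul (1 + a) b, add_mul 1 a, one_mul, mul_assoc a b]
    rw [e1, hbS, haS]
    have e2 : (4 : ℂ) • (1 + a + b + a * b) = (1 + a + b + a * b) + (1 + a + b + a * b) +
        (1 + a + b + a * b) + (1 + a + b + a * b) := by
      rw [show (4 : ℂ) = 1 + 1 + 1 + 1 by norm_num, add_smul, add_smul, add_smul, one_smul]
    rw [e2]
  have hP : ((1 / 4 : ℂ) • (1 + a + b + a * b)) * ((1 / 4 : ℂ) • (1 + a + b + a * b)) =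
      (1 / 4 : ℂ) • (1 + a + b + a * b) := by
    rw [Matrix.smul_mul, Matrix.mul_smul, key, smul_smul, smul_smul]
    congr 1
    norm_num
  obtain ⟨n, hn⟩ := hTr _ hP
  refine ⟨n, ?_⟩
  rw [Matrix.trace_smul, Matrix.trace_add, Matrix.trace_add, Matrix.trace_add, Matrix.trace_one,
    ← hRab, t12, ha, hb, t1, t2, Fintype.card_fin, add_zero, add_zero, add_zero, smul_eq_mul] at hn
  rw [← hn]
  ring

end Cfsg.Agent.H45.S43
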