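import Cfsg.Agent.H45.S43Defs

/-!
# S2343 (team project, helper45): piece S43-ORB (duplicate by helper45).
-/

set_option autoImplicit false

namespace Cfsg.Agent.H45.S43

open Matrix Cfsg.Agent.H45

universe u v

/-- a diagonal-type equivalence of `F²` -/
theorem exists_equiv_diag {F : Type v} [Field F] (c d : F) (hc : c ≠ 0) (hd : d ≠ 0) :
    ∃ σ : (Fin 2 → F) ≃ (Fin 2 → F), ∀ a, σ a = ![c * a 0, d * a 1] := by
  refine ⟨{ toFun := fun a => ![c * a 0, d * a 1]
            invFun := fun a => ![c⁻¹ * a 0, d⁻¹ * a 1]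
            left_inv := ?_
            right_inv := ?_ }, fun a => rfl⟩
  · intro a
    funext i
    fin_cases i
    · show c⁻¹ * (c * a 0) = a 0
      rw [← mul_assoc, inv_mul_cancel₀ hc, one_mul]
    · show d⁻¹ * (d * a 1) = a 1
      rw [← mul_assoc, inv_mul_cancel₀ hd, one_mul]
  · intro a
    funext i
    fin_cases i
    · show c * (c⁻¹ * a 0) = a 0
      rw [← mul_assoc, mul_inv_cancel₀ hc, one_mul]
    · show d * (d⁻¹ * a 1) = a 1
      rw [← mul_assoc, mul_inv_cancel₀ hd, one_mul]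

/-- a shear-type equivalence of `F²` -/
theorem exists_equiv_shear {F : Type v} [Field F] (t : F) :
    ∃ σ : (Fin 2 → F) ≃ (Fin 2 → F), ∀ a, σ a = ![a 0, a 1 + t * a 0] := by
  refine ⟨{ toFun := fun a => ![a 0, a 1 + t * a 0]
            invFun := fun a => ![a 0, a 1 - t * a 0]
            left_inv := ?_
            right_inv := ?_ }, fun a => rfl⟩
  · intro a
    funext i
    fin_cases i
    · rfl
    · show a 1 + t * a 0 - t * a 0 = a 1
      ring
  · intro a
    funext i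
    fin_cases i
    · rfl
    · show a 1 - t * a 0 + t * a 0 = a 1
      ring

/-- (ORB) -/
theorem orb' : StOrb.{u, v} := by
  intro G _ F _ _ D ψ k R l μ hl hμ
  obtain ⟨s, hs⟩ : ∃ s : Fˣ, (s : F) = l 1 / μ 1 := ⟨Units.mk0 _ (div_ne_zero hl hμ), rfl⟩
  have hκ : (D.κ s : F) ≠ 0 := (D.κ s).ne_zero
  obtain ⟨σH, hσH⟩ := exists_equiv_diag (D.κ s : F) (s : F) hκ s.ne_zero
  have hconjH : ∀ a, D.H s * D.uA a * (D.H s)⁻¹ = D.uA (σH a) := by
    intro a
    rw [hσH]
    show D.H s * D.A (a 0) (a 1) * (D.H s)⁻¹ = D.A ((D.κ s : F) * a 0) ((s : F) * a 1)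
    rw [D.H_conj, mul_inv_cancel_right]
  have h1 := lsIdem_conj ψ R D.uA (D.H s) σH l ![l 0 / (D.κ s : F), μ 1] hconjH (by
    intro a
    rw [hσH]
    simp only [dotProduct, Fin.sum_univ_two, Matrix.cons_val_zero, Matrix.cons_val_one]
    rw [hs]
    field_simp)
  obtain ⟨t, ht⟩ : ∃ t : F, t = (l 0 / (D.κ s : F) - μ 0) / μ 1 := ⟨_, rfl⟩
  obtain ⟨σX, hσX⟩ := exists_equiv_shear t
  have hconjX : ∀ a, D.X t * D.uA a * (D.X t)⁻¹ = D.uA (σX a) := by
    intro a
    rw [hσX]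
    show D.X t * D.A (a 0) (a 1) * (D.X t)⁻¹ = D.A (a 0) (a 1 + t * a 0)
    rw [D.X_conj, mul_inv_cancel_right]
  have h2 := lsIdem_conj ψ R D.uA (D.X t) σX ![l 0 / (D.κ s : F), μ 1] μ hconjX (by
    intro a
    rw [hσX]
    simp only [dotProduct, Fin.sum_univ_two, Matrix.cons_val_zero, Matrix.cons_val_one]
    rw [ht]
    field_simp
    ring)
  refine ⟨D.X t * D.H s, ?_⟩
  rw [map_mul, _root_.mul_inv_rev, map_mul, ← h2, ← h1]
  simp only [Matrix.mul_assoc]

end Cfsg.Agent.H45.S43
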