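import Cfsg.Agent.H45.S43Defs

/-!
# S2343 (team project, helper45): piece S43-TRIDEM (duplicate by helper45).
-/

set_option autoImplicit false

namespace Cfsg.Agent.H45.S43

open Matrix Cfsg.Agent.H45

/-- (TRIDEM) -/
theorem trIdem' : StTrIdem := by
  intro k M hM
  have hproj : LinearMap.IsProj (LinearMap.range (Matrix.toLin' M)) (Matrix.toLin' M) := by
    constructor
    · intro x; exact LinearMap.mem_range_self _ x
    · rintro x ⟨y, rfl⟩
      rw [Matrix.toLin'_apply, Matrix.toLin'_apply, Matrix.mulVec_mulVec, hM]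
  have h1 := hproj.trace
  rw [LinearMap.trace_eq_matrix_trace ℂ (Pi.basisFun ℂ (Fin k)), LinearMap.toMatrix_eq_toMatrix',
    LinearMap.toMatrix'_toLin'] at h1
  exact ⟨_, h1⟩

end Cfsg.Agent.H45.S43
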