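import Cfsg.Agent.H45.S43Defs

/-!
# S2343 (team project, helper45): piece S43-TRSUM (duplicate by helper45).
-/

set_option autoImplicit false

namespace Cfsg.Agent.H45.S43

open Matrix Cfsg.Agent.H45

universe u v

/-- (TRSUM) -/
theorem trSum' : StTrSum.{u, v} := by
  classical
  intro hOrb hTr G _ F _ _ D ψ hψ k R hA
  have hq : ((Fintype.card F : ℕ) : ℂ) ≠ 0 := Nat.cast_ne_zero.mpr Fintype.card_ne_zero
  obtain ⟨r, hr⟩ := hTr (lsIdem ψ R D.uA ![0, 1]) (lsIdem_mul_self ψ R D.uA hq D.uA_add _)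
  refine ⟨r, ?_⟩
  have htr : ∀ l : Fin 2 → F, l 1 ≠ 0 → Matrix.trace (lsIdem ψ R D.uA l) = r := by
    intro l hl
    obtain ⟨g, hg⟩ := hOrb D ψ R ![0, 1] l (by simp) hl
    rw [← hg, Matrix.trace_mul_comm, ← Matrix.mul_assoc, ← map_mul, inv_mul_cancel, map_one,
      Matrix.one_mul, hr]
  have h1 : (k : ℂ) = ∑ l : Fin 2 → F, Matrix.trace (lsIdem ψ R D.uA l) := by
    rw [← Matrix.trace_sum, sum_lsIdem ψ R D.uA hψ hq D.uA_add, Matrix.trace_one, Fintype.card_fin]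
  have h2 : ∀ l : Fin 2 → F, Matrix.trace (lsIdem ψ R D.uA l) =
      if l 1 = 0 then 0 else (r : ℂ) := by
    intro l
    split_ifs with h
    · rw [hA l h, Matrix.trace_zero]
    · exact htr l h
  rw [h1]
  simp_rw [h2]
  rw [← Equiv.sum_comp (finTwoArrowEquiv F).symm, Fintype.sum_prod_type]
  have h3 : ∀ x y : F, (if ((finTwoArrowEquiv F).symm (x, y)) 1 = 0 then (0 : ℂ) else (r : ℂ)) =
      (r : ℂ) - (if y = 0 then (r : ℂ) else 0) := by
    intro x y
    have e : ((finTwoArrowEquiv F).symm (x, y)) 1 = y := rfl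
    rw [e]
    split_ifs <;> simp
  simp_rw [h3]
  rw [Finset.sum_const, Finset.sum_sub_distrib, Finset.sum_const, Finset.sum_ite_eq',
    if_pos (Finset.mem_univ _), Finset.card_univ, nsmul_eq_mul, nsmul_eq_mul]
  ring

end Cfsg.Agent.H45.S43
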