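import Cfsg.Agent.H45.S43Defs
import Cfsg.Agent.H45.S43Orb

/-!
# S2343 (team project, helper45): piece S43-TRI (duplicate by helper45).
-/

set_option autoImplicit false

namespace Cfsg.Agent.H45.S43

open Matrix Cfsg.Agent.H45

universe u v

/-- (TRI) -/
theorem tri' : StTri.{u, v} := by
  classical
  intro G _ F _ _ D ψ hψ hq4 k R hA
  have hq : ((Fintype.card F : ℕ) : ℂ) ≠ 0 := Nat.cast_ne_zero.mpr Fintype.card_ne_zero
  have h2 : (2 : F) ≠ 0 := by
    intro h
    have hchar : ringChar F = 2 := by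
      have h' : ((2 : ℕ) : F) = 0 := by exact_mod_cast h
      have hd : ringChar F ∣ 2 := (ringChar.spec F 2).mp h'
      have hp := CharP.char_is_prime F (ringChar F)
      exact (Nat.prime_dvd_prime_iff_eq hp Nat.prime_two).mp hd
    have := FiniteField.even_card_iff_char_two.mp hchar
    omega
  obtain ⟨σ, hσ⟩ := exists_equiv_diag (1 : F) (-1) one_ne_zero (neg_ne_zero.mpr one_ne_zero)
  have hconj : ∀ a, D.i * D.uA a * D.i⁻¹ = D.uA (σ a) := by
    intro a
    rw [hσ]
    show D.i * D.A (a 0) (a 1) * D.i⁻¹ = D.A (1 * a 0) (-1 * a 1)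
    rw [D.i_conj, mul_inv_cancel_right, one_mul, neg_one_mul]
  have hc : ∀ l : Fin 2 → F,
      R D.i * lsIdem ψ R D.uA l * R D.i⁻¹ = lsIdem ψ R D.uA ![l 0, -l 1] := by
    intro l
    refine lsIdem_conj ψ R D.uA D.i σ l _ hconj ?_
    intro a
    rw [hσ]
    simp [dotProduct, Fin.sum_univ_two]
  have hsum : R D.i = ∑ l : Fin 2 → F, R D.i * lsIdem ψ R D.uA l := by
    rw [← Matrix.mul_sum, sum_lsIdem ψ R D.uA hψ hq D.uA_add, Matrix.mul_one]
  rw [hsum, Matrix.trace_sum]
  apply Finset.sum_eq_zero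
  intro l _
  by_cases hl : l 1 = 0
  · rw [hA l hl, Matrix.mul_zero, Matrix.trace_zero]
  · have hne : ![l 0, -l 1] ≠ l := by
      intro h
      have h1 : -l 1 = l 1 := by
        have := congrFun h 1
        simpa using this
      have h3 : (2 : F) * l 1 = 0 := by linear_combination -h1
      rcases mul_eq_zero.mp h3 with h | h
      · exact h2 h
      · exact hl h
    have hcomm : R D.i * lsIdem ψ R D.uA l = lsIdem ψ R D.uA ![l 0, -l 1] * R D.i := by
      rw [← hc l, Matrix.mul_assoc (R D.i * lsIdem ψ R D.uA l), ← map_mul, inv_mul_cancel,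
        map_one, Matrix.mul_one]
    calc Matrix.trace (R D.i * lsIdem ψ R D.uA l)
        = Matrix.trace (R D.i * (lsIdem ψ R D.uA l * lsIdem ψ R D.uA l)) := by
          rw [lsIdem_mul_self ψ R D.uA hq D.uA_add]
      _ = Matrix.trace (lsIdem ψ R D.uA ![l 0, -l 1] * R D.i * lsIdem ψ R D.uA l) := by
          rw [← Matrix.mul_assoc, hcomm]
      _ = Matrix.trace (lsIdem ψ R D.uA l * (lsIdem ψ R D.uA ![l 0, -l 1] * R D.i)) := by
          rw [Matrix.trace_mul_comm]
      _ = Matrix.trace ((lsIdem ψ R D.uA l * lsIdem ψ R D.uA ![l 0, -l 1]) * R D.i) := by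
          rw [Matrix.mul_assoc]
      _ = 0 := by
          rw [lsIdem_mul_of_ne ψ R D.uA hψ D.uA_add _ _ hne, Matrix.zero_mul, Matrix.trace_zero]

end Cfsg.Agent.H45.S43
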