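import Cfsg.Agent.H45.S8Strong
import Cfsg.Agent.H7.RCFaith
import Cfsg.Agent.H7.RCInvGen
import Cfsg.Agent.H8.RCInvTw
import Cfsg.Agent.H19.RCBlockHom
import Cfsg.Agent.S0811
import Cfsg.Agent.H64.MX2
import Cfsg.Agent.H18.DkMx6
import Cfsg.Agent.H11.S8Ar
import Cfsg.Agent.H15.S8C21
import Cfsg.Agent.H15.S8C22
import Cfsg.Agent.H15.S8C23
import Cfsg.Agent.H15.S8C24
import Cfsg.Agent.H15.S8HConj
import Cfsg.Agent.H20.S8TCount
import Cfsg.Agent.H22.S8OmA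
import Cfsg.Agent.H22.S8OmB
import Cfsg.Agent.H22.S8OmFixA
import Cfsg.Agent.H28.S8InvConj
import Cfsg.Agent.H29.S8Case2
import Cfsg.Agent.H29.S8Cop
import Cfsg.Agent.H29.S8Emb
import Cfsg.Agent.H29.S8HDvd
import Cfsg.Agent.H29.S8TI1
import Cfsg.Agent.H29.S8TI2
import Cfsg.Agent.H29.S8TI4
import Cfsg.Agent.H3.S8LA1
import Cfsg.Agent.H3.S8LA2
import Cfsg.Agent.H5.S8CycSub
import Cfsg.Agent.H5.S8NormEq
import Cfsg.Agent.H5.S8Ord6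
import Cfsg.Agent.H5.S8SubC
import Cfsg.Agent.H5.S8TI3
import Cfsg.Agent.H51.S8Dvd
import Cfsg.Agent.H67.S8NormH
import Cfsg.Agent.H68.S8Burn
import Cfsg.Agent.H68.S8Cls
import Cfsg.Agent.H68.S8FixCnt
import Cfsg.Agent.H68.S8InvCnt
import Cfsg.Agent.H72.S8Case1
import Cfsg.Agent.H72.S8Case34
import Cfsg.Agent.H72.S8HComm
import Cfsg.Agent.H72.S8KCent
import Cfsg.Agent.H73.S8Part
import Cfsg.Agent.H73.S8PslD
import Cfsg.Agent.H91.S8Dio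
import Cfsg.Agent.H91.S8GamK
import Cfsg.Agent.Helper55.S8Fpf
/-!
Team project S1158 (helper45): all pieces plugged in. The four cyclic subgroups of the small Ree
group and their normalisers, given a Ree context, the canonical form / Weyl group statements for
`G₂` and the statements S1152, S1156, S1157, S2359 (which the statement file supplies).
-/
set_option autoImplicit false
set_option synthInstance.maxHeartbeats 400000
open Cfsg Cfsg.Lie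

namespace Cfsg.Agent.H45.S8

open Cfsg.Agent.H22 Cfsg.Agent.H22.GEx Cfsg.Agent.H22.Ree Cfsg.Agent.H7.RT Cfsg.Agent.H7.RC Matrix

universe u

theorem dih811 {K : Type u} [Field K] [Fintype K] {m : ℕ} (hm : 1 ≤ m)
    (hK : Fintype.card K = 3 ^ (2 * m + 1)) (hArCop : StArCop) :
    ∃ H : Subgroup (Matrix.ProjectiveSpecialLinearGroup (Fin 2) K),
      IsCoatom H ∧ Nonempty (H ≃* DihedralGroup (2 * kk m)) := by
  obtain ⟨-, -, -, h4k, -, -, -, -, -, -, h2h, -⟩ := hArCop m hm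
  have hq27 : 27 ≤ 3 ^ (2 * m + 1) := by
    calc 27 = 3 ^ 3 := by norm_num
      _ ≤ 3 ^ (2 * m + 1) := Nat.pow_le_pow_right (by norm_num) (by omega)
  have h := Cfsg.Agent.S0811.result (F := K) hK
    (by simp only [Finset.mem_insert, Finset.mem_singleton]; omega)
  have e : (3 ^ (2 * m + 1) + 1) / Nat.gcd 2 (3 ^ (2 * m + 1) - 1) = 2 * kk m := by
    have h1 : 4 * kk m = 3 ^ (2 * m + 1) + 1 := h4k
    have h2 : 2 * ((3 ^ (2 * m + 1) - 1) / 2) = 3 ^ (2 * m + 1) - 1 := h2h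
    have hg : Nat.gcd 2 (3 ^ (2 * m + 1) - 1) = 2 := Nat.gcd_eq_left ⟨_, h2.symm⟩
    rw [hg]; omega
  rw [e] at h
  exact h

theorem s1158_final {K : Type u} [Field K] [Fintype K] [CharP K 3] {m : ℕ} (C : Ctx K (3 ^ m))
    (hK : Fintype.card K = 3 ^ (2 * m + 1)) (hm : 1 ≤ m) (hcan : CanonG2 K) (hW : WeylG2 K)
    (h1152 : ∀ a : ↥(twistedG2 K (3 ^ m)),
      (a : GL chevG2.Idx K) ∈ chevG2.diagonalSubgroup K → a ≠ 1 → a * a = 1 →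
      Nonempty (↥(Subgroup.centralizer {a}) ≃*
        Multiplicative (ZMod 2) × Matrix.ProjectiveSpecialLinearGroup (Fin 2) K) ∧
        ∀ S : Sylow 2 ↥(twistedG2 K (3 ^ m)), Nat.card S = 8 ∧ ∀ x ∈ S, x * x = 1)
    (h1157 : ∀ S : Sylow 2 ↥(twistedG2 K (3 ^ m)),
      Subgroup.centralizer ((S : Subgroup ↥(twistedG2 K (3 ^ m))) : Set ↥(twistedG2 K (3 ^ m))) = S ∧
      Nat.card (Subgroup.normalizer
        ((S : Subgroup ↥(twistedG2 K (3 ^ m))) : Set ↥(twistedG2 K (3 ^ m)))) = 168)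
    (h1156 : ∀ {p : ℕ} [Fact p.Prime], 3 < p → ∀ P : Sylow p ↥(twistedG2 K (3 ^ m)),
      IsCyclic (P : Subgroup ↥(twistedG2 K (3 ^ m))))
    (hSplit : HSplit ↥(twistedG2 K (3 ^ m)) m) (hQuarter : HQuarter ↥(twistedG2 K (3 ^ m)) m) :
    ∀ kn ∈ ({((3 ^ (2 * m + 1) - 1) / 2, 2 * (3 ^ (2 * m + 1) - 1)),
        ((3 ^ (2 * m + 1) + 1) / 4, 6 * (3 ^ (2 * m + 1) + 1)),
        (3 ^ (2 * m + 1) - 3 ^ (m + 1) + 1, 6 * (3 ^ (2 * m + 1) - 3 ^ (m + 1) + 1)),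
        (3 ^ (2 * m + 1) + 3 ^ (m + 1) + 1, 6 * (3 ^ (2 * m + 1) + 3 ^ (m + 1) + 1))} : Set (ℕ × ℕ)),
      ∃ A : Subgroup ↥(Cfsg.Lie.twistedG2 K (3 ^ m)), IsCyclic A ∧ Nat.card A = kn.1 ∧
        Nat.card (Subgroup.normalizer (A : Set ↥(Cfsg.Lie.twistedG2 K (3 ^ m)))) = kn.2 ∧
        ∀ A₀ : Subgroup ↥(Cfsg.Lie.twistedG2 K (3 ^ m)), A₀ ≤ A → A₀ ≠ ⊥ →
          Subgroup.normalizer (A₀ : Set ↥(Cfsg.Lie.twistedG2 K (3 ^ m))) =
            Subgroup.normalizer (A : Set ↥(Cfsg.Lie.twistedG2 K (3 ^ m))) := by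
  have htw : StInvTw K (3 ^ m) := Cfsg.Agent.H8.RC.invTw Cfsg.Agent.H7.RC.invGen (3 ^ m)
  have hF : StFaith K (3 ^ m) := Cfsg.Agent.H7.RC.faith C hK hm hcan hW htw Cfsg.Agent.H19.RC.blockHom
  have hq27 : 27 ≤ 3 ^ (2 * m + 1) := by
    calc 27 = 3 ^ 3 := by norm_num
      _ ≤ 3 ^ (2 * m + 1) := Nat.pow_le_pow_right (by norm_num) (by omega)
  have hq4 : 4 ≤ Fintype.card K := by rw [hK]; omega
  have hodd : Odd (Fintype.card K) := by rw [hK]; exact Odd.pow (by decide)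
  exact s1158_of_pieces C hK hm hcan hW h1152 h1157 h1156 hSplit hQuarter
    (Cfsg.Agent.H64.MX.simple_PSL2 hq4) (Cfsg.Agent.H18.Dk.card_PSL2_odd hodd)
    (dih811 hm hK Cfsg.Agent.H11.S8.arCop) hF
    (hOmCard := (Cfsg.Agent.H22.S8.omCard C hK hcan hW))
    (hOmTrans := (Cfsg.Agent.H22.S8.omTrans C hK hcan hW))
    (hOmThree := (Cfsg.Agent.H22.S8.omThree C hK hcan hW))
    (hOmStab := (Cfsg.Agent.H22.S8.omStab C hK hcan))
    (hOmFixA := (Cfsg.Agent.H22.S8.omFixA C hK hcan hW))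
    (hOm3 := (Cfsg.Agent.H22.S8.omThreeFix C hK hcan hW))
    (hH1 := (Cfsg.Agent.H22.S8.h1 C hK))
    (hNormH := (Cfsg.Agent.H67.S8.normH C hK hm hcan hW))
    (hAInv := (Cfsg.Agent.H22.S8.aInv C))
    (hLA1 := Cfsg.Agent.H3.S8.la1)
    (hLA2 := Cfsg.Agent.H3.S8.la2)
    (hOrd6 := Cfsg.Agent.H5.S8.ord6)
    (hNormEq := Cfsg.Agent.H5.S8.normEq)
    (hSubC := Cfsg.Agent.H5.S8.subC)
    (hCycSub := Cfsg.Agent.H5.S8.cycSub)
    (hTI1 := Cfsg.Agent.H29.S8.ti1)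
    (hTI2 := Cfsg.Agent.H29.S8.ti2)
    (hTI3 := Cfsg.Agent.H5.S8.ti3)
    (hTI4 := Cfsg.Agent.H29.S8.ti4)
    (hCop := Cfsg.Agent.H29.S8.cop)
    (hClassCount := Cfsg.Agent.H68.S8.classCount)
    (hPart := Cfsg.Agent.H73.S8.part)
    (hArOne := Cfsg.Agent.H11.S8.arOne)
    (hArTwo := Cfsg.Agent.H11.S8.arTwo)
    (hArThree := Cfsg.Agent.H11.S8.arThree)
    (hArT := Cfsg.Agent.H11.S8.arT)
    (hArCop := Cfsg.Agent.H11.S8.arCop)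
    (hDio := Cfsg.Agent.H91.S8.dio)
    (hBurn := Cfsg.Agent.H68.S8.burn)
    (hFixCnt := Cfsg.Agent.H68.S8.fixCnt)
    (hInvCnt := Cfsg.Agent.H68.S8.invCnt)
    (hInvConj := Cfsg.Agent.H28.S8.invConj)
    (hFpf := Cfsg.Agent.Helper55.S8.fpf)
    (hGamK := Cfsg.Agent.H91.S8.gamK)
    (hDvdSt := Cfsg.Agent.H51.S8.dvd)
    (hHConj := Cfsg.Agent.H15.S8.hConj)
    (hPslD := Cfsg.Agent.H73.S8.pslD)
    (hC21 := Cfsg.Agent.H15.S8.c21)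
    (hC22 := Cfsg.Agent.H15.S8.c22)
    (hC23 := Cfsg.Agent.H15.S8.c23)
    (hC24 := Cfsg.Agent.H15.S8.c24)
    (hCase1 := Cfsg.Agent.H72.S8.case1)
    (hCase2 := Cfsg.Agent.H29.S8.case2)
    (hCase34 := Cfsg.Agent.H72.S8.case34)
    (hKCent := Cfsg.Agent.H72.S8.kCent)
    (hHComm := Cfsg.Agent.H72.S8.hComm)
    (hTCount := Cfsg.Agent.H20.S8.tCount)
    (hHDvd := Cfsg.Agent.H29.S8.hDvd)
    (hEmb := Cfsg.Agent.H29.S8.emb)

theorem s8_facts_final {K : Type u} [Field K] [Fintype K] [CharP K 3] {m : ℕ} (C : Ctx K (3 ^ m))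
    (hK : Fintype.card K = 3 ^ (2 * m + 1)) (hm : 1 ≤ m) (hcan : CanonG2 K) (hW : WeylG2 K)
    (h1152 : ∀ a : ↥(twistedG2 K (3 ^ m)),
      (a : GL chevG2.Idx K) ∈ chevG2.diagonalSubgroup K → a ≠ 1 → a * a = 1 →
      Nonempty (↥(Subgroup.centralizer {a}) ≃*
        Multiplicative (ZMod 2) × Matrix.ProjectiveSpecialLinearGroup (Fin 2) K) ∧
        ∀ S : Sylow 2 ↥(twistedG2 K (3 ^ m)), Nat.card S = 8 ∧ ∀ x ∈ S, x * x = 1)
    (h1157 : ∀ S : Sylow 2 ↥(twistedG2 K (3 ^ m)),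
      Subgroup.centralizer ((S : Subgroup ↥(twistedG2 K (3 ^ m))) : Set ↥(twistedG2 K (3 ^ m))) = S ∧
      Nat.card (Subgroup.normalizer
        ((S : Subgroup ↥(twistedG2 K (3 ^ m))) : Set ↥(twistedG2 K (3 ^ m)))) = 168)
    (h1156 : ∀ {p : ℕ} [Fact p.Prime], 3 < p → ∀ P : Sylow p ↥(twistedG2 K (3 ^ m)),
      IsCyclic (P : Subgroup ↥(twistedG2 K (3 ^ m))))
    (hSplit : HSplit ↥(twistedG2 K (3 ^ m)) m) (hQuarter : HQuarter ↥(twistedG2 K (3 ^ m)) m) :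
    ReeS8 C := by
  have htw : StInvTw K (3 ^ m) := Cfsg.Agent.H8.RC.invTw Cfsg.Agent.H7.RC.invGen (3 ^ m)
  have hF : StFaith K (3 ^ m) := Cfsg.Agent.H7.RC.faith C hK hm hcan hW htw Cfsg.Agent.H19.RC.blockHom
  have hq27 : 27 ≤ 3 ^ (2 * m + 1) := by
    calc 27 = 3 ^ 3 := by norm_num
      _ ≤ 3 ^ (2 * m + 1) := Nat.pow_le_pow_right (by norm_num) (by omega)
  have hq4 : 4 ≤ Fintype.card K := by rw [hK]; omega
  have hodd : Odd (Fintype.card K) := by rw [hK]; exact Odd.pow (by decide)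
  exact s8_facts C hK hm hcan hW h1152 h1157 h1156 hSplit hQuarter
    (Cfsg.Agent.H64.MX.simple_PSL2 hq4) (Cfsg.Agent.H18.Dk.card_PSL2_odd hodd)
    (dih811 hm hK Cfsg.Agent.H11.S8.arCop) hF
    (hOmCard := (Cfsg.Agent.H22.S8.omCard C hK hcan hW))
    (hOmTrans := (Cfsg.Agent.H22.S8.omTrans C hK hcan hW))
    (hOmThree := (Cfsg.Agent.H22.S8.omThree C hK hcan hW))
    (hOmStab := (Cfsg.Agent.H22.S8.omStab C hK hcan))
    (hOmFixA := (Cfsg.Agent.H22.S8.omFixA C hK hcan hW))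
    (hOm3 := (Cfsg.Agent.H22.S8.omThreeFix C hK hcan hW))
    (hH1 := (Cfsg.Agent.H22.S8.h1 C hK))
    (hNormH := (Cfsg.Agent.H67.S8.normH C hK hm hcan hW))
    (hAInv := (Cfsg.Agent.H22.S8.aInv C))
    (hLA1 := Cfsg.Agent.H3.S8.la1)
    (hLA2 := Cfsg.Agent.H3.S8.la2)
    (hOrd6 := Cfsg.Agent.H5.S8.ord6)
    (hNormEq := Cfsg.Agent.H5.S8.normEq)
    (hSubC := Cfsg.Agent.H5.S8.subC)
    (hCycSub := Cfsg.Agent.H5.S8.cycSub)
    (hTI1 := Cfsg.Agent.H29.S8.ti1)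
    (hTI2 := Cfsg.Agent.H29.S8.ti2)
    (hTI3 := Cfsg.Agent.H5.S8.ti3)
    (hTI4 := Cfsg.Agent.H29.S8.ti4)
    (hCop := Cfsg.Agent.H29.S8.cop)
    (hClassCount := Cfsg.Agent.H68.S8.classCount)
    (hPart := Cfsg.Agent.H73.S8.part)
    (hArOne := Cfsg.Agent.H11.S8.arOne)
    (hArTwo := Cfsg.Agent.H11.S8.arTwo)
    (hArThree := Cfsg.Agent.H11.S8.arThree)
    (hArT := Cfsg.Agent.H11.S8.arT)
    (hArCop := Cfsg.Agent.H11.S8.arCop)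
    (hDio := Cfsg.Agent.H91.S8.dio)
    (hBurn := Cfsg.Agent.H68.S8.burn)
    (hFixCnt := Cfsg.Agent.H68.S8.fixCnt)
    (hInvCnt := Cfsg.Agent.H68.S8.invCnt)
    (hInvConj := Cfsg.Agent.H28.S8.invConj)
    (hFpf := Cfsg.Agent.Helper55.S8.fpf)
    (hGamK := Cfsg.Agent.H91.S8.gamK)
    (hDvdSt := Cfsg.Agent.H51.S8.dvd)
    (hHConj := Cfsg.Agent.H15.S8.hConj)
    (hPslD := Cfsg.Agent.H73.S8.pslD)
    (hC21 := Cfsg.Agent.H15.S8.c21)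
    (hC22 := Cfsg.Agent.H15.S8.c22)
    (hC23 := Cfsg.Agent.H15.S8.c23)
    (hC24 := Cfsg.Agent.H15.S8.c24)
    (hCase1 := Cfsg.Agent.H72.S8.case1)
    (hCase2 := Cfsg.Agent.H29.S8.case2)
    (hCase34 := Cfsg.Agent.H72.S8.case34)
    (hKCent := Cfsg.Agent.H72.S8.kCent)
    (hHComm := Cfsg.Agent.H72.S8.hComm)
    (hTCount := Cfsg.Agent.H20.S8.tCount)
    (hHDvd := Cfsg.Agent.H29.S8.hDvd)
    (hEmb := Cfsg.Agent.H29.S8.emb)

end Cfsg.Agent.H45.S8
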