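import Cfsg.Agent.H45.S7Asm
import Cfsg.Agent.H45.S8Fin
import Cfsg.Agent.H1.S7Ar7
import Cfsg.Agent.H1.S7C3Cnt
import Cfsg.Agent.H1.S7Inv2
import Cfsg.Agent.H11.S8Ar
import Cfsg.Agent.H12.S7F3
import Cfsg.Agent.H12.S7N3
import Cfsg.Agent.H12.S7U39
import Cfsg.Agent.H12.S7UB
import Cfsg.Agent.H15.S8HConj
import Cfsg.Agent.H45.S7UA
import Cfsg.Agent.H68.S8InvCnt
import Cfsg.Agent.H73.S7HallCnt
import Cfsg.Agent.H73.S7OrdCls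
import Cfsg.Agent.H73.S7QuartCnt1
import Cfsg.Agent.H73.S7SixCnt
import Cfsg.Agent.H73.S7TICnt
import Cfsg.Agent.H8.S7QuartCnt2
import Cfsg.Agent.H8.S7SplitCnt
/-!
Team project S2357 (helper45): all pieces plugged in.
-/
set_option autoImplicit false
set_option synthInstance.maxHeartbeats 400000
open Cfsg Cfsg.Lie

namespace Cfsg.Agent.H45.S7

open Cfsg.Agent.H45.S8 Cfsg.Agent.H22 Cfsg.Agent.H22.GEx Cfsg.Agent.H22.Ree Cfsg.Agent.H7.RT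

universe u

theorem s2357_final {K : Type u} [Field K] [Fintype K] [CharP K 3] {m : ℕ} (C : Ctx K (3 ^ m))
    (hK : Fintype.card K = 3 ^ (2 * m + 1)) (hm : 1 ≤ m) (hcan : CanonG2 K) (hW : WeylG2 K)
    (h1152 : ∀ a : ↥(twistedG2 K (3 ^ m)),
      (a : GL chevG2.Idx K) ∈ chevG2.diagonalSubgroup K → a ≠ 1 → a * a = 1 →
      Nonempty (↥(Subgroup.centralizer {a}) ≃*
        Multiplicative (ZMod 2) × Matrix.ProjectiveSpecialLinearGroup (Fin 2) K) ∧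
        ∀ S : Sylow 2 ↥(twistedG2 K (3 ^ m)), Nat.card S = 8 ∧ ∀ x ∈ S, x * x = 1)
    (h1157 : ∀ S : Sylow 2 ↥(twistedG2 K (3 ^ m)),
      Subgroup.centralizer ((S : Subgroup ↥(twistedG2 K (3 ^ m))) : Set ↥(twistedG2 K (3 ^ m))) = S ∧
      Nat.card (Subgroup.normalizer
        ((S : Subgroup ↥(twistedG2 K (3 ^ m))) : Set ↥(twistedG2 K (3 ^ m)))) = 168)
    (h1156 : ∀ {p : ℕ} [Fact p.Prime], 3 < p → ∀ P : Sylow p ↥(twistedG2 K (3 ^ m)),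
      IsCyclic (P : Subgroup ↥(twistedG2 K (3 ^ m))))
    (hSplit : HSplit ↥(twistedG2 K (3 ^ m)) m) (hQuarter : HQuarter ↥(twistedG2 K (3 ^ m)) m) :
    Nat.card {g : ↥(twistedG2 K (3 ^ m)) // orderOf g = 2} = (3 ^ (2 * m + 1)) ^ 2 * ((3 ^ (2 * m + 1)) ^ 2 - 3 ^ (2 * m + 1) + 1) ∧
    Nat.card {g : ↥(twistedG2 K (3 ^ m)) // orderOf g = 3} = ((3 ^ (2 * m + 1)) ^ 2 - 1) * ((3 ^ (2 * m + 1)) ^ 3 + 1) ∧
    Nat.card {g : ↥(twistedG2 K (3 ^ m)) // orderOf g = 6} = (3 ^ (2 * m + 1)) ^ 2 * (3 ^ (2 * m + 1) - 1) * ((3 ^ (2 * m + 1)) ^ 3 + 1) ∧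
    Nat.card {g : ↥(twistedG2 K (3 ^ m)) // orderOf g = 9} = (3 ^ (2 * m + 1)) ^ 2 * (3 ^ (2 * m + 1) - 1) * ((3 ^ (2 * m + 1)) ^ 3 + 1) ∧
    (∀ i : ℕ, 2 < i → i ∣ 3 ^ (2 * m + 1) - 1 →
      2 * Nat.card {g : ↥(twistedG2 K (3 ^ m)) // orderOf g = i} = Nat.totient i * (3 ^ (2 * m + 1)) ^ 3 * ((3 ^ (2 * m + 1)) ^ 3 + 1)) ∧
    (∀ i : ℕ, 1 < i → i ∣ (3 ^ (2 * m + 1) + 1) / 4 →
      6 * Nat.card {g : ↥(twistedG2 K (3 ^ m)) // orderOf g = i} =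
          Nat.totient i * (3 ^ (2 * m + 1)) ^ 3 * (3 ^ (2 * m + 1) - 1) * ((3 ^ (2 * m + 1)) ^ 2 - 3 ^ (2 * m + 1) + 1) ∧
        2 * Nat.card {g : ↥(twistedG2 K (3 ^ m)) // orderOf g = 2 * i} =
          Nat.totient i * (3 ^ (2 * m + 1)) ^ 3 * (3 ^ (2 * m + 1) - 1) * ((3 ^ (2 * m + 1)) ^ 2 - 3 ^ (2 * m + 1) + 1)) ∧
    (∀ i : ℕ, 1 < i → i ∣ 3 ^ (2 * m + 1) - 3 ^ (m + 1) + 1 →
      6 * Nat.card {g : ↥(twistedG2 K (3 ^ m)) // orderOf g = i} =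
        Nat.totient i * (3 ^ (2 * m + 1)) ^ 3 * ((3 ^ (2 * m + 1)) ^ 2 - 1) * (3 ^ (2 * m + 1) + 3 ^ (m + 1) + 1)) ∧
    (∀ i : ℕ, 1 < i → i ∣ 3 ^ (2 * m + 1) + 3 ^ (m + 1) + 1 →
      6 * Nat.card {g : ↥(twistedG2 K (3 ^ m)) // orderOf g = i} =
        Nat.totient i * (3 ^ (2 * m + 1)) ^ 3 * ((3 ^ (2 * m + 1)) ^ 2 - 1) * (3 ^ (2 * m + 1) - 3 ^ (m + 1) + 1)) :=
  s2357_of_pieces C hK hm hcan hW
    (s8_facts_final C hK hm hcan hW h1152 h1157 h1156 hSplit hQuarter)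
    (hOrd := Cfsg.Agent.H73.S7.ordCount)
    (hInv2 := Cfsg.Agent.H1.S7.inv2)
    (hSplitCnt := Cfsg.Agent.H8.S7.splitCnt)
    (hQ1 := Cfsg.Agent.H73.S7.quartCnt1)
    (hQ2 := Cfsg.Agent.H8.S7.quartCnt2)
    (hHall := Cfsg.Agent.H73.S7.hallCnt)
    (hTI := Cfsg.Agent.H73.S7.tiCnt)
    (hSix := Cfsg.Agent.H73.S7.sixCnt)
    (hC3 := Cfsg.Agent.H1.S7.c3Cnt)
    (hAr7 := Cfsg.Agent.H1.S7.ar7)
    (hInvCnt := Cfsg.Agent.H68.S8.invCnt)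
    (hHConj := Cfsg.Agent.H15.S8.hConj)
    (hArCop := Cfsg.Agent.H11.S8.arCop)
    (hU39 := (Cfsg.Agent.H12.S7.u39 C hK))
    (hN3 := (Cfsg.Agent.H12.S7.n3 C hK hcan hW))
    (hUA := (Cfsg.Agent.H45.S7UA.ua C hK hcan))
    (hUB := (Cfsg.Agent.H12.S7.ub C hK hcan hW))
    (hF3 := (Cfsg.Agent.H12.S7.f3 C hK hcan hW))

end Cfsg.Agent.H45.S7
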