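import Cfsg.Agent.H45.S8Defs1
import Cfsg.Agent.H45.S8Defs2
import Cfsg.Agent.H22.ReeOrd
import Cfsg.Agent.H7.RCDefs1
/-!
Team project S1158 (helper45): the assembly. All pieces enter as hypotheses.
-/
set_option autoImplicit false
set_option synthInstance.maxHeartbeats 400000
open Cfsg Cfsg.Lie

namespace Cfsg.Agent.H45.S8

open Cfsg.Agent.H22 Cfsg.Agent.H22.GEx Cfsg.Agent.H22.Ree Cfsg.Agent.H7.RT Cfsg.Agent.H7.RC Matrix

universe u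

theorem no_four {G : Type u} [Group G] [Finite G]
    (hS2 : ∀ S : Sylow 2 G, ∀ x ∈ S, x * x = 1) (g : G) (hg : g ^ 4 = 1) : g ^ 2 = 1 := by
  have hp : IsPGroup 2 ↥(Subgroup.zpowers g) := by
    rintro ⟨x, hx⟩
    obtain ⟨i, rfl⟩ := Subgroup.mem_zpowers_iff.mp hx
    refine ⟨2, Subtype.ext ?_⟩
    show (g ^ i) ^ (2 ^ 2) = 1
    have : (g ^ i) ^ (2 ^ 2) = (g ^ 4) ^ i := by
      rw [← zpow_natCast (g ^ i), ← _root_.zpow_mul, mul_comm, _root_.zpow_mul, zpow_natCast]; norm_num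
    rw [this, hg, _root_.one_zpow]
  obtain ⟨Q, hQ⟩ := hp.exists_le_sylow
  have := hS2 Q g (hQ (Subgroup.mem_zpowers g))
  rw [pow_two]; exact this

theorem s1158_of_pieces {K : Type u} [Field K] [Fintype K] [CharP K 3] {m : ℕ} (C : Ctx K (3 ^ m))
    (hK : Fintype.card K = 3 ^ (2 * m + 1)) (hm : 1 ≤ m) (hcan : CanonG2 K) (hW : WeylG2 K)
    (h1152 : ∀ a : ↥(twistedG2 K (3 ^ m)),
      (a : GL chevG2.Idx K) ∈ chevG2.diagonalSubgroup K → a ≠ 1 → a * a = 1 →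
      Nonempty (↥(Subgroup.centralizer {a}) ≃*
        Multiplicative (ZMod 2) × Matrix.ProjectiveSpecialLinearGroup (Fin 2) K) ∧
        ∀ S : Sylow 2 ↥(twistedG2 K (3 ^ m)), Nat.card S = 8 ∧ ∀ x ∈ S, x * x = 1)
    (h1157 : ∀ S : Sylow 2 ↥(twistedG2 K (3 ^ m)),
      Subgroup.centralizer ((S : Subgroup ↥(twistedG2 K (3 ^ m))) : Set ↥(twistedG2 K (3 ^ m))) = S ∧
      Nat.card (Subgroup.normalizer
        ((S : Subgroup ↥(twistedG2 K (3 ^ m))) : Set ↥(twistedG2 K (3 ^ m)))) = 168)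
    (h1156 : ∀ {p : ℕ} [Fact p.Prime], 3 < p → ∀ P : Sylow p ↥(twistedG2 K (3 ^ m)),
      IsCyclic (P : Subgroup ↥(twistedG2 K (3 ^ m))))
    (hSplit : HSplit ↥(twistedG2 K (3 ^ m)) m) (hQuarter : HQuarter ↥(twistedG2 K (3 ^ m)) m)
    (hsimple : IsSimpleGroup (Matrix.ProjectiveSpecialLinearGroup (Fin 2) K))
    (hcardL : 2 * Nat.card (Matrix.ProjectiveSpecialLinearGroup (Fin 2) K) =
      Fintype.card K * (Fintype.card K ^ 2 - 1))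
    (h811 : ∃ H : Subgroup (Matrix.ProjectiveSpecialLinearGroup (Fin 2) K),
      IsCoatom H ∧ Nonempty (H ≃* DihedralGroup (2 * kk m)))
    (hF : StFaith K (3 ^ m))
    -- Ree pieces
    (hOmCard : StOmCard K m) (hOmTrans : StOmTrans K (3 ^ m)) (hOmThree : StOmThree K (3 ^ m))
    (hOmStab : StOmStab K m) (hOmFixA : StOmFixA C) (hOm3 : StOmThreeFix K (3 ^ m))
    (hH1 : StH1 K m) (hNormH : StNormH K m) (hAInv : StAInv C)
    -- abstract pieces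
    (hLA1 : StLA1.{0, u}) (hLA2 : StLA2.{0, u}) (hOrd6 : StOrd6) (hNormEq : StNormEq.{u})
    (hSubC : StSubC.{u}) (hCycSub : StCycSub.{u}) (hTI1 : StTI1.{u}) (hTI2 : StTI2.{u})
    (hTI3 : StTI3.{u}) (hTI4 : StTI4.{u}) (hCop : StCop.{u}) (hClassCount : StClassCount.{u})
    (hPart : StPart.{u}) (hArOne : StArOne) (hArTwo : StArTwo) (hArThree : StArThree)
    (hArT : StArT) (hArCop : StArCop) (hDio : StDio.{u}) (hBurn : StBurn.{u, u})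
    (hFixCnt : StFixCnt.{u}) (hInvCnt : StInvCnt.{u}) (hInvConj : StInvConj.{u})
    (hFpf : StFpf.{u, u}) (hGamK : StGamK.{u}) (hDvdSt : StDvd.{u}) (hHConj : StHConj.{u})
    (hPslD : StPslD.{u}) (hC21 : StC21.{u, u}) (hC22 : StC22.{u, u}) (hC23 : StC23.{u, u})
    (hC24 : StC24.{u})
    -- assembly pieces
    (hCase1 : StCase1.{u}) (hCase2 : StCase2.{u, u}) (hCase34 : StCase34.{u})
    (hKCent : StKCent.{u}) (hHComm : StHComm.{u, u}) (hTCount : StTCount.{u, u})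
    (hHDvd : StHDvd.{u, u}) (hEmb : StEmb.{u, u}) :
    ∀ kn ∈ ({((3 ^ (2 * m + 1) - 1) / 2, 2 * (3 ^ (2 * m + 1) - 1)),
        ((3 ^ (2 * m + 1) + 1) / 4, 6 * (3 ^ (2 * m + 1) + 1)),
        (3 ^ (2 * m + 1) - 3 ^ (m + 1) + 1, 6 * (3 ^ (2 * m + 1) - 3 ^ (m + 1) + 1)),
        (3 ^ (2 * m + 1) + 3 ^ (m + 1) + 1, 6 * (3 ^ (2 * m + 1) + 3 ^ (m + 1) + 1))} : Set (ℕ × ℕ)),
      ∃ A : Subgroup ↥(Cfsg.Lie.twistedG2 K (3 ^ m)), IsCyclic A ∧ Nat.card A = kn.1 ∧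
        Nat.card (Subgroup.normalizer (A : Set ↥(Cfsg.Lie.twistedG2 K (3 ^ m)))) = kn.2 ∧
        ∀ A₀ : Subgroup ↥(Cfsg.Lie.twistedG2 K (3 ^ m)), A₀ ≤ A → A₀ ≠ ⊥ →
          Subgroup.normalizer (A₀ : Set ↥(Cfsg.Lie.twistedG2 K (3 ^ m))) =
            Subgroup.normalizer (A : Set ↥(Cfsg.Lie.twistedG2 K (3 ^ m))) := by
  classical
  have hcardG : Nat.card ↥(twistedG2 K (3 ^ m)) = GG m := C.card_twisted hK hcan hW
  obtain ⟨hMG, hMcop, hM1, h4k, hkodd, hk1, hkM, hkG, hMq, hhodd, h2h, hh1, hhG, hpM, hpk, hph⟩ :=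
    hArCop m hm
  have hSylM : HSyl ↥(twistedG2 K (3 ^ m)) (MM m) := fun p hpf hp P =>
    h1156 (hpM p hpf.out hp) P
  have hSylk : HSyl ↥(twistedG2 K (3 ^ m)) (kk m) := fun p hpf hp P =>
    h1156 (hpk p hpf.out hp) P
  have hSylh : HSyl ↥(twistedG2 K (3 ^ m)) ((qq m - 1) / 2) := fun p hpf hp P =>
    h1156 (hph p hpf.out hp) P
  obtain ⟨ha1, ha2, haH⟩ := hAInv
  obtain ⟨⟨Φ⟩, hS2⟩ := h1152 (aEl C) haH ha1 ha2
  have hqK : Fintype.card K = qq m := hK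
  -- all involutions are conjugate
  obtain ⟨S⟩ : Nonempty (Sylow 2 ↥(twistedG2 K (3 ^ m))) := inferInstance
  have hconj := hInvConj ↥(twistedG2 K (3 ^ m)) S (hS2 S).1 (h1157 S).1 (h1157 S).2
  have hconja : ∀ z : ↥(twistedG2 K (3 ^ m)), z ≠ 1 → z * z = 1 →
      ∃ c : ↥(twistedG2 K (3 ^ m)), c * aEl C * c⁻¹ = z :=
    fun z hz1 hz2 => hconj (aEl C) z ha1 ha2 hz1 hz2
  have hno4 : ∀ g : ↥(twistedG2 K (3 ^ m)), g ^ 4 = 1 → g ^ 2 = 1 :=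
    no_four (fun S => (hS2 S).2)
  -- the centraliser of the involution
  have hCa : Nat.card ↥(Subgroup.centralizer ({aEl C} : Set ↥(twistedG2 K (3 ^ m)))) =
      qq m * (qq m ^ 2 - 1) := by
    rw [Nat.card_congr Φ.toEquiv, Nat.card_prod,
      Nat.card_eq_fintype_card (α := Multiplicative (ZMod 2)), Fintype.card_multiplicative,
      ZMod.card, ← hqK]
    exact hcardL
  obtain ⟨hH1c, hH1n, hH1fix⟩ := hH1
  -- case 1
  obtain ⟨A1, hA1c, hA1n, hA1N, hA1eq⟩ := hCase1 ↥(twistedG2 K (3 ^ m)) m hm hSplit hCycSub hNormEq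
    hArCop (H1G K (3 ^ m)) hH1c hH1n hNormH
  -- case 2
  obtain ⟨Hc, hHc, ⟨Ψ⟩⟩ := h811
  have hLcard : 2 * Nat.card (Matrix.ProjectiveSpecialLinearGroup (Fin 2) K) =
      (4 * kk m - 1) * ((4 * kk m - 1) ^ 2 - 1) := by
    rw [hcardL, hqK, h4k, Nat.add_sub_cancel]
  obtain ⟨D, hDc, hDn, hDN, hDconj⟩ := hPslD (Matrix.ProjectiveSpecialLinearGroup (Fin 2) K)
    (kk m) hkodd hk1 hsimple hLcard Hc hHc ⟨Ψ⟩
  obtain ⟨A2, hA2c, hA2n, hA2N, hA2NC, hA2eq⟩ := hCase2 ↥(twistedG2 K (3 ^ m))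
    (Matrix.ProjectiveSpecialLinearGroup (Fin 2) K) m hm hQuarter hC21 hC22 hC23 hC24 hNormEq
    hArCop (aEl C) Φ ha1 ha2 hconja D hDc hDn hDN hDconj
  -- the count of the elements of order dividing `M`
  have hGam := hGamK ↥(twistedG2 K (3 ^ m)) m hm hcardG hQuarter hSylk hClassCount A2 hA2c hA2n
    hA2NC
  have hcomm := hHComm ↥(twistedG2 K (3 ^ m)) (Om K (3 ^ m)) m hm hcardG hSplit hSylh hHConj
    hArCop (H1G K (3 ^ m)) hH1c hH1n (QuotientGroup.mk 1) hH1fix hOm3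
  have hT := hTCount ↥(twistedG2 K (3 ^ m)) (Om K (3 ^ m)) m hm hcardG hOmCard hOmTrans hOmThree
    hOmStab hcomm (aEl C) ha1 ha2 hOmFixA hCa hconja hno4 hGam hBurn hFixCnt hInvCnt hFpf hArT
    hArCop
  -- the hypotheses on `π(M)`-elements
  have hDvd := hHDvd ↥(twistedG2 K (3 ^ m)) (Om K (3 ^ m)) m hm hcardG hQuarter hSylk hKCent
    hDvdSt hOmStab hcomm (aEl C) ha1 ha2 hCa hconja A2 hA2c hA2n
  obtain ⟨f, hf⟩ := hF
  obtain ⟨hAb, hSix⟩ := hEmb ↥(twistedG2 K (3 ^ m)) SIdx K f hf card_SIdx (MM m)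
    (fun p hp hpM d => by rw [hqK]; exact hOrd6 m p hp hpM d) hLA1 hLA2
  obtain ⟨A3, A4, ⟨hA3c, hA3n, hA3N, hA3s⟩, ⟨hA4c, hA4n, hA4N, hA4s⟩⟩ :=
    hDio ↥(twistedG2 K (3 ^ m)) m hm hcardG hAb hDvd hSylM hSix hTI1 hTI2 hTI3 hTI4 hCop
      hClassCount hPart hArOne hArTwo hArThree hArCop hT
  have hA3eq := hCase34 ↥(twistedG2 K (3 ^ m)) A3 hA3c hA3s hSubC hNormEq
  have hA4eq := hCase34 ↥(twistedG2 K (3 ^ m)) A4 hA4c hA4s hSubC hNormEq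
  intro kn hkn
  simp only [Set.mem_insert_iff, Set.mem_singleton_iff] at hkn
  rcases hkn with rfl | rfl | rfl | rfl
  · exact ⟨A1, hA1c, hA1n, hA1N, hA1eq⟩
  · exact ⟨A2, hA2c, hA2n, hA2N, hA2eq⟩
  · exact ⟨A3, hA3c, hA3n, hA3N, hA3eq⟩
  · exact ⟨A4, hA4c, hA4n, hA4N, hA4eq⟩

end Cfsg.Agent.H45.S8
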