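import Cfsg.Agent.H45.S8Defs0
import Cfsg.Agent.H7.RTDefs
import Cfsg.Agent.H22.ReeStab
import Cfsg.Agent.H22.ReeSyl
/-!
Team project S1158 (helper45): exact statements of the pieces about the small Ree group itself,
on top of helper22's Ree library (`Ω = ²G₂ / B¹`, the `q³ + 1` points) and helper7's
`H7.RT.aEl` (the involution `h(-1,-1)`), `H7.RT.H1G` (`H¹` as a subgroup of `²G₂`).
-/
set_option autoImplicit false
set_option synthInstance.maxHeartbeats 400000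
open Cfsg Cfsg.Lie

namespace Cfsg.Agent.H45.S8

open Cfsg.Agent.H22 Cfsg.Agent.H22.GEx Cfsg.Agent.H22.Ree Cfsg.Agent.H7.RT

/-- the point set `Ω = ²G₂ / B¹` -/
abbrev Om (K : Type*) [Field K] (e : ℕ) : Type _ := ↥(twistedG2 K e) ⧸ B1sub K e

/-- (OMCARD) `|Ω| = q³ + 1` -/
def StOmCard (K : Type*) [Field K] (m : ℕ) : Prop :=
  Nat.card (Om K (3 ^ m)) = qq m ^ 3 + 1

/-- (OMTRANS) the action on `Ω` is 2-transitive -/
def StOmTrans (K : Type*) [Field K] (e : ℕ) : Prop :=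
  ∀ x y x' y' : Om K e, x ≠ y → x' ≠ y' → ∃ g : ↥(twistedG2 K e), g • x = x' ∧ g • y = y'

/-- (OMTHREE) an element fixing three points squares to 1 -/
def StOmThree (K : Type*) [Field K] (e : ℕ) : Prop :=
  ∀ (g : ↥(twistedG2 K e)) (x y z : Om K e), x ≠ y → x ≠ z → y ≠ z → g • x = x → g • y = y →
    g • z = z → g * g = 1

/-- (OMSTAB) an element fixing a point has order dividing `|B¹| = q³(q-1)` -/
def StOmStab (K : Type*) [Field K] (m : ℕ) : Prop :=
  ∀ (g : ↥(twistedG2 K (3 ^ m))) (x : Om K (3 ^ m)), g • x = x →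
    g ^ (qq m ^ 3 * (qq m - 1)) = 1

/-- (OMFIXA) the involution `a = h(-1,-1)` has exactly `q + 1` fixed points -/
def StOmFixA {K : Type*} [Field K] [CharP K 3] {m : ℕ} (C : Ctx K (3 ^ m)) : Prop :=
  Nat.card ↥(MulAction.fixedBy (Om K (3 ^ m)) (aEl C)) = qq m + 1

/-- (OMU) a non-trivial element of `U¹` fixes only the point `B¹` -/
def StOmU (K : Type*) [Field K] (e : ℕ) : Prop :=
  ∀ (u : ↥(twistedG2 K e)), u ∈ U1sub K e → u ≠ 1 → ∀ x : Om K e, u • x = x →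
    x = QuotientGroup.mk 1

/-- (OM3FIX) an element commuting with an element of order 3 fixes a point -/
def StOmThreeFix (K : Type*) [Field K] (e : ℕ) : Prop :=
  ∀ z g : ↥(twistedG2 K e), orderOf z = 3 → g * z = z * g → ∃ x : Om K e, g • x = x

/-- (H1) `H¹` is cyclic of order `q - 1` and fixes the point `B¹` -/
def StH1 (K : Type*) [Field K] (m : ℕ) : Prop :=
  IsCyclic ↥(H1G K (3 ^ m)) ∧ Nat.card ↥(H1G K (3 ^ m)) = qq m - 1 ∧
    ∀ h ∈ H1G K (3 ^ m), h • (QuotientGroup.mk 1 : Om K (3 ^ m)) = QuotientGroup.mk 1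

/-- (NORMH) `|N(H¹)| = 2(q - 1)` -/
def StNormH (K : Type*) [Field K] (m : ℕ) : Prop :=
  Nat.card ↥(Subgroup.normalizer ((H1G K (3 ^ m) : Subgroup ↥(twistedG2 K (3 ^ m))) :
    Set ↥(twistedG2 K (3 ^ m)))) = 2 * (qq m - 1)

/-- (AINV) `a = h(-1,-1)` is an involution of `H¹` -/
def StAInv {K : Type*} [Field K] [CharP K 3] {e : ℕ} (C : Ctx K e) : Prop :=
  aEl C ≠ 1 ∧ aEl C * aEl C = 1 ∧
    ((aEl C : ↥(twistedG2 K e)) : GL chevG2.Idx K) ∈ chevG2.diagonalSubgroup K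

end Cfsg.Agent.H45.S8
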