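import Cfsg.Agent.H45.S8Asm
/-!
Team project S1158 (helper45): the facts about the small Ree group assembled for S1158, exported
as one structure `ReeS8 C` for the sequels (S1159, S2357, S2358).
-/
set_option autoImplicit false
set_option synthInstance.maxHeartbeats 400000
open Cfsg Cfsg.Lie

namespace Cfsg.Agent.H45.S8

open Cfsg.Agent.H22 Cfsg.Agent.H22.GEx Cfsg.Agent.H22.Ree Cfsg.Agent.H7.RT Cfsg.Agent.H7.RC Matrix

universe u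

/-- the facts about the small Ree group assembled for S1158, for reuse (S1159, S2357, S2358) -/
structure ReeS8 {K : Type u} [Field K] [CharP K 3] {m : ℕ} (C : Ctx K (3 ^ m)) : Prop where
  cardG : Nat.card ↥(twistedG2 K (3 ^ m)) = GG m
  sylM : HSyl ↥(twistedG2 K (3 ^ m)) (MM m)
  sylk : HSyl ↥(twistedG2 K (3 ^ m)) (kk m)
  sylh : HSyl ↥(twistedG2 K (3 ^ m)) ((qq m - 1) / 2)
  split : HSplit ↥(twistedG2 K (3 ^ m)) m
  quarter : HQuarter ↥(twistedG2 K (3 ^ m)) m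
  a_ne : aEl C ≠ 1
  a_sq : aEl C * aEl C = 1
  invConj : ∀ z z' : ↥(twistedG2 K (3 ^ m)), z ≠ 1 → z * z = 1 → z' ≠ 1 → z' * z' = 1 → ∃ c : ↥(twistedG2 K (3 ^ m)), c * z * c⁻¹ = z'
  no4 : ∀ g : ↥(twistedG2 K (3 ^ m)), g ^ 4 = 1 → g ^ 2 = 1
  cardCa : Nat.card ↥(Subgroup.centralizer ({aEl C} : Set ↥(twistedG2 K (3 ^ m)))) = qq m * (qq m ^ 2 - 1)
  phi : Nonempty (↥(Subgroup.centralizer ({aEl C} : Set ↥(twistedG2 K (3 ^ m)))) ≃*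
    Multiplicative (ZMod 2) × Matrix.ProjectiveSpecialLinearGroup (Fin 2) K)
  h1 : StH1 K m
  normH : StNormH K m
  omCard : StOmCard K m
  omTrans : StOmTrans K (3 ^ m)
  omThree : StOmThree K (3 ^ m)
  omStab : StOmStab K m
  omFixA : StOmFixA C
  om3 : StOmThreeFix K (3 ^ m)
  comm : ∀ z g : ↥(twistedG2 K (3 ^ m)), (orderOf z).Prime → orderOf z ≠ 2 → orderOf z ∣ qq m * (qq m - 1) →
    g * z = z * g → ∃ x : Om K (3 ^ m), g • x = x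
  gam : 6 * (qq m + 1) * (GamSet ↥(twistedG2 K (3 ^ m)) (kk m)).ncard = GG m * (qq m - 3)
  tor : 3 * (TorSet ↥(twistedG2 K (3 ^ m)) (MM m)).ncard = TT m
  ab : HAb ↥(twistedG2 K (3 ^ m)) (MM m)
  dvd : HDvd ↥(twistedG2 K (3 ^ m)) (MM m)
  six : HSix ↥(twistedG2 K (3 ^ m)) (MM m)
  exA1 : ∃ A : Subgroup ↥(twistedG2 K (3 ^ m)), IsCyclic ↥A ∧ Nat.card ↥A = (qq m - 1) / 2 ∧
    Nat.card ↥(Subgroup.normalizer (A : Set ↥(twistedG2 K (3 ^ m)))) = 2 * (qq m - 1) ∧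
    ∀ A₀ : Subgroup ↥(twistedG2 K (3 ^ m)), A₀ ≤ A → A₀ ≠ ⊥ →
      Subgroup.normalizer (A₀ : Set ↥(twistedG2 K (3 ^ m))) = Subgroup.normalizer (A : Set ↥(twistedG2 K (3 ^ m)))
  exA2 : ∃ A : Subgroup ↥(twistedG2 K (3 ^ m)), IsCyclic ↥A ∧ Nat.card ↥A = kk m ∧
    Nat.card ↥(Subgroup.normalizer (A : Set ↥(twistedG2 K (3 ^ m)))) = 6 * (qq m + 1) ∧
    Nat.card ↥(Subgroup.normalizer
      ((Subgroup.centralizer (A : Set ↥(twistedG2 K (3 ^ m))) : Subgroup ↥(twistedG2 K (3 ^ m))) : Set ↥(twistedG2 K (3 ^ m)))) = 6 * (qq m + 1) ∧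
    ∀ A₀ : Subgroup ↥(twistedG2 K (3 ^ m)), A₀ ≤ A → A₀ ≠ ⊥ →
      Subgroup.normalizer (A₀ : Set ↥(twistedG2 K (3 ^ m))) = Subgroup.normalizer (A : Set ↥(twistedG2 K (3 ^ m)))
  exA34 : ∃ A₃ A₄ : Subgroup ↥(twistedG2 K (3 ^ m)),
    (IsCyclic ↥A₃ ∧ Nat.card ↥A₃ = qq m - rr m + 1 ∧
      Nat.card ↥(Subgroup.normalizer (A₃ : Set ↥(twistedG2 K (3 ^ m)))) = 6 * (qq m - rr m + 1) ∧ SelfC A₃ ∧
      ∀ A₀ : Subgroup ↥(twistedG2 K (3 ^ m)), A₀ ≤ A₃ → A₀ ≠ ⊥ →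
        Subgroup.normalizer (A₀ : Set ↥(twistedG2 K (3 ^ m))) = Subgroup.normalizer (A₃ : Set ↥(twistedG2 K (3 ^ m)))) ∧
    (IsCyclic ↥A₄ ∧ Nat.card ↥A₄ = qq m + rr m + 1 ∧
      Nat.card ↥(Subgroup.normalizer (A₄ : Set ↥(twistedG2 K (3 ^ m)))) = 6 * (qq m + rr m + 1) ∧ SelfC A₄ ∧
      ∀ A₀ : Subgroup ↥(twistedG2 K (3 ^ m)), A₀ ≤ A₄ → A₀ ≠ ⊥ →
        Subgroup.normalizer (A₀ : Set ↥(twistedG2 K (3 ^ m))) = Subgroup.normalizer (A₄ : Set ↥(twistedG2 K (3 ^ m))))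

theorem s8_facts {K : Type u} [Field K] [Fintype K] [CharP K 3] {m : ℕ} (C : Ctx K (3 ^ m))
    (hK : Fintype.card K = 3 ^ (2 * m + 1)) (hm : 1 ≤ m) (hcan : CanonG2 K) (hW : WeylG2 K)
    (h1152 : ∀ a : ↥(twistedG2 K (3 ^ m)),
      (a : GL chevG2.Idx K) ∈ chevG2.diagonalSubgroup K → a ≠ 1 → a * a = 1 →
      Nonempty (↥(Subgroup.centralizer {a}) ≃*
        Multiplicative (ZMod 2) × Matrix.ProjectiveSpecialLinearGroup (Fin 2) K) ∧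
        ∀ S : Sylow 2 ↥(twistedG2 K (3 ^ m)), Nat.card S = 8 ∧ ∀ x ∈ S, x * x = 1)
    (h1157 : ∀ S : Sylow 2 ↥(twistedG2 K (3 ^ m)),
      Subgroup.centralizer ((S : Subgroup ↥(twistedG2 K (3 ^ m))) : Set ↥(twistedG2 K (3 ^ m))) = S ∧
      Nat.card (Subgroup.normalizer
        ((S : Subgroup ↥(twistedG2 K (3 ^ m))) : Set ↥(twistedG2 K (3 ^ m)))) = 168)
    (h1156 : ∀ {p : ℕ} [Fact p.Prime], 3 < p → ∀ P : Sylow p ↥(twistedG2 K (3 ^ m)),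
      IsCyclic (P : Subgroup ↥(twistedG2 K (3 ^ m))))
    (hSplit : HSplit ↥(twistedG2 K (3 ^ m)) m) (hQuarter : HQuarter ↥(twistedG2 K (3 ^ m)) m)
    (hsimple : IsSimpleGroup (Matrix.ProjectiveSpecialLinearGroup (Fin 2) K))
    (hcardL : 2 * Nat.card (Matrix.ProjectiveSpecialLinearGroup (Fin 2) K) =
      Fintype.card K * (Fintype.card K ^ 2 - 1))
    (h811 : ∃ H : Subgroup (Matrix.ProjectiveSpecialLinearGroup (Fin 2) K),
      IsCoatom H ∧ Nonempty (H ≃* DihedralGroup (2 * kk m)))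
    (hF : StFaith K (3 ^ m))
    -- Ree pieces
    (hOmCard : StOmCard K m) (hOmTrans : StOmTrans K (3 ^ m)) (hOmThree : StOmThree K (3 ^ m))
    (hOmStab : StOmStab K m) (hOmFixA : StOmFixA C) (hOm3 : StOmThreeFix K (3 ^ m))
    (hH1 : StH1 K m) (hNormH : StNormH K m) (hAInv : StAInv C)
    -- abstract pieces
    (hLA1 : StLA1.{0, u}) (hLA2 : StLA2.{0, u}) (hOrd6 : StOrd6) (hNormEq : StNormEq.{u})
    (hSubC : StSubC.{u}) (hCycSub : StCycSub.{u}) (hTI1 : StTI1.{u}) (hTI2 : StTI2.{u})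
    (hTI3 : StTI3.{u}) (hTI4 : StTI4.{u}) (hCop : StCop.{u}) (hClassCount : StClassCount.{u})
    (hPart : StPart.{u}) (hArOne : StArOne) (hArTwo : StArTwo) (hArThree : StArThree)
    (hArT : StArT) (hArCop : StArCop) (hDio : StDio.{u}) (hBurn : StBurn.{u, u})
    (hFixCnt : StFixCnt.{u}) (hInvCnt : StInvCnt.{u}) (hInvConj : StInvConj.{u})
    (hFpf : StFpf.{u, u}) (hGamK : StGamK.{u}) (hDvdSt : StDvd.{u}) (hHConj : StHConj.{u})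
    (hPslD : StPslD.{u}) (hC21 : StC21.{u, u}) (hC22 : StC22.{u, u}) (hC23 : StC23.{u, u})
    (hC24 : StC24.{u})
    -- assembly pieces
    (hCase1 : StCase1.{u}) (hCase2 : StCase2.{u, u}) (hCase34 : StCase34.{u})
    (hKCent : StKCent.{u}) (hHComm : StHComm.{u, u}) (hTCount : StTCount.{u, u})
    (hHDvd : StHDvd.{u, u}) (hEmb : StEmb.{u, u}) :
    ReeS8 C := by
  classical
  have hcardG : Nat.card ↥(twistedG2 K (3 ^ m)) = GG m := C.card_twisted hK hcan hW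
  obtain ⟨hMG, hMcop, hM1, h4k, hkodd, hk1, hkM, hkG, hMq, hhodd, h2h, hh1, hhG, hpM, hpk, hph⟩ :=
    hArCop m hm
  have hSylM : HSyl ↥(twistedG2 K (3 ^ m)) (MM m) := fun p hpf hp P =>
    h1156 (hpM p hpf.out hp) P
  have hSylk : HSyl ↥(twistedG2 K (3 ^ m)) (kk m) := fun p hpf hp P =>
    h1156 (hpk p hpf.out hp) P
  have hSylh : HSyl ↥(twistedG2 K (3 ^ m)) ((qq m - 1) / 2) := fun p hpf hp P =>
    h1156 (hph p hpf.out hp) P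
  obtain ⟨ha1, ha2, haH⟩ := hAInv
  obtain ⟨⟨Φ⟩, hS2⟩ := h1152 (aEl C) haH ha1 ha2
  have hqK : Fintype.card K = qq m := hK
  -- all involutions are conjugate
  obtain ⟨S⟩ : Nonempty (Sylow 2 ↥(twistedG2 K (3 ^ m))) := inferInstance
  have hconj := hInvConj ↥(twistedG2 K (3 ^ m)) S (hS2 S).1 (h1157 S).1 (h1157 S).2
  have hconja : ∀ z : ↥(twistedG2 K (3 ^ m)), z ≠ 1 → z * z = 1 →
      ∃ c : ↥(twistedG2 K (3 ^ m)), c * aEl C * c⁻¹ = z :=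
    fun z hz1 hz2 => hconj (aEl C) z ha1 ha2 hz1 hz2
  have hno4 : ∀ g : ↥(twistedG2 K (3 ^ m)), g ^ 4 = 1 → g ^ 2 = 1 :=
    no_four (fun S => (hS2 S).2)
  -- the centraliser of the involution
  have hCa : Nat.card ↥(Subgroup.centralizer ({aEl C} : Set ↥(twistedG2 K (3 ^ m)))) =
      qq m * (qq m ^ 2 - 1) := by
    rw [Nat.card_congr Φ.toEquiv, Nat.card_prod,
      Nat.card_eq_fintype_card (α := Multiplicative (ZMod 2)), Fintype.card_multiplicative,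
      ZMod.card, ← hqK]
    exact hcardL
  have hH1' := hH1
  obtain ⟨hH1c, hH1n, hH1fix⟩ := hH1
  -- case 1
  obtain ⟨A1, hA1c, hA1n, hA1N, hA1eq⟩ := hCase1 ↥(twistedG2 K (3 ^ m)) m hm hSplit hCycSub hNormEq
    hArCop (H1G K (3 ^ m)) hH1c hH1n hNormH
  -- case 2
  obtain ⟨Hc, hHc, ⟨Ψ⟩⟩ := h811
  have hLcard : 2 * Nat.card (Matrix.ProjectiveSpecialLinearGroup (Fin 2) K) =
      (4 * kk m - 1) * ((4 * kk m - 1) ^ 2 - 1) := by
    rw [hcardL, hqK, h4k, Nat.add_sub_cancel]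
  obtain ⟨D, hDc, hDn, hDN, hDconj⟩ := hPslD (Matrix.ProjectiveSpecialLinearGroup (Fin 2) K)
    (kk m) hkodd hk1 hsimple hLcard Hc hHc ⟨Ψ⟩
  obtain ⟨A2, hA2c, hA2n, hA2N, hA2NC, hA2eq⟩ := hCase2 ↥(twistedG2 K (3 ^ m))
    (Matrix.ProjectiveSpecialLinearGroup (Fin 2) K) m hm hQuarter hC21 hC22 hC23 hC24 hNormEq
    hArCop (aEl C) Φ ha1 ha2 hconja D hDc hDn hDN hDconj
  -- the count of the elements of order dividing `M`
  have hGam := hGamK ↥(twistedG2 K (3 ^ m)) m hm hcardG hQuarter hSylk hClassCount A2 hA2c hA2n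
    hA2NC
  have hcomm := hHComm ↥(twistedG2 K (3 ^ m)) (Om K (3 ^ m)) m hm hcardG hSplit hSylh hHConj
    hArCop (H1G K (3 ^ m)) hH1c hH1n (QuotientGroup.mk 1) hH1fix hOm3
  have hT := hTCount ↥(twistedG2 K (3 ^ m)) (Om K (3 ^ m)) m hm hcardG hOmCard hOmTrans hOmThree
    hOmStab hcomm (aEl C) ha1 ha2 hOmFixA hCa hconja hno4 hGam hBurn hFixCnt hInvCnt hFpf hArT
    hArCop
  -- the hypotheses on `π(M)`-elements
  have hDvd := hHDvd ↥(twistedG2 K (3 ^ m)) (Om K (3 ^ m)) m hm hcardG hQuarter hSylk hKCent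
    hDvdSt hOmStab hcomm (aEl C) ha1 ha2 hCa hconja A2 hA2c hA2n
  obtain ⟨f, hf⟩ := hF
  obtain ⟨hAb, hSix⟩ := hEmb ↥(twistedG2 K (3 ^ m)) SIdx K f hf card_SIdx (MM m)
    (fun p hp hpM d => by rw [hqK]; exact hOrd6 m p hp hpM d) hLA1 hLA2
  obtain ⟨A3, A4, ⟨hA3c, hA3n, hA3N, hA3s⟩, ⟨hA4c, hA4n, hA4N, hA4s⟩⟩ :=
    hDio ↥(twistedG2 K (3 ^ m)) m hm hcardG hAb hDvd hSylM hSix hTI1 hTI2 hTI3 hTI4 hCop
      hClassCount hPart hArOne hArTwo hArThree hArCop hT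
  have hA3eq := hCase34 ↥(twistedG2 K (3 ^ m)) A3 hA3c hA3s hSubC hNormEq
  have hA4eq := hCase34 ↥(twistedG2 K (3 ^ m)) A4 hA4c hA4s hSubC hNormEq
  exact
    { cardG := hcardG, sylM := hSylM, sylk := hSylk, sylh := hSylh, split := hSplit,
      quarter := hQuarter, a_ne := ha1, a_sq := ha2, invConj := hconj, no4 := hno4, cardCa := hCa,
      phi := ⟨Φ⟩, h1 := hH1', normH := hNormH, omCard := hOmCard, omTrans := hOmTrans,
      omThree := hOmThree, omStab := hOmStab, omFixA := hOmFixA, om3 := hOm3, comm := hcomm,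
      gam := hGam, tor := hT, ab := hAb, dvd := hDvd, six := hSix,
      exA1 := ⟨A1, hA1c, hA1n, hA1N, hA1eq⟩,
      exA2 := ⟨A2, hA2c, hA2n, hA2N, hA2NC, hA2eq⟩,
      exA34 := ⟨A3, A4, ⟨hA3c, hA3n, hA3N, hA3s, hA3eq⟩, ⟨hA4c, hA4n, hA4N, hA4s, hA4eq⟩⟩ }

end Cfsg.Agent.H45.S8
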